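import Cfsg.Agent.Lib.FusionRankThree.CasesRegular
import Cfsg.Agent.Lib.Fusion.Stability
import Cfsg.Agent.Lib.Solvable.CoprimeMulAction
import Cfsg.Agent.Lib.PGroup.Basic

/-!
Automorphism groups of `p`-groups with Frattini quotient of order `p ^ 3` whose outer part has a
strongly `p`-embedded subgroup.
-/

set_option autoImplicit false
set_option linter.unusedSectionVars false

namespace CfsgLib.FusionRankThree

open Cfsg
open scoped commutatorElement

variable {p : ℕ} [Fact p.Prime] {P : Type*} [Group P] [Finite P]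

/-- The class of an element modulo the Frattini subgroup. -/
abbrev fr (w : P) : P ⧸ frattini P := QuotientGroup.mk w

theorem aut_mem_frattini (α : MulAut P) {w : P} (hw : w ∈ frattini P) : α w ∈ frattini P :=
  frattini_le_comap_frattini_of_surjective (φ := α.toMonoidHom) α.surjective hw

theorem fr_congr (α : MulAut P) {v w : P} (h : fr v = fr w) : fr (α v) = fr (α w) := by
  rw [fr, fr, QuotientGroup.eq] at h ⊢
  have := aut_mem_frattini α h
  rwa [map_mul, map_inv] at this

/-- The automorphisms in `A` acting trivially on the Frattini quotient. -/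
def frKer (A : Subgroup (MulAut P)) : Subgroup A where
  carrier := {α | ∀ w, fr ((α : MulAut P) w) = fr w}
  one_mem' w := rfl
  mul_mem' := fun {a b} ha hb w => by
    show fr ((a : MulAut P) ((b : MulAut P) w)) = fr w
    rw [fr_congr (a : MulAut P) (hb w)]
    exact ha w
  inv_mem' := fun {a} ha w => by
    have h := ha ((a : MulAut P)⁻¹ w)
    rw [MulAut.apply_inv_self] at h
    exact h.symm

theorem frKer_normal (A : Subgroup (MulAut P)) : (frKer A).Normal := ⟨fun n hn g w => by
  show fr ((g : MulAut P) ((n : MulAut P) ((g : MulAut P)⁻¹ w))) = fr w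
  rw [fr_congr (g : MulAut P) (hn ((g : MulAut P)⁻¹ w)), MulAut.apply_inv_self]⟩

theorem isPGroup_frKer (hP : IsPGroup p P) (A : Subgroup (MulAut P)) : IsPGroup p (frKer A) := by
  have : Finite (MulAut P) := Finite.of_injective _ (DFunLike.coe_injective (F := MulAut P))
  refine CfsgLib.Fusion.Stability.isPGroup_of_coprime_eq_one fun a ha => ?_
  obtain ⟨⟨α, hαA⟩, hker⟩ := a
  have hord : (orderOf α).Coprime p := by rwa [← Subgroup.orderOf_coe, ← Subgroup.orderOf_coe] at ha
  obtain ⟨k, hk⟩ := IsPGroup.iff_card.1 (hP.to_subgroup (frattini P))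
  have hmem : ∀ a : Subgroup.zpowers α, ∀ w : P, w⁻¹ * (a • w) ∈ frattini P := by
    rintro ⟨_, i, rfl⟩ w
    have h1 : (⟨α, hαA⟩ : A) ^ i ∈ frKer A := zpow_mem hker i
    have h2 := h1 w
    rw [fr, fr, QuotientGroup.eq] at h2
    have h3 := (frattini P).inv_mem h2
    show w⁻¹ * (α ^ i) w ∈ frattini P
    simpa [mul_inv_rev] using h3
  have h := CfsgLib.Solvable.smul_eq_self_of_trivial_on_frattini_quotient (A := Subgroup.zpowers α) (K := P)
    (by rw [Nat.card_zpowers, hk]; exact Nat.Coprime.pow_right k hord) hmem ⟨α, Subgroup.mem_zpowers α⟩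
  exact Subtype.ext (Subtype.ext (MulEquiv.ext h))

/-- The data of a group whose unipotent element is a transvection. -/
def TransData (A : Subgroup (MulAut P)) (p : ℕ) (α : MulAut P) : Prop :=
  ∃ e l z : P, fr (α e) = fr e * fr z ∧ fr (α l) = fr l ∧ fr (α z) = fr z ∧
    (∀ w : P, ∃ a b c : ℕ, fr w = fr e ^ a * fr l ^ b * fr z ^ c) ∧
    ∀ t t' : ℕ, ((t * t' : ℕ) : ZMod p) = 1 → ∃ τ ∈ A, fr (τ e) = fr e ^ t ∧ fr (τ l) = fr l ∧
      fr (τ z) = fr z ^ t' ∧ ∀ w, fr ((τ * α * τ⁻¹) w) = fr ((α ^ (t' * t')) w)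

/-- The data of a group whose unipotent element is a single Jordan block. -/
def BlockData (A : Subgroup (MulAut P)) (α : MulAut P) : Prop :=
  ∃ e u z : P, fr (α e) = fr e * fr u ∧ fr (α u) = fr u * fr z ∧ fr (α z) = fr z ∧
    (∀ w : P, ∃ a b c : ℕ, fr w = fr e ^ a * fr u ^ b * fr z ^ c) ∧
    (∃ β ∈ A, ∀ c : ℕ, fr (β z) ≠ fr z ^ c) ∧
    ∃ β ∈ A, ∃ b c : ℕ, ∀ b' c' : ℕ, fr (β (u ^ b * z ^ c)) ≠ fr u ^ b' * fr z ^ c'

theorem essential_data (hP : IsPGroup p P) (hp : p ≠ 2) (hidx : (frattini P).index = p ^ 3)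
    {A : Subgroup (MulAut P)} (hIA : Cfsg.Inn P ≤ A) (hcore : (pCore p A).map A.subtype = Cfsg.Inn P)
    [hn : ((Cfsg.Inn P).subgroupOf A).Normal] {M : Subgroup (A ⧸ (Cfsg.Inn P).subgroupOf A)}
    (hM : IsStronglyPEmbedded p M) {α : A} (hαI : (α : MulAut P) ∉ Cfsg.Inn P) (hαp : ∃ k, α ^ p ^ k = 1) :
    (∀ H : Subgroup A, IsPGroup p H → (Cfsg.Inn P).subgroupOf A ≤ H →
        ((Cfsg.Inn P).subgroupOf A).relIndex H ≤ p) ∧
      (TransData A p α ∨ BlockData A (α : MulAut P)) := by
  have : Finite (MulAut P) := Finite.of_injective _ (DFunLike.coe_injective (F := MulAut P))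
  set I := (Cfsg.Inn P).subgroupOf A with hI
  have hc : ∀ a b : P ⧸ frattini P, a * b = b * a := fun a b => by
    induction a using QuotientGroup.induction_on with
    | H x =>
      induction b using QuotientGroup.induction_on with
      | H y =>
        refine QuotientGroup.eq.2 (CfsgLib.PGroup.commutator_le_frattini hP ?_)
        rw [show (x * y)⁻¹ * (y * x) = ⁅y⁻¹, x⁻¹⁆ by rw [commutatorElement_def]; group]
        exact Subgroup.commutator_mem_commutator (Subgroup.mem_top _) (Subgroup.mem_top _)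
  have hexp : ∀ v : P ⧸ frattini P, v ^ p = 1 := fun v => by
    obtain ⟨x, rfl⟩ := QuotientGroup.mk_surjective v
    rw [← QuotientGroup.mk_pow, QuotientGroup.eq_one_iff]
    exact CfsgLib.PGroup.pow_mem_frattini hP x
  letI : CommGroup (P ⧸ frattini P) := { (inferInstance : Group (P ⧸ frattini P)) with mul_comm := hc }
  letI : Module (ZMod p) (Additive (P ⧸ frattini P)) :=
    AddCommGroup.zmodModule (n := p) (G := Additive (P ⧸ frattini P)) fun v => hexp v.toMul
  let ρ₀ : A →* Module.End (ZMod p) (Additive (P ⧸ frattini P)) :=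
    { toFun := fun a => (MonoidHom.toAdditive (QuotientGroup.map (frattini P) (frattini P)
        (a : MulAut P).toMonoidHom fun w hw => aut_mem_frattini _ hw)).toZModLinearMap p
      map_one' := LinearMap.ext fun v => by
        obtain ⟨x, hx⟩ := QuotientGroup.mk_surjective v.toMul
        obtain rfl : Additive.ofMul (fr x) = v := (congrArg Additive.ofMul hx).trans (ofMul_toMul v)
        exact congrArg Additive.ofMul (show fr ((1 : MulAut P) x) = fr x from rfl)
      map_mul' := fun a b => LinearMap.ext fun v => by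
        obtain ⟨x, hx⟩ := QuotientGroup.mk_surjective v.toMul
        obtain rfl : Additive.ofMul (fr x) = v := (congrArg Additive.ofMul hx).trans (ofMul_toMul v)
        exact congrArg Additive.ofMul (show fr (((a * b : A) : MulAut P) x) =
          fr ((a : MulAut P) ((b : MulAut P) x)) from rfl) }
  have hρ₀ : ∀ (a : A) (w : P), ρ₀ a (Additive.ofMul (fr w)) = Additive.ofMul (fr ((a : MulAut P) w)) :=
    fun a w => rfl
  have hker : ∀ a : A, ρ₀ a = 1 ↔ (a : MulAut P) ∈ Cfsg.Inn P := by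
    intro a
    constructor
    · intro h
      rw [← hcore]
      exact ⟨a, CfsgLib.Solvable.le_pCore (frKer_normal A) (isPGroup_frKer hP A) fun w =>
        congrArg Additive.toMul (LinearMap.congr_fun h (Additive.ofMul (fr w))), rfl⟩
    · rintro ⟨u, hu⟩
      refine LinearMap.ext fun v => ?_
      obtain ⟨x, hx⟩ := QuotientGroup.mk_surjective v.toMul
      obtain rfl : Additive.ofMul (fr x) = v := (congrArg Additive.ofMul hx).trans (ofMul_toMul v)
      rw [hρ₀, ← hu]
      refine congrArg Additive.ofMul (QuotientGroup.eq.2 (CfsgLib.PGroup.commutator_le_frattini hP ?_))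
      rw [show ((MulAut.conj u) x)⁻¹ * x = ⁅u, x⁻¹⁆ by simp [commutatorElement_def, mul_assoc]]
      exact Subgroup.commutator_mem_commutator (Subgroup.mem_top _) (Subgroup.mem_top _)
  let ρ : A ⧸ I →* Module.End (ZMod p) (Additive (P ⧸ frattini P)) := QuotientGroup.lift I ρ₀ fun a ha => (hker a).2 ha
  have hρ : Function.Injective ρ := by
    intro a b hab
    obtain ⟨a, rfl⟩ := QuotientGroup.mk_surjective a
    obtain ⟨b, rfl⟩ := QuotientGroup.mk_surjective b
    refine QuotientGroup.eq.2 (Subgroup.mem_subgroupOf.2 ((hker (a⁻¹ * b)).1 ?_))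
    rw [map_mul, show ρ₀ b = ρ₀ a from hab.symm, ← map_mul, inv_mul_cancel, map_one]
  have hV : Nat.card (Additive (P ⧸ frattini P)) = p ^ 3 := hidx
  have hcard : ∀ T : Sylow p (A ⧸ I), Nat.card T = p := card_sylow hρ hV hM
  refine ⟨fun H hH hIH => ?_, ?_⟩
  · obtain ⟨T, hT⟩ := (hH.map (QuotientGroup.mk' I)).exists_le_sylow
    calc I.relIndex H = Nat.card (H.map (QuotientGroup.mk' I)) := by
          rw [← Subgroup.relIndex_ker, QuotientGroup.ker_mk']
      _ ≤ Nat.card T := Nat.card_le_card_of_injective _ (Subgroup.inclusion_injective hT)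
      _ = p := hcard T
  set x : A ⧸ I := QuotientGroup.mk α with hxdef
  have hx : orderOf x = p := by
    obtain ⟨k, hk⟩ := hαp
    have hxp : IsPGroup p (Subgroup.zpowers x) := by
      rintro ⟨_, i, rfl⟩
      refine ⟨k, Subtype.ext ?_⟩
      show (x ^ i) ^ p ^ k = 1
      rw [← zpow_natCast, ← zpow_mul, mul_comm, zpow_mul, zpow_natCast, hxdef, ← QuotientGroup.mk_pow, hk,
        QuotientGroup.mk_one, one_zpow]
    obtain ⟨T, hT⟩ := hxp.exists_le_sylow
    have h1 : Nat.card (Subgroup.zpowers x) ∣ p := hcard T ▸ Subgroup.card_dvd_of_le hT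
    rw [Nat.card_zpowers] at h1
    rcases (Nat.dvd_prime Fact.out).1 h1 with h | h
    · exact absurd ((QuotientGroup.eq_one_iff α).1 (orderOf_eq_one_iff.1 h)) hαI
    · exact h
  have hnn := not_normal hM hcard hx
  -- translating vectors
  have hsm : ∀ (c : ZMod p) (w : P), c • (Additive.ofMul (fr w) : (Additive (P ⧸ frattini P))) = Additive.ofMul (fr w ^ c.val) := by
    intro c w
    conv_lhs => rw [← ZMod.natCast_zmod_val c]
    rw [Nat.cast_smul_eq_nsmul, ← ofMul_pow]
  have hcomb : ∀ (a b c : ZMod p) (u v w : P),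
      a • (Additive.ofMul (fr u) : (Additive (P ⧸ frattini P))) + b • Additive.ofMul (fr v) + c • Additive.ofMul (fr w) =
        Additive.ofMul (fr u ^ a.val * fr v ^ b.val * fr w ^ c.val) := fun a b c u v w => by
    rw [hsm, hsm, hsm, ofMul_mul, ofMul_mul]
  have hρx : ∀ w : P, ρ x (Additive.ofMul (fr w)) = Additive.ofMul (fr ((α : MulAut P) w)) := fun w => rfl
  have hrep : ∀ v : (Additive (P ⧸ frattini P)), ∃ w : P, Additive.ofMul (fr w) = v := fun v => by
    obtain ⟨w, hw⟩ := QuotientGroup.mk_surjective v.toMul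
    exact ⟨w, (congrArg Additive.ofMul hw).trans (ofMul_toMul v)⟩
  by_cases hsq : (ρ x - 1) * (ρ x - 1) = 0
  · refine Or.inl ?_
    obtain ⟨e', l', z', he, hl, hz, hspan, htor⟩ := case_transvection hρ hV hM hcard hx hsq
    obtain ⟨e, rfl⟩ := hrep e'
    obtain ⟨l, rfl⟩ := hrep l'
    obtain ⟨z, rfl⟩ := hrep z'
    rw [hρx] at he hl hz
    refine ⟨e, l, z, he, hl, hz, fun w => ?_, fun t t' htt => ?_⟩
    · obtain ⟨a, b, c, h⟩ := hspan (Additive.ofMul (fr w))
      exact ⟨a.val, b.val, c.val, Additive.ofMul.injective (h.trans (hcomb a b c e l z))⟩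
    · rw [Nat.cast_mul] at htt
      obtain ⟨h, h1, h2, h3, h4⟩ := htor (t : ZMod p) (left_ne_zero_of_mul_eq_one htt)
      obtain ⟨⟨τ, hτ⟩, rfl⟩ := QuotientGroup.mk_surjective h
      have hinv : (t : ZMod p)⁻¹ = (t' : ZMod p) := inv_eq_of_mul_eq_one_right htt
      rw [hinv, Nat.cast_smul_eq_nsmul, ← ofMul_pow] at h3
      rw [Nat.cast_smul_eq_nsmul, ← ofMul_pow] at h1
      refine ⟨τ, hτ, Additive.ofMul.injective h1, Additive.ofMul.injective h2, Additive.ofMul.injective h3,
        fun w => ?_⟩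
      have h5 : x ^ ((t : ZMod p)⁻¹ * (t : ZMod p)⁻¹).val = x ^ (t' * t') := by
        refine pow_eq_pow_iff_modEq.2 ?_
        rw [hx, ← ZMod.natCast_eq_natCast_iff, ZMod.natCast_zmod_val, hinv, Nat.cast_mul]
      rw [h5] at h4
      exact congrArg Additive.toMul (LinearMap.congr_fun (congrArg ρ h4) (Additive.ofMul (fr w)))
  · refine Or.inr ?_
    obtain ⟨v, hv⟩ : ∃ v, (ρ x - 1) ((ρ x - 1) v) ≠ 0 := by
      by_contra h
      push Not at h
      exact hsq (LinearMap.ext h)
    have h3 := cube_eq_zero hV (k := 1) (u := ρ x) (by rw [pow_one, ← map_pow, orderOf_dvd_iff_pow_eq_one.1 hx.dvd, map_one])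
    have B : Block ρ x v ((ρ x - 1) v) ((ρ x - 1) ((ρ x - 1) v)) :=
      ⟨by simp, by simp [map_sub], by
        have := LinearMap.congr_fun h3 v
        simpa [sub_eq_zero] using this, hv⟩
    obtain ⟨e, he⟩ := hrep v
    obtain ⟨u, hu⟩ := hrep ((ρ x - 1) v)
    obtain ⟨z, hz⟩ := hrep ((ρ x - 1) ((ρ x - 1) v))
    rw [← hz, ← hu, ← he] at B
    have hspan := B.coords hV
    refine ⟨e, u, z, Additive.ofMul.injective ((hρx e).symm.trans B.xe),
      Additive.ofMul.injective ((hρx u).symm.trans B.xu),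
      Additive.ofMul.injective ((hρx z).symm.trans B.xz), fun w => ?_, ?_, ?_⟩
    · obtain ⟨a, b, c, h⟩ := hspan (Additive.ofMul (fr w))
      exact ⟨a.val, b.val, c.val, Additive.ofMul.injective (h.trans (hcomb a b c e u z))⟩
    · obtain ⟨g, hg⟩ := B.z_not_fixed hρ hp hV hcard hx hnn
      obtain ⟨⟨β, hβ⟩, rfl⟩ := QuotientGroup.mk_surjective g
      refine ⟨β, hβ, fun c hc => hg (c : ZMod p) ?_⟩
      rw [Nat.cast_smul_eq_nsmul, ← ofMul_pow, ← hc]
      rfl
    · obtain ⟨g, b, c, hg⟩ := B.line_not_fixed hρ hp hV hcard hx hnn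
      obtain ⟨⟨β, hβ⟩, rfl⟩ := QuotientGroup.mk_surjective g
      refine ⟨β, hβ, b.val, c.val, fun b' c' h => hg (b' : ZMod p) (c' : ZMod p) ?_⟩
      rw [hsm, hsm, Nat.cast_smul_eq_nsmul, Nat.cast_smul_eq_nsmul, ← ofMul_pow, ← ofMul_pow, ← ofMul_mul,
        ← ofMul_mul, ← h]
      rfl

end CfsgLib.FusionRankThree
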