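import Cfsg.Agent.Lib.FusionRankThree.Tools
import Cfsg.Agent.Lib.FusionRankThree.Quot
import Cfsg.Agent.Lib.Fusion.EssentialCube

/-!
The single Jordan block does not occur when some automorphism of the normalizer moves the subgroup.
-/

set_option autoImplicit false
set_option linter.unusedSectionVars false

namespace CfsgLib.FusionRankThree

open scoped commutatorElement

variable {p : ℕ} [Fact p.Prime] {N : Type*} [Group N] [Finite N]

/-- The automorphism of a normal subgroup induced by conjugation by an element. -/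
abbrev conjOn (E : Subgroup N) [E.Normal] (x : N) : MulAut E := MulAut.conjNormal x

theorem fr_eq_iff {P : Type*} [Group P] {v w : P} : fr v = fr w ↔ v⁻¹ * w ∈ frattini P := QuotientGroup.eq

/-- Representatives modulo the Frattini subgroup of `E`, viewed in `N`. -/
theorem mk_eq_of_fr {E : Subgroup N} [((frattini E).map E.subtype).Normal] {v w : E} (h : fr v = fr w) :
    (QuotientGroup.mk (v : N) : N ⧸ (frattini E).map E.subtype) = QuotientGroup.mk (w : N) :=
  QuotientGroup.eq.2 ⟨v⁻¹ * w, fr_eq_iff.1 h, by simp⟩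

theorem fr_eq_of_mk {E : Subgroup N} [((frattini E).map E.subtype).Normal] {v w : E}
    (h : (QuotientGroup.mk (v : N) : N ⧸ (frattini E).map E.subtype) = QuotientGroup.mk (w : N)) : fr v = fr w := by
  obtain ⟨d, hd, hd'⟩ := QuotientGroup.eq.1 h
  exact fr_eq_iff.2 ((Subtype.ext hd' : d = v⁻¹ * w) ▸ hd)

instance map_frattini_normal (E : Subgroup N) [E.Normal] : ((frattini E).map E.subtype).Normal :=
  ConjAct.normal_of_characteristic_of_normal

theorem mul_pow_class_two {G : Type*} [Group G] (hp : p ≠ 2) {a b : G} (hcen : ⁅b, a⁆ ∈ Subgroup.center G)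
    (hord : ⁅b, a⁆ ^ p = 1) : (a * b) ^ p = a ^ p * b ^ p := by
  have h : ∀ g : G, ⁅g, ⁅b, a⁆⁆ = 1 := fun g =>
    commutatorElement_eq_one_iff_mul_comm.2 (Subgroup.mem_center_iff.1 hcen g)
  exact CfsgLib.PGroup.mul_pow_prime_eq Fact.out a b (by rw [h]; exact one_mem _) (by rw [h]; exact one_mem _) hord
    (Or.inl ⟨hp, h _, h _⟩)

theorem mul_pow_class_three {G : Type*} [Group G] (hp : 3 < p) {a b : G}
    (hu : ⁅a, ⁅b, a⁆⁆ ∈ Subgroup.center G) (hv : ⁅b, ⁅b, a⁆⁆ ∈ Subgroup.center G)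
    (hc : ⁅b, a⁆ ^ p = 1) (hu' : ⁅a, ⁅b, a⁆⁆ ^ p = 1) (hv' : ⁅b, ⁅b, a⁆⁆ ^ p = 1) :
    (a * b) ^ p = a ^ p * b ^ p :=
  CfsgLib.PGroup.mul_pow_prime_eq Fact.out a b hu hv hc (Or.inr ⟨hp, hu', hv'⟩)

set_option maxHeartbeats 8000000 in
theorem block_false (hN : IsPGroup p N) (hp : 5 ≤ p) (hsr : Cfsg.SectionalPRankLE p 3 N) (E : Subgroup N)
    [E.Normal] (hEi : E.index = p) (hidx : (frattini E).index = p ^ 3) {x : N} (hx : x ∉ E)
    {A : Subgroup (MulAut E)} (hdata : BlockData A (conjOn E x)) (γ : MulAut N) (hγp : ∃ k, γ ^ p ^ k = 1)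
    (hγE : ∃ w ∈ E, γ w ∉ E) : False := by
  have hpp : p.Prime := Fact.out
  have hp2 : p ≠ 2 := by omega
  have hEp : IsPGroup p E := hN.to_subgroup E
  obtain ⟨e', u', z', hae', hau', haz', hgen', ⟨β₁, -, hβ₁⟩, β₂, -, b₂, c₂, hβ₂⟩ := hdata
  set Φ : Subgroup N := (frattini E).map E.subtype with hΦdef
  have hΦE : Φ ≤ E := Subgroup.map_subtype_le _
  set e : N := (e' : N) with he_def
  set u : N := (u' : N) with hu_def
  set z : N := (z' : N) with hz_def
  set π := QuotientGroup.mk' Φ with hπdef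
  have hπker : ∀ w, π w = 1 ↔ w ∈ Φ := fun w => QuotientGroup.eq_one_iff w
  -- the quotient modulo `Φ`
  have hxe : π (x * e * x⁻¹) = π e * π u := by
    rw [← map_mul]; exact mk_eq_of_fr (v := conjOn E x e') (w := e' * u') hae'
  have hxu : π (x * u * x⁻¹) = π u * π z := by
    rw [← map_mul]; exact mk_eq_of_fr (v := conjOn E x u') (w := u' * z') hau'
  have hxz : π (x * z * x⁻¹) = π z := mk_eq_of_fr (v := conjOn E x z') (w := z') haz'
  have hcommE : ∀ a ∈ E, ∀ b ∈ E, ⁅a, b⁆ ∈ Φ := fun a ha b hb =>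
    ⟨⁅(⟨a, ha⟩ : E), ⟨b, hb⟩⁆, CfsgLib.PGroup.commutator_le_frattini hEp
      (Subgroup.commutator_mem_commutator (Subgroup.mem_top _) (Subgroup.mem_top _)), by
        simp [commutatorElement_def]⟩
  have hpowE : ∀ a ∈ E, a ^ p ∈ Φ := fun a ha =>
    ⟨(⟨a, ha⟩ : E) ^ p, CfsgLib.PGroup.pow_mem_frattini hEp _, by simp⟩
  have hEcomm : ∀ a ∈ E, ∀ b ∈ E, Commute (π a) (π b) := fun a ha b hb => by
    rw [← commutatorElement_eq_one_iff_commute, ← map_commutatorElement, hπker]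
    exact hcommE a ha b hb
  have hEpow : ∀ a ∈ E, π a ^ p = 1 := fun a ha => by rw [← map_pow, hπker]; exact hpowE a ha
  have hgen : ∀ w ∈ E, ∃ a b c : ℕ, π w = π e ^ a * π u ^ b * π z ^ c := fun w hw => by
    obtain ⟨a, b, c, h⟩ := hgen' ⟨w, hw⟩
    refine ⟨a, b, c, ?_⟩
    rw [← map_pow, ← map_pow, ← map_pow, ← map_mul, ← map_mul]
    exact mk_eq_of_fr (v := (⟨w, hw⟩ : E)) (w := e' ^ a * u' ^ b * z' ^ c) h
  have hindep : ∀ a b c : ℕ, π e ^ a * π u ^ b * π z ^ c = 1 →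
      (a : ZMod p) = 0 ∧ (b : ZMod p) = 0 ∧ (c : ZMod p) = 0 := by
    let f : ZMod p × ZMod p × ZMod p → E ⧸ frattini E :=
      fun t => fr e' ^ t.1.val * fr u' ^ t.2.1.val * fr z' ^ t.2.2.val
    have hexp : ∀ (w : E) (n : ℕ), fr w ^ (n : ZMod p).val = fr w ^ n := fun w n =>
      pow_val_eq (p := p) (by
        rw [← QuotientGroup.mk_pow, QuotientGroup.eq_one_iff]; exact CfsgLib.PGroup.pow_mem_frattini hEp w)
        (by rw [ZMod.natCast_zmod_val])
    have hsurj : Function.Surjective f := fun q => by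
      obtain ⟨w, rfl⟩ := QuotientGroup.mk_surjective q
      obtain ⟨a, b, c, h⟩ := hgen' w
      exact ⟨((a : ZMod p), (b : ZMod p), (c : ZMod p)), by simp only [f, hexp]; exact h.symm⟩
    have hbij : Function.Bijective f := hsurj.bijective_of_nat_card_le (by
      rw [← Subgroup.index_eq_card, hidx]; simp [Nat.card_prod]; ring_nf; exact le_rfl)
    intro a b c h
    have h1 : fr (e' ^ a * u' ^ b * z' ^ c) = fr 1 :=
      fr_eq_of_mk (by simpa [e, u, z, hπdef, QuotientGroup.mk'_apply] using h)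
    have h2 : f ((a : ZMod p), (b : ZMod p), (c : ZMod p)) = f (0, 0, 0) := by
      simp only [f]
      rw [hexp, hexp, hexp]
      simp only [ZMod.val_zero, pow_zero, mul_one, ← QuotientGroup.mk_pow, ← QuotientGroup.mk_mul]
      exact h1
    have h3 := hbij.1 h2
    simp only [Prod.mk.injEq] at h3
    exact h3
  -- `D` and `M`
  have hconj : ∀ a b : N, π (x * (a * b) * x⁻¹) = π (x * a * x⁻¹) * π (x * b * x⁻¹) := fun a b => by
    rw [← map_mul]; congr 1; group
  have hconjp : ∀ (a : N) (n : ℕ), π (x * a ^ n * x⁻¹) = π (x * a * x⁻¹) ^ n := fun a n => by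
    rw [← map_pow, conj_pow]
  set M : Subgroup N := (Subgroup.zpowers (π z)).comap π with hMdef
  set D : Subgroup N := (Subgroup.zpowers (π u) ⊔ Subgroup.zpowers (π z)).comap π with hDdef
  have hMmem : ∀ w ∈ M, ∃ c : ℕ, π w = π z ^ c := fun w hw => by
    obtain ⟨c, hc⟩ := (IsOfFinOrder.powers_eq_zpowers (isOfFinOrder_of_finite (π z))).symm.subset hw
    exact ⟨c, hc.symm⟩
  have hΦM : Φ ≤ M := fun w hw => by
    show π w ∈ Subgroup.zpowers (π z)
    rw [(hπker w).2 hw]; exact one_mem _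
  have hMD : M ≤ D := Subgroup.comap_mono le_sup_right
  have hzM : z ∈ M := Subgroup.mem_zpowers (π z)
  have huD : u ∈ D := Subgroup.mem_sup_left (Subgroup.mem_zpowers (π u))
  have hDmem : ∀ w ∈ D, ∃ b c : ℕ, π w = π u ^ b * π z ^ c := by
    intro w hw
    have hw' : π w ∈ Subgroup.closure ({π u, π z} : Set (N ⧸ Φ)) := by
      rw [show ({π u, π z} : Set (N ⧸ Φ)) = {π u} ∪ {π z} from Set.insert_eq _ _, Subgroup.closure_union,
        ← Subgroup.zpowers_eq_closure, ← Subgroup.zpowers_eq_closure]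
      exact hw
    rw [← Subgroup.mem_toSubmonoid, Subgroup.closure_toSubmonoid_of_finite] at hw'
    generalize π w = q' at hw' ⊢
    induction hw' using Submonoid.closure_induction with
    | mem q hq =>
      rcases hq with hq | hq
      · exact ⟨1, 0, by simp [show q = π u from hq]⟩
      · exact ⟨0, 1, by simp [show q = π z from hq]⟩
    | one => exact ⟨0, 0, by simp⟩
    | mul q r _ _ hq hr =>
      obtain ⟨b, c, rfl⟩ := hq
      obtain ⟨b', c', rfl⟩ := hr
      refine ⟨b + b', c + c', ?_⟩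
      have hcz : Commute (π z ^ c) (π u ^ b') := (hEcomm z z'.2 u u'.2).pow_pow _ _
      rw [pow_add, pow_add, mul_assoc (π u ^ b), ← mul_assoc (π z ^ c), hcz.eq]
      simp only [mul_assoc]
  have hDE : D ≤ E := fun w hw => by
    obtain ⟨b, c, h⟩ := hDmem w hw
    have : w * (u ^ b * z ^ c)⁻¹ ∈ Φ := by
      rw [← hπker, map_mul, map_inv, h, map_mul, map_pow, map_pow, mul_inv_cancel]
    have h2 := E.mul_mem (hΦE this) (E.mul_mem (E.pow_mem u'.2 b) (E.pow_mem z'.2 c))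
    rwa [inv_mul_cancel_right] at h2
  have hfix : ∀ w ∈ E, π (x * w * x⁻¹) = π w → w ∈ M := by
    intro w hw hfx
    obtain ⟨a, b, c, h⟩ := hgen w hw
    have h0 : π (x * w * x⁻¹) = π w * (π u ^ a * π z ^ b) := by
      have h1 : π (x * w * x⁻¹) = π x * π w * (π x)⁻¹ := by rw [map_mul, map_mul, map_inv]
      rw [h1, h]
      simp only [← map_pow, ← map_mul, ← map_inv]
      rw [hconj, hconj, hconjp, hconjp, hconjp, hxe, hxu, hxz, (hEcomm e e'.2 u u'.2).mul_pow,
        (hEcomm u u'.2 z z'.2).mul_pow]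
      simp only [map_mul, map_pow]
      have h2 : Commute (π u ^ a) (π u ^ b * π z ^ c) :=
        ((Commute.refl _).pow_pow a b).mul_right ((hEcomm u u'.2 z z'.2).pow_pow a c)
      have h3 : Commute (π z ^ b) (π z ^ c) := (Commute.refl _).pow_pow b c
      calc π e ^ a * π u ^ a * (π u ^ b * π z ^ b) * π z ^ c
          = π e ^ a * (π u ^ a * (π u ^ b * (π z ^ b * π z ^ c))) := by simp only [mul_assoc]
        _ = π e ^ a * (π u ^ a * (π u ^ b * π z ^ c) * π z ^ b) := by rw [h3.eq]; simp only [mul_assoc]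
        _ = _ := by rw [h2.eq]; simp only [mul_assoc]
    rw [hfx] at h0
    obtain ⟨-, ha, hb⟩ := hindep 0 a b (by rw [pow_zero, one_mul]; exact mul_left_cancel (h0.symm.trans (mul_one _).symm))
    show π w ∈ Subgroup.zpowers (π z)
    rw [h, pow_val_eq (hEpow e e'.2) (m := a) (n := 0) (by simpa using ha),
      pow_val_eq (hEpow u u'.2) (m := b) (n := 0) (by simpa using hb), pow_zero, pow_zero, one_mul, one_mul]
    exact Subgroup.pow_mem _ (Subgroup.mem_zpowers _) c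
  -- everything is generated by `E` and `x`
  have htop : ∀ H : Subgroup N, E ≤ H → x ∈ H → H = ⊤ := fun H hEH hxH => by
    have h1 := Subgroup.index_dvd_of_le hEH
    rw [hEi] at h1
    rcases (Nat.dvd_prime hpp).1 h1 with h | h
    · exact Subgroup.index_eq_one.1 h
    · exact absurd ((Subgroup.eq_of_le_of_card_ge hEH (by
        have e1 := E.card_mul_index; have e2 := H.card_mul_index
        rw [hEi] at e1; rw [h] at e2
        exact (Nat.eq_of_mul_eq_mul_right hpp.pos (e2.trans e1.symm)).le)).symm ▸ hxH) hx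
  -- the elements conjugation keeps inside a subgroup
  have hxnorm : ∀ w ∈ E, x * w * x⁻¹ ∈ E := fun w hw => (inferInstance : E.Normal).conj_mem w hw x
  have hDn : D.Normal := by
    have key : Subgroup.normalizer (D : Set N) = ⊤ := by
      refine htop _ (fun a ha => ?_) ?_
      · refine Subgroup.mem_normalizer_iff.2 fun w => ?_
        have h1 : ∀ v ∈ E, ∀ a ∈ E, π (a * v * a⁻¹) = π v := fun v hv a ha => by
          rw [map_mul, map_mul, map_inv, (hEcomm a ha v hv).eq, mul_inv_cancel_right]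
        constructor
        · intro hw
          refine Subgroup.mem_comap.2 ?_
          rw [h1 w (hDE hw) a ha]; exact hw
        · intro hw
          refine Subgroup.mem_comap.2 ?_
          have hwE : w ∈ E := by
            have := (inferInstance : E.Normal).conj_mem _ (hDE hw) a⁻¹
            simpa [mul_assoc] using this
          rw [← h1 w hwE a ha]; exact hw
      · refine Subgroup.mem_normalizer_iff_map_conj_eq.2 (Subgroup.eq_of_le_of_card_ge ?_
          (Subgroup.card_map_of_injective (MulAut.conj x).injective).ge)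
        rintro _ ⟨w, hw, rfl⟩
        obtain ⟨b, c, h⟩ := hDmem w hw
        show π (x * w * x⁻¹) ∈ Subgroup.zpowers (π u) ⊔ Subgroup.zpowers (π z)
        rw [map_mul, map_mul, map_inv, h]
        simp only [← map_pow, ← map_mul, ← map_inv]
        rw [hconj, hconjp, hconjp, hxu, hxz]
        exact mul_mem (Subgroup.pow_mem _ (mul_mem (Subgroup.mem_sup_left (Subgroup.mem_zpowers _))
          (Subgroup.mem_sup_right (Subgroup.mem_zpowers _))) b)
          (Subgroup.pow_mem _ (Subgroup.mem_sup_right (Subgroup.mem_zpowers _)) c)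
    exact Subgroup.normalizer_eq_top_iff.1 key
  have hMcen : ∀ w ∈ M, ∀ n : N, ⁅n, w⁆ ∈ Φ := by
    intro w hw n
    obtain ⟨c, hc⟩ := hMmem w hw
    rw [← hπker, map_commutatorElement, hc, commutatorElement_eq_one_iff_commute]
    refine Commute.pow_right ?_ c
    have : (Subgroup.centralizer ({π z} : Set (N ⧸ Φ))).comap π = ⊤ := htop _ (fun a ha => by
        show π a ∈ Subgroup.centralizer ({π z} : Set (N ⧸ Φ))
        exact Subgroup.mem_centralizer_singleton_iff.2 (hEcomm a ha z z'.2).eq)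
      (by
        show π x ∈ Subgroup.centralizer ({π z} : Set (N ⧸ Φ))
        refine Subgroup.mem_centralizer_singleton_iff.2 ?_
        rw [map_mul, map_mul, map_inv, mul_inv_eq_iff_eq_mul] at hxz
        exact hxz)
    exact Subgroup.mem_centralizer_singleton_iff.1 (this ▸ Subgroup.mem_top n : n ∈ (Subgroup.centralizer _).comap π)
  have hMn : M.Normal := ⟨fun w hw n => by
    have h := M.mul_mem (hΦM (hMcen w hw n)) hw
    rwa [commutatorElement_def, inv_mul_cancel_right] at h⟩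
  have hxpM : x ^ p ∈ M := by
    have hxpE : x ^ p ∈ E := by
      have := E.pow_index_mem x
      rwa [hEi] at this
    exact hfix _ hxpE (by congr 1; group)
  -- commutators land in `D`, their commutators in `M`
  have hcD : ∀ a b : N, ⁅a, b⁆ ∈ D := by
    have key : ∀ a ∈ E, ⁅x, a⁆ ∈ D := by
      intro a ha
      obtain ⟨i, j, k, h⟩ := hgen a ha
      refine Subgroup.mem_comap.2 ?_
      have h1 : π (x * a * x⁻¹) = π x * π a * (π x)⁻¹ := by rw [map_mul, map_mul, map_inv]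
      rw [map_commutatorElement, commutatorElement_def, ← h1, map_mul, map_mul, map_inv]
      rw [h]
      simp only [← map_pow, ← map_mul, ← map_inv]
      rw [hconj, hconj, hconjp, hconjp, hconjp, hxe, hxu, hxz, (hEcomm e e'.2 u u'.2).mul_pow,
        (hEcomm u u'.2 z z'.2).mul_pow]
      simp only [map_mul, map_inv, map_pow]
      have h2 : Commute (π u ^ i) (π u ^ j * π z ^ k) :=
        ((Commute.refl _).pow_pow i j).mul_right ((hEcomm u u'.2 z z'.2).pow_pow i k)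
      have h3 : Commute (π z ^ j) (π z ^ k) := (Commute.refl _).pow_pow j k
      have h4 : π e ^ i * π u ^ i * (π u ^ j * π z ^ j) * π z ^ k * (π e ^ i * π u ^ j * π z ^ k)⁻¹ =
          π e ^ i * (π u ^ i * π z ^ j) * (π e ^ i)⁻¹ := by
        have hgrp : ∀ A B C B' C' : N ⧸ Φ, A * B * (B' * C') * C * (A * B' * C)⁻¹ = A * (B * (B' * C' * B'⁻¹)) * A⁻¹ :=
          fun A B C B' C' => by rw [mul_inv_rev (A * B') C, mul_inv_rev A B']; group
        rw [hgrp, ((hEcomm u u'.2 z z'.2).pow_pow j j).eq, mul_inv_cancel_right]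
      rw [h4]
      have h5 : Commute (π e ^ i) (π u ^ i * π z ^ j) :=
        ((hEcomm e e'.2 u u'.2).pow_pow i i).mul_right ((hEcomm e e'.2 z z'.2).pow_pow i j)
      rw [h5.eq, mul_inv_cancel_right]
      exact mul_mem (Subgroup.pow_mem _ (Subgroup.mem_sup_left (Subgroup.mem_zpowers _)) i)
        (Subgroup.pow_mem _ (Subgroup.mem_sup_right (Subgroup.mem_zpowers _)) j)
    have hcm : ∀ a b : N, (⁅a, b⁆ ∈ D) ↔ Commute (QuotientGroup.mk' D a) (QuotientGroup.mk' D b) := fun a b => by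
      rw [← commutatorElement_eq_one_iff_commute, ← map_commutatorElement]
      exact (QuotientGroup.eq_one_iff _).symm
    have hEE : ∀ a ∈ E, ∀ b ∈ E, ⁅a, b⁆ ∈ D := fun a ha b hb => hMD (hΦM (hcommE a ha b hb))
    have hC : ∀ b : N, E ≤ (Subgroup.centralizer {QuotientGroup.mk' D b}).comap (QuotientGroup.mk' D) →
        x ∈ (Subgroup.centralizer {QuotientGroup.mk' D b}).comap (QuotientGroup.mk' D) → ∀ a, ⁅a, b⁆ ∈ D :=
      fun b h1 h2 a => (hcm a b).2 (Subgroup.mem_centralizer_singleton_iff.1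
        (htop _ h1 h2 ▸ Subgroup.mem_top a : a ∈ (Subgroup.centralizer _).comap (QuotientGroup.mk' D)))
    have hbE : ∀ b ∈ E, ∀ a, ⁅a, b⁆ ∈ D := fun b hb => hC b
      (fun a ha => Subgroup.mem_centralizer_singleton_iff.2 ((hcm a b).1 (hEE a ha b hb)).eq)
      (Subgroup.mem_centralizer_singleton_iff.2 ((hcm x b).1 (key b hb)).eq)
    have hbx : ∀ a, ⁅a, x⁆ ∈ D := hC x
      (fun a ha => Subgroup.mem_centralizer_singleton_iff.2 ((hcm x a).1 (key a ha)).symm.eq)
      (Subgroup.mem_centralizer_singleton_iff.2 rfl)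
    intro a b
    refine hC b (fun a ha => Subgroup.mem_centralizer_singleton_iff.2 ((hcm b a).1 (hbE a ha b)).symm.eq)
      (Subgroup.mem_centralizer_singleton_iff.2 ((hcm b x).1 (hbx b)).symm.eq) a
  have hDM : ∀ w ∈ D, ∀ n : N, ⁅n, w⁆ ∈ M := by
    intro w hw n
    have hcm : ∀ a b : N, (⁅a, b⁆ ∈ M) ↔ Commute (QuotientGroup.mk' M a) (QuotientGroup.mk' M b) := fun a b => by
      rw [← commutatorElement_eq_one_iff_commute, ← map_commutatorElement]
      exact (QuotientGroup.eq_one_iff _).symm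
    have : (Subgroup.centralizer ({QuotientGroup.mk' M w} : Set (N ⧸ M))).comap (QuotientGroup.mk' M) = ⊤ :=
      htop _ (fun a ha => Subgroup.mem_centralizer_singleton_iff.2 ((hcm a w).1 (hΦM (hcommE a ha w (hDE hw)))).eq)
        (Subgroup.mem_centralizer_singleton_iff.2 ((hcm x w).1 (by
          obtain ⟨j, k, h⟩ := hDmem w hw
          refine Subgroup.mem_comap.2 ?_
          have h1 : π (x * w * x⁻¹) = π x * π w * (π x)⁻¹ := by rw [map_mul, map_mul, map_inv]
          rw [map_commutatorElement, commutatorElement_def, ← h1, map_mul, map_mul, map_inv, h]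
          simp only [← map_pow, ← map_mul, ← map_inv]
          rw [hconj, hconjp, hconjp, hxu, hxz, (hEcomm u u'.2 z z'.2).mul_pow]
          simp only [map_mul, map_inv, map_pow]
          have h5 : Commute (π u ^ j) (π z ^ j) := (hEcomm u u'.2 z z'.2).pow_pow j j
          have hgrp : ∀ A B C : N ⧸ Φ, A * B * C * (A * C)⁻¹ = A * B * A⁻¹ := fun A B C => by rw [mul_inv_rev A C]; group
          rw [hgrp, h5.eq, mul_inv_cancel_right]
          exact Subgroup.pow_mem _ (Subgroup.mem_zpowers _) j)).eq)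
    exact (hcm n w).2 (Subgroup.mem_centralizer_singleton_iff.1
      (this ▸ Subgroup.mem_top n : n ∈ (Subgroup.centralizer _).comap (QuotientGroup.mk' M)))
  -- powers land in `M`
  have hpowM : ∀ n : N, n ^ p ∈ M := by
    set μ := QuotientGroup.mk' M
    have hμ : ∀ w, μ w = 1 ↔ w ∈ M := fun w => QuotientGroup.eq_one_iff w
    have hadd : ∀ a b : N, μ (a * b) ^ p = μ a ^ p * μ b ^ p := fun a b => by
      rw [map_mul]
      refine mul_pow_class_two hp2 (Subgroup.mem_center_iff.2 fun q => ?_) ?_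
      · obtain ⟨q, rfl⟩ := QuotientGroup.mk'_surjective M q
        rw [← map_commutatorElement]
        exact (commutatorElement_eq_one_iff_mul_comm.1 (by rw [← map_commutatorElement, hμ]; exact hDM _ (hcD b a) q))
      · rw [← map_commutatorElement, ← map_pow, hμ]
        exact hΦM (hpowE _ (hDE (hcD b a)))
    let K : Subgroup N :=
      { carrier := {n | μ n ^ p = 1}
        one_mem' := by simp
        mul_mem' := fun {a b} ha hb => by
          show μ (a * b) ^ p = 1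
          rw [hadd, ha, hb, mul_one]
        inv_mem' := fun {a} ha => by
          show μ a⁻¹ ^ p = 1
          rw [map_inv, inv_pow, ha, inv_one] }
    have := htop K (fun a ha => by show μ a ^ p = 1; rw [← map_pow, hμ]; exact hΦM (hpowE a ha))
      (by show μ x ^ p = 1; rw [← map_pow, hμ]; exact hxpM)
    intro n
    rw [← hμ, map_pow]
    exact (this ▸ Subgroup.mem_top n : n ∈ K)
  -- `D` is the Frattini subgroup of `N`
  have hΦfr : Φ ≤ frattini N := CfsgLib.FrattiniEmbed.frattini_map_le E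
  have hDfr : D = frattini N := by
    refine le_antisymm ?_ (CfsgLib.PGroup.frattini_le_of_elementary hcD fun n => hMD (hpowM n))
    have hu1 : ∀ a b : N, ∀ v : N, π (x * a * x⁻¹) = π a * π v → a = b → v ∈ frattini N := by
      intro a b v h _
      have h2 : (a⁻¹ * (x * a * x⁻¹))⁻¹ * v ∈ Φ := by
        rw [← hπker, map_mul, map_inv, map_mul, map_inv, h]; group
      have h3 : a⁻¹ * (x * a * x⁻¹) ∈ frattini N := by
        rw [show a⁻¹ * (x * a * x⁻¹) = ⁅a⁻¹, x⁆ by group]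
        exact CfsgLib.PGroup.commutator_le_frattini hN
          (Subgroup.commutator_mem_commutator (Subgroup.mem_top _) (Subgroup.mem_top _))
      have h4 := (frattini N).mul_mem h3 (hΦfr h2)
      rwa [mul_inv_cancel_left] at h4
    have huF : u ∈ frattini N := hu1 e e u hxe rfl
    have hzF : z ∈ frattini N := hu1 u u z hxu rfl
    intro w hw
    obtain ⟨b, c, h⟩ := hDmem w hw
    have : w * (u ^ b * z ^ c)⁻¹ ∈ Φ := by
      rw [← hπker, map_mul, map_inv, h, map_mul, map_pow, map_pow, mul_inv_cancel]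
    have h2 := (frattini N).mul_mem (hΦfr this) (mul_mem (pow_mem huF b) (pow_mem hzF c))
    rwa [inv_mul_cancel_right] at h2
  have hγD : ∀ (δ : MulAut N), ∀ w ∈ D, δ w ∈ D := fun δ w hw => by
    rw [hDfr] at hw ⊢; exact aut_mem_frattini δ hw
  -- `M` is invariant
  have hzc : ⁅x, u⁆⁻¹ * z ∈ Φ := by
    rw [← hπker, map_mul, map_inv, map_commutatorElement, commutatorElement_def]
    have h1 : π x * π u * (π x)⁻¹ = π u * π z := by rw [← hxu, map_mul, map_mul, map_inv]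
    rw [h1, (hEcomm u u'.2 z z'.2).eq, mul_inv_cancel_right, inv_mul_cancel]
  have hγΦ : ∀ w ∈ Φ, γ w ∈ M := by
    rintro _ ⟨f, hf, rfl⟩
    set μ := QuotientGroup.mk' M
    have hμ : ∀ w, μ w = 1 ↔ w ∈ M := fun w => QuotientGroup.eq_one_iff w
    let φ : E →* N ⧸ M := μ.comp (γ.toMonoidHom.comp E.subtype)
    have hker : frattini E ≤ φ.ker := by
      refine CfsgLib.PGroup.frattini_le_of_elementary (p := p) (fun a b => ?_) fun a => ?_
      · show μ (γ ((⁅a, b⁆ : E) : N)) = 1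
        -- both images lie in the image of `E`, which is `D` and one more element
        obtain ⟨i₁, j₁, k₁, h1⟩ := hgen _ a.2
        obtain ⟨i₂, j₂, k₂, h2⟩ := hgen _ b.2
        have hd : ∀ (w : E) (i j k : ℕ), π (w : N) = π e ^ i * π u ^ j * π z ^ k →
            ∃ d ∈ D, (w : N) = e ^ i * d := by
          intro w i j k h
          refine ⟨(e ^ i)⁻¹ * w, ?_, by group⟩
          refine Subgroup.mem_comap.2 ?_
          rw [map_mul, map_inv, map_pow, h, mul_assoc (π e ^ i), inv_mul_cancel_left]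
          exact mul_mem (Subgroup.pow_mem _ (Subgroup.mem_sup_left (Subgroup.mem_zpowers _)) j)
            (Subgroup.pow_mem _ (Subgroup.mem_sup_right (Subgroup.mem_zpowers _)) k)
        obtain ⟨d₁, hd₁, e1⟩ := hd a i₁ j₁ k₁ h1
        obtain ⟨d₂, hd₂, e2⟩ := hd b i₂ j₂ k₂ h2
        have hcen : ∀ d ∈ D, ∀ n, Commute (μ n) (μ (γ d)) := fun d hd n => by
          rw [← commutatorElement_eq_one_iff_commute, ← map_commutatorElement, hμ]
          exact hDM _ (hγD γ d hd) n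
        have hc : Commute (μ (γ a)) (μ (γ b)) := by
          simp only [e1, e2, map_mul, map_pow]
          exact (((Commute.refl _).pow_pow i₁ i₂).mul_right (by rw [← map_pow]; exact hcen d₂ hd₂ _)).mul_left
            (((hcen d₁ hd₁ _).symm.pow_right i₂).mul_right (hcen d₂ hd₂ _))
        simp only [commutatorElement_def, Subgroup.coe_mul, InvMemClass.coe_inv, map_mul, map_inv]
        rw [hc.eq]; group
      · show μ (γ ((a ^ p : E) : N)) = 1
        rw [SubmonoidClass.coe_pow, map_pow, hμ]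
        exact hpowM _
    exact (hμ _).1 (hker hf)
  have hγM : ∀ w ∈ M, γ w ∈ M := by
    have hγz : γ z ∈ M := by
      rw [show z = ⁅x, u⁆ * (⁅x, u⁆⁻¹ * z) by group, map_mul, map_commutatorElement]
      exact M.mul_mem (hDM _ (hγD γ u huD) _) (hγΦ _ hzc)
    intro w hw
    obtain ⟨c, hc⟩ := hMmem w hw
    have : w * (z ^ c)⁻¹ ∈ Φ := by rw [← hπker, map_mul, map_inv, map_pow, hc, mul_inv_cancel]
    rw [show w = w * (z ^ c)⁻¹ * z ^ c by group, map_mul, map_pow]
    exact M.mul_mem (hγΦ _ this) (M.pow_mem hγz c)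
  -- the intersection of the images of `Φ`
  let R : Subgroup N :=
    { carrier := {w | ∀ i : ℕ, (γ ^ i) w ∈ Φ}
      one_mem' := fun i => by simp [Φ.one_mem]
      mul_mem' := fun {a b} ha hb i => by rw [map_mul]; exact Φ.mul_mem (ha i) (hb i)
      inv_mem' := fun {a} ha i => by rw [map_inv]; exact Φ.inv_mem (ha i) }
  have hRΦ : R ≤ Φ := fun w hw => by simpa using hw 0
  have hRn : R.Normal := ⟨fun w hw n i => by
    rw [map_mul, map_mul, map_inv]
    exact (inferInstance : Φ.Normal).conj_mem _ (hw i) _⟩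
  have hγR : ∀ w ∈ R, γ w ∈ R := fun w hw i => by
    rw [← MulAut.mul_apply, ← pow_succ]; exact hw (i + 1)
  have hγiM : ∀ (i : ℕ) w, w ∈ M → (γ ^ i) w ∈ M := by
    intro i
    induction i with
    | zero => intro w hw; simpa using hw
    | succ i ih => intro w hw; rw [pow_succ, MulAut.mul_apply]; exact ih _ (hγM w hw)
  have hMR : ∀ w ∈ M, ∀ n : N, ⁅n, w⁆ ∈ R := fun w hw n i => by
    rw [map_commutatorElement]; exact hMcen _ (hγiM i w hw) _
  have hDR : ∀ a ∈ D, ∀ b ∈ D, ⁅a, b⁆ ∈ R := fun a ha b hb i => by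
    rw [map_commutatorElement]; exact hcommE _ (hDE (hγD _ a ha)) _ (hDE (hγD _ b hb))
  have hDpR : ∀ a ∈ D, a ^ p ∈ R := fun a ha i => by
    rw [map_pow]; exact hpowE _ (hDE (hγD _ a ha))
  set ν := QuotientGroup.mk' R with hνdef
  have hν : ∀ w, ν w = 1 ↔ w ∈ R := fun w => QuotientGroup.eq_one_iff w
  have hνcen : ∀ w ∈ M, ν w ∈ Subgroup.center (N ⧸ R) := fun w hw => Subgroup.mem_center_iff.2 fun q => by
    obtain ⟨q, rfl⟩ := QuotientGroup.mk'_surjective R q
    exact commutatorElement_eq_one_iff_mul_comm.1 (by rw [← map_commutatorElement, hν]; exact hMR w hw q)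
  -- `γ` fixes `D` modulo `M`
  have hDcard : Nat.card D = p * Nat.card M := by
    have h1 : (Subgroup.zpowers (π z)).relIndex (Subgroup.zpowers (π u) ⊔ Subgroup.zpowers (π z)) = p := by
      have : (Subgroup.zpowers (π z)).relIndex (Subgroup.zpowers (π u) ⊔ Subgroup.zpowers (π z)) =
          M.relIndex D := by
        rw [hMdef, hDdef, Subgroup.relIndex_comap, Subgroup.map_comap_eq_self_of_surjective]
        exact QuotientGroup.mk'_surjective Φ
      rw [this]
      refine le_antisymm ?_ ?_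
      · let f : ZMod p → D ⧸ M.subgroupOf D := fun t => QuotientGroup.mk (⟨u, huD⟩ ^ t.val)
        have hf : Function.Surjective f := fun q => by
          obtain ⟨⟨w, hw⟩, rfl⟩ := QuotientGroup.mk_surjective q
          obtain ⟨b, c, h⟩ := hDmem w hw
          refine ⟨(b : ZMod p), QuotientGroup.eq.2 ?_⟩
          show π ((u ^ (b : ZMod p).val)⁻¹ * w) ∈ Subgroup.zpowers (π z)
          rw [map_mul, map_inv, map_pow, h, pow_val_eq (hEpow u u'.2) (m := (b : ZMod p).val) (n := b)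
            (by rw [ZMod.natCast_zmod_val]), inv_mul_cancel_left]
          exact Subgroup.pow_mem _ (Subgroup.mem_zpowers _) c
        exact (Nat.card_le_card_of_surjective f hf).trans (by simp)
      · obtain ⟨k, hk⟩ := (hN.to_subgroup D).index (M.subgroupOf D)
        rw [Subgroup.relIndex, hk]
        refine Nat.le_self_pow (fun h0 => ?_) p
        rw [h0, pow_zero, Subgroup.index_eq_one, Subgroup.subgroupOf_eq_top] at hk
        obtain ⟨c, hc⟩ := hMmem u (hk huD)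
        have := (hindep 0 1 ((-(c : ZMod p)).val) (by
          rw [pow_zero, one_mul, pow_one, hc, ← pow_add, ← pow_zero (π z)]
          exact pow_val_eq (hEpow z z'.2) (by simp))).2.1
        simp at this
    have h2 : M.relIndex D = p := by
      rw [hMdef, hDdef, Subgroup.relIndex_comap, Subgroup.map_comap_eq_self_of_surjective
        (QuotientGroup.mk'_surjective Φ)]
      exact h1
    rw [← h2, ← (M.subgroupOf D).index_mul_card, Nat.card_congr (Subgroup.subgroupOfEquivOfLe hMD).toEquiv]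
    rfl
  have hγu : u⁻¹ * γ u ∈ M := by
    obtain ⟨k, hk⟩ := hγp
    exact CfsgLib.Fusion.EssentialCube.disp_mem_of_pow hMD
      (le_top.trans (Subgroup.normalizer_eq_top_iff.2 hMn).ge) hDcard hk hγM (hγD γ) u huD
  have hνu : ∀ n : N, ν ⁅n, γ u⁆ = ν ⁅n, u⁆ := fun n => by
    rw [show γ u = u * (u⁻¹ * γ u) by group, map_commutatorElement, map_commutatorElement, map_mul,
      commutatorElement_def, commutatorElement_def, mul_inv_rev]
    have hc := Subgroup.mem_center_iff.1 (hνcen _ hγu) (ν n)⁻¹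
    calc ν n * (ν u * ν (u⁻¹ * γ u)) * (ν n)⁻¹ * ((ν (u⁻¹ * γ u))⁻¹ * (ν u)⁻¹)
        = ν n * ν u * (ν (u⁻¹ * γ u) * (ν n)⁻¹) * (ν (u⁻¹ * γ u))⁻¹ * (ν u)⁻¹ := by simp only [mul_assoc]
      _ = _ := by rw [← hc]; group
  -- `[n, u]` modulo `R`
  have hcu : ∀ n : N, ν ⁅n, u⁆ ∈ Subgroup.center (N ⧸ R) := fun n => hνcen _ (hDM u huD n)
  have hcu_mul : ∀ a b : N, ν ⁅a * b, u⁆ = ν ⁅a, u⁆ * ν ⁅b, u⁆ := fun a b => by
    rw [map_commutatorElement, map_mul]
    have hc := Subgroup.mem_center_iff.1 (hcu b) (ν a)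
    rw [map_commutatorElement] at hc ⊢
    calc ⁅ν a * ν b, ν u⁆ = (ν a * ⁅ν b, ν u⁆) * (ν u * (ν a)⁻¹ * (ν u)⁻¹) := by
          simp only [commutatorElement_def]; group
      _ = ⁅ν b, ν u⁆ * ⁅ν a, ν u⁆ := by rw [hc]; simp only [commutatorElement_def]; group
      _ = _ := by
        have := Subgroup.mem_center_iff.1 (hcu b) ⁅ν a, ν u⁆
        rw [map_commutatorElement] at this
        exact this.symm
  have hcu_inv : ∀ a : N, ν ⁅a⁻¹, u⁆ = (ν ⁅a, u⁆)⁻¹ := fun a => eq_inv_of_mul_eq_one_left (by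
    rw [← hcu_mul, inv_mul_cancel, map_commutatorElement, map_one, commutatorElement_one_left])
  have hexu : ν ⁅x, u⁆ ≠ 1 := fun h => by
    have hz0 : z ∈ Φ := by
      rw [show z = ⁅x, u⁆ * (⁅x, u⁆⁻¹ * z) by group]
      exact Φ.mul_mem (hRΦ ((hν _).1 h)) hzc
    have := (hindep 0 0 1 (by rw [pow_zero, pow_zero, one_mul, one_mul, pow_one, (hπker z).2 hz0])).2.2
    simp at this
  have hγe : γ e ∉ E := by
    intro h
    obtain ⟨w, hw, hγw⟩ := hγE
    obtain ⟨i, j, k, hijk⟩ := hgen w hw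
    refine hγw ?_
    have hd : (e ^ i)⁻¹ * w ∈ D := by
      refine Subgroup.mem_comap.2 ?_
      rw [map_mul, map_inv, map_pow, hijk, mul_assoc (π e ^ i), inv_mul_cancel_left]
      exact mul_mem (Subgroup.pow_mem _ (Subgroup.mem_sup_left (Subgroup.mem_zpowers _)) j)
        (Subgroup.pow_mem _ (Subgroup.mem_sup_right (Subgroup.mem_zpowers _)) k)
    rw [show w = e ^ i * ((e ^ i)⁻¹ * w) by group, map_mul, map_pow]
    exact E.mul_mem (E.pow_mem h i) (hDE (hγD γ _ hd))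
  have hgen2 : ∀ H : Subgroup N, D ≤ H → e ∈ H → γ e ∈ H → H = ⊤ := by
    intro H hDH heH hγH
    have hEH : E ≤ H := fun w hw => by
      obtain ⟨i, j, k, hijk⟩ := hgen w hw
      have hd : (e ^ i)⁻¹ * w ∈ D := by
        refine Subgroup.mem_comap.2 ?_
        rw [map_mul, map_inv, map_pow, hijk, mul_assoc (π e ^ i), inv_mul_cancel_left]
        exact mul_mem (Subgroup.pow_mem _ (Subgroup.mem_sup_left (Subgroup.mem_zpowers _)) j)
          (Subgroup.pow_mem _ (Subgroup.mem_sup_right (Subgroup.mem_zpowers _)) k)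
      rw [show w = e ^ i * ((e ^ i)⁻¹ * w) by group]
      exact H.mul_mem (H.pow_mem heH i) (hDH hd)
    have h1 := Subgroup.index_dvd_of_le hEH
    rw [hEi] at h1
    rcases (Nat.dvd_prime hpp).1 h1 with h | h
    · exact Subgroup.index_eq_one.1 h
    · have heq : H = E := (Subgroup.eq_of_le_of_card_ge hEH (by
        have e1 := E.card_mul_index; have e2 := H.card_mul_index
        rw [hEi] at e1; rw [h] at e2
        exact (Nat.eq_of_mul_eq_mul_right hpp.pos (e2.trans e1.symm)).le)).symm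
      exact absurd (heq ▸ hγH) hγe
  have hCe : ν ⁅e, u⁆ ≠ 1 := by
    intro h
    let K : Subgroup N :=
      { carrier := {n | ν ⁅n, u⁆ = 1}
        one_mem' := by simp
        mul_mem' := fun {a b} ha hb => by
          show ν ⁅a * b, u⁆ = 1
          rw [hcu_mul, ha, hb, mul_one]
        inv_mem' := fun {a} ha => by
          show ν ⁅a⁻¹, u⁆ = 1
          rw [hcu_inv, ha, inv_one] }
    have hK := hgen2 K (fun w hw => (hν _).2 (hDR w hw u huD)) h (by
      show ν ⁅γ e, u⁆ = 1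
      rw [← hνu, ← map_commutatorElement, hν]
      exact hγR _ ((hν _).1 h))
    exact hexu (hK ▸ Subgroup.mem_top x : x ∈ K)
  -- sizes
  have hMcard : Nat.card M = p * Nat.card Φ := by
    have hle : Φ.relIndex M ≤ p := by
      let f : ZMod p → M ⧸ Φ.subgroupOf M := fun t => QuotientGroup.mk (⟨z, hzM⟩ ^ t.val)
      have hf : Function.Surjective f := fun q => by
        obtain ⟨⟨w, hw⟩, rfl⟩ := QuotientGroup.mk_surjective q
        obtain ⟨c, h⟩ := hMmem w hw
        refine ⟨(c : ZMod p), QuotientGroup.eq.2 ?_⟩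
        show (z ^ (c : ZMod p).val)⁻¹ * w ∈ Φ
        rw [← hπker, map_mul, map_inv, map_pow, h, pow_val_eq (hEpow z z'.2) (m := (c : ZMod p).val) (n := c)
          (by rw [ZMod.natCast_zmod_val]), inv_mul_cancel]
      exact (Nat.card_le_card_of_surjective f hf).trans (by simp)
    obtain ⟨k, hk⟩ := (hN.to_subgroup M).index (Φ.subgroupOf M)
    have hge : p ≤ Φ.relIndex M := by
      rw [Subgroup.relIndex, hk]
      refine Nat.le_self_pow (fun h0 => ?_) p
      rw [h0, pow_zero, Subgroup.index_eq_one, Subgroup.subgroupOf_eq_top] at hk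
      have := (hindep 0 0 1 (by rw [pow_zero, pow_zero, one_mul, one_mul, pow_one, (hπker z).2 (hk hzM)])).2.2
      simp at this
    rw [← le_antisymm hle hge, ← (Φ.subgroupOf M).index_mul_card,
      Nat.card_congr (Subgroup.subgroupOfEquivOfLe hΦM).toEquiv]
    rfl
  have hΦR : ∀ w ∈ Φ, ∃ n : ℕ, ν w = ν ⁅e, u⁆ ^ n := by
    have hsec := card_section_le hsr (hRΦ.trans (hΦM.trans hMD)) hDR hDpR
    have hle : R.relIndex Φ ≤ p := by
      have h1 : Nat.card Φ = R.relIndex Φ * Nat.card R := by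
        rw [← (R.subgroupOf Φ).index_mul_card, Nat.card_congr (Subgroup.subgroupOfEquivOfLe hRΦ).toEquiv]; rfl
      rw [hDcard, hMcard, h1] at hsec
      have h2 : p * (p * R.relIndex Φ) ≤ p ^ 3 :=
        Nat.le_of_mul_le_mul_right (le_of_eq_of_le (by ring) hsec) Nat.card_pos
      have h3 : p * p * R.relIndex Φ ≤ p * p * p := by
        calc p * p * R.relIndex Φ = p * (p * R.relIndex Φ) := by ring
          _ ≤ p ^ 3 := h2
          _ = p * p * p := by ring
      exact Nat.le_of_mul_le_mul_left h3 (Nat.mul_pos hpp.pos hpp.pos)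
    intro w hw
    have hmem : ⁅e, u⁆ ∈ Φ := hcommE e e'.2 u u'.2
    have hcard : Nat.card (Φ.map ν) ≤ p := by
      rw [← Subgroup.relIndex_ker, hνdef, QuotientGroup.ker_mk']
      exact hle
    have hzp : p ≤ Nat.card (Subgroup.zpowers (ν ⁅e, u⁆)) := by
      rw [Nat.card_zpowers]
      refine Nat.le_of_dvd (orderOf_pos _) ?_
      rcases (Nat.dvd_prime hpp).1 (orderOf_dvd_of_pow_eq_one (x := ν ⁅e, u⁆) (n := p)
        (by rw [← map_pow, hν]; exact hDpR _ (hcD e u))) with h | h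
      · exact absurd (orderOf_eq_one_iff.1 h) hCe
      · rw [h]
    have heq : Subgroup.zpowers (ν ⁅e, u⁆) = Φ.map ν :=
      Subgroup.eq_of_le_of_card_ge (Subgroup.zpowers_le.2 (show ν ⁅e, u⁆ ∈ Φ.map ν from ⟨_, hmem, rfl⟩))
        (hcard.trans hzp)
    obtain ⟨n, hn⟩ := (IsOfFinOrder.powers_eq_zpowers (isOfFinOrder_of_finite (ν ⁅e, u⁆))).symm.subset
      (heq ▸ ⟨w, hw, rfl⟩ : ν w ∈ Subgroup.zpowers (ν ⁅e, u⁆))
    exact ⟨n, hn.symm⟩
  obtain ⟨lam, hlam⟩ := hΦR _ (hpowE e e'.2)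
  have hpadd : ∀ a b : N, ν (a * b) ^ p = ν a ^ p * ν b ^ p := fun a b => by
    rw [map_mul]
    refine mul_pow_class_three (by omega) ?_ ?_ ?_ ?_ ?_
    · rw [← map_commutatorElement, ← map_commutatorElement]; exact hνcen _ (hDM _ (hcD b a) a)
    · rw [← map_commutatorElement, ← map_commutatorElement]; exact hνcen _ (hDM _ (hcD b a) b)
    · rw [← map_commutatorElement, ← map_pow, hν]; exact hDpR _ (hcD b a)
    · rw [← map_commutatorElement, ← map_commutatorElement, ← map_pow, hν]; exact hDpR _ (hcD a _)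
    · rw [← map_commutatorElement, ← map_commutatorElement, ← map_pow, hν]; exact hDpR _ (hcD b _)
  have hxpow : ν (x ^ p) = ν ⁅x, u⁆ ^ lam := by
    let K : Subgroup N :=
      { carrier := {n | ν n ^ p = ν ⁅n, u⁆ ^ lam}
        one_mem' := by simp
        mul_mem' := fun {a b} ha hb => by
          show ν (a * b) ^ p = ν ⁅a * b, u⁆ ^ lam
          rw [hpadd, ha, hb, hcu_mul,
            (show Commute (ν ⁅a, u⁆) (ν ⁅b, u⁆) from (Subgroup.mem_center_iff.1 (hcu b) _)).mul_pow]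
        inv_mem' := fun {a} ha => by
          show ν a⁻¹ ^ p = ν ⁅a⁻¹, u⁆ ^ lam
          rw [map_inv, inv_pow, ha, hcu_inv, inv_pow] }
    have hK := hgen2 K (fun w hw => by
        show ν w ^ p = ν ⁅w, u⁆ ^ lam
        rw [← map_pow, (hν _).2 (hDpR w hw), (hν _).2 (hDR w hw u huD), one_pow])
      (by show ν e ^ p = ν ⁅e, u⁆ ^ lam; rw [← map_pow]; exact hlam) (by
      show ν (γ e) ^ p = ν ⁅γ e, u⁆ ^ lam
      rw [← hνu, ← map_pow ν, ← map_commutatorElement γ, ← map_pow ν, ← map_pow γ, ← map_pow γ, hνdef]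
      rw [hνdef, ← map_pow, QuotientGroup.mk'_apply, QuotientGroup.mk'_apply, QuotientGroup.eq] at hlam
      rw [QuotientGroup.mk'_apply, QuotientGroup.mk'_apply, QuotientGroup.eq, ← map_inv, ← map_mul]
      exact hγR _ hlam)
    rw [map_pow]
    exact (hK ▸ Subgroup.mem_top x : x ∈ K)
  -- the section `E / Φ₂`
  let Φ₂ : Subgroup N := Subgroup.normalClosure ({w | ∃ f ∈ Φ, w = f ^ p} ∪ {w | ∃ f ∈ Φ, ∃ a ∈ E, w = ⁅f, a⁆})
  have hΦ₂R : Φ₂ ≤ R := by
    have := hRn
    refine Subgroup.normalClosure_le_normal ?_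
    rintro w (⟨f, hf, rfl⟩ | ⟨f, hf, a, ha, rfl⟩)
    · exact hDpR f (hMD (hΦM hf))
    · show ⁅f, a⁆ ∈ R
      rw [← commutatorElement_inv]
      exact R.inv_mem (hMR f (hΦM hf) a)
  have hΦ₂Φ : Φ₂ ≤ Φ := hΦ₂R.trans hRΦ
  set σ := QuotientGroup.mk' Φ₂ with hσdef
  have hσ : ∀ w, σ w = 1 ↔ w ∈ Φ₂ := fun w => QuotientGroup.eq_one_iff w
  have hσp : ∀ f ∈ Φ, σ f ^ p = 1 := fun f hf => by
    rw [← map_pow, hσ]; exact Subgroup.subset_normalClosure (Or.inl ⟨f, hf, rfl⟩)
  have hσc : ∀ f ∈ Φ, ∀ a ∈ E, Commute (σ f) (σ a) := fun f hf a ha => by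
    rw [← commutatorElement_eq_one_iff_commute, ← map_commutatorElement, hσ]
    exact Subgroup.subset_normalClosure (Or.inr ⟨f, hf, a, ha, rfl⟩)
  -- bilinearity
  have hcl : ∀ a ∈ E, ∀ a' ∈ E, ∀ b ∈ E, ⁅σ (a * a'), σ b⁆ = ⁅σ a, σ b⁆ * ⁅σ a', σ b⁆ := by
    intro a ha a' ha' b hb
    have h1 : Commute ⁅σ a', σ b⁆ (σ a) := by
      rw [← map_commutatorElement]; exact hσc _ (hcommE a' ha' b hb) a ha
    have h2 : Commute ⁅σ a', σ b⁆ ⁅σ a, σ b⁆ := by
      rw [← map_commutatorElement, ← map_commutatorElement]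
      exact hσc _ (hcommE a' ha' b hb) _ (hΦE (hcommE a ha b hb))
    rw [← h2.eq, map_mul]
    calc ⁅σ a * σ a', σ b⁆ = σ a * ⁅σ a', σ b⁆ * (σ b * (σ a)⁻¹ * (σ b)⁻¹) := by
          simp only [commutatorElement_def, mul_inv_rev (σ a) (σ a')]; group
      _ = _ := by rw [← h1.eq]; simp only [commutatorElement_def]; group
  have hcr : ∀ a ∈ E, ∀ b ∈ E, ∀ b' ∈ E, ⁅σ a, σ (b * b')⁆ = ⁅σ a, σ b⁆ * ⁅σ a, σ b'⁆ := by
    intro a ha b hb b' hb'
    rw [← commutatorElement_inv, hcl b hb b' hb' a ha, mul_inv_rev, commutatorElement_inv, commutatorElement_inv]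
    rw [← map_commutatorElement, ← map_commutatorElement]
    exact (hσc _ (hcommE a ha b' hb') _ (hΦE (hcommE a ha b hb))).eq
  have hclΦ : ∀ a ∈ E, ∀ f ∈ Φ, ∀ b ∈ E, ⁅σ (a * f), σ b⁆ = ⁅σ a, σ b⁆ := fun a ha f hf b hb => by
    rw [hcl a ha f (hΦE hf) b hb, commutatorElement_eq_one_iff_commute.2 (hσc f hf b hb), mul_one]
  have hcrΦ : ∀ a ∈ E, ∀ b ∈ E, ∀ f ∈ Φ, ⁅σ a, σ (b * f)⁆ = ⁅σ a, σ b⁆ := fun a ha b hb f hf => by
    rw [hcr a ha b hb f (hΦE hf), commutatorElement_eq_one_iff_commute.2 (hσc f hf a ha).symm, mul_one]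
  have hclp : ∀ (n : ℕ) a, a ∈ E → ∀ b ∈ E, ⁅σ (a ^ n), σ b⁆ = ⁅σ a, σ b⁆ ^ n := by
    intro n
    induction n with
    | zero => intro a ha b hb; simp
    | succ n ih => intro a ha b hb; rw [pow_succ a, hcl _ (E.pow_mem ha n) a ha b hb, ih a ha b hb, pow_succ]
  have hpmul : ∀ a ∈ E, ∀ b ∈ E, σ (a * b) ^ p = σ a ^ p * σ b ^ p := by
    intro a ha b hb
    have hu0 : ∀ c ∈ E, ⁅σ c, ⁅σ b, σ a⁆⁆ = 1 := fun c hc => by
      rw [← map_commutatorElement, commutatorElement_eq_one_iff_commute]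
      exact (hσc _ (hcommE b hb a ha) c hc).symm
    rw [map_mul]
    refine CfsgLib.PGroup.mul_pow_prime_eq hpp (σ a) (σ b) (by rw [hu0 a ha]; exact one_mem _)
      (by rw [hu0 b hb]; exact one_mem _) ?_ (Or.inl ⟨hp2, hu0 a ha, hu0 b hb⟩)
    rw [← map_commutatorElement]
    exact hσp _ (hcommE b hb a ha)
  -- the basic elements modulo `R`
  have hνe : ∀ w ∈ M, ∀ v : N, ν ⁅v, w⁆ = 1 := fun w hw v => (hν _).2 (hMR w hw v)
  have hνσ : ∀ w, σ w = 1 → ν w = 1 := fun w hw => (hν _).2 (hΦ₂R ((hσ w).1 hw))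
  have hνσeq : ∀ v w, σ v = σ w → ν v = ν w := fun v w h => by
    rw [hνdef, QuotientGroup.mk'_apply, QuotientGroup.mk'_apply, QuotientGroup.eq]
    exact hΦ₂R (QuotientGroup.eq.1 h)
  set P := σ ⁅e, u⁆ with hPdef
  set Q := σ ⁅e, z⁆ with hQdef
  set W := σ ⁅u, z⁆ with hWdef
  have hPm : ⁅e, u⁆ ∈ Φ := hcommE e e'.2 u u'.2
  have hQm : ⁅e, z⁆ ∈ Φ := hcommE e e'.2 z z'.2
  have hWm : ⁅u, z⁆ ∈ Φ := hcommE u u'.2 z z'.2
  have hPQ : Commute P Q := hσc _ hPm _ (hΦE hQm)
  have hPW : Commute P W := hσc _ hPm _ (hΦE hWm)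
  have hQW : Commute Q W := hσc _ hQm _ (hΦE hWm)
  -- the action of `x`
  set X := σ x with hXdef
  have hX : ∀ v w : N, x * v * x⁻¹ = w → X * σ v * X⁻¹ = σ w := fun v w h => by
    rw [← h, map_mul, map_mul, map_inv]
  obtain ⟨f₁, hf₁, hxe'⟩ : ∃ f ∈ Φ, x * e * x⁻¹ = e * u * f :=
    ⟨(e * u)⁻¹ * (x * e * x⁻¹), (hπker _).1 (by rw [map_mul, map_inv, hxe, map_mul, inv_mul_cancel]), by group⟩
  obtain ⟨f₂, hf₂, hxu'⟩ : ∃ f ∈ Φ, x * u * x⁻¹ = u * z * f :=
    ⟨(u * z)⁻¹ * (x * u * x⁻¹), (hπker _).1 (by rw [map_mul, map_inv, hxu, map_mul, inv_mul_cancel]), by group⟩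
  obtain ⟨f₃, hf₃, hxz'⟩ : ∃ f ∈ Φ, x * z * x⁻¹ = z * f :=
    ⟨z⁻¹ * (x * z * x⁻¹), (hπker _).1 (by rw [map_mul, map_inv, hxz, inv_mul_cancel]), by group⟩
  have huz : u * z ∈ E := E.mul_mem u'.2 z'.2
  have heu : e * u ∈ E := E.mul_mem e'.2 u'.2
  have hXc : ∀ a b : N, X * ⁅σ a, σ b⁆ * X⁻¹ = ⁅σ (x * a * x⁻¹), σ (x * b * x⁻¹)⁆ := fun a b => by
    rw [← map_commutatorElement, hX _ ⁅x * a * x⁻¹, x * b * x⁻¹⁆ (by simp only [commutatorElement_def]; group),
      map_commutatorElement]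
  have hXP : X * P * X⁻¹ = P * (Q * W) := by
    rw [hPdef, map_commutatorElement, hXc, hxe', hxu', hclΦ _ heu _ hf₁ _ (E.mul_mem huz (hΦE hf₂)),
      hcrΦ _ heu _ huz _ hf₂, hcl e e'.2 u u'.2 _ huz, hcr e e'.2 u u'.2 z z'.2, hcr u u'.2 u u'.2 z z'.2,
      commutatorElement_self, one_mul, ← map_commutatorElement, ← map_commutatorElement, ← map_commutatorElement,
      mul_assoc]
  have hXQ : X * Q * X⁻¹ = Q * W := by
    rw [hQdef, map_commutatorElement, hXc, hxe', hxz', hclΦ _ heu _ hf₁ _ (E.mul_mem z'.2 (hΦE hf₃)),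
      hcrΦ _ heu _ z'.2 _ hf₃, hcl e e'.2 u u'.2 z z'.2, ← map_commutatorElement, ← map_commutatorElement]
  have hXW : X * W * X⁻¹ = W := by
    rw [hWdef, map_commutatorElement, hXc, hxu', hxz', hclΦ _ huz _ hf₂ _ (E.mul_mem z'.2 (hΦE hf₃)),
      hcrΦ _ huz _ z'.2 _ hf₃, hcl u u'.2 z z'.2 z z'.2, commutatorElement_self, mul_one]
  -- characteristic subgroups of `E`
  have hβΦ : ∀ β : MulAut E, ∀ a : E, (a : N) ∈ Φ → ((β a : E) : N) ∈ Φ := by
    rintro β a ⟨f, hf, hfa⟩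
    obtain rfl : f = a := Subtype.ext hfa
    exact ⟨β f, aut_mem_frattini β hf, rfl⟩
  have hΦ₂sub : ∀ β : MulAut E, ∀ a : E, (a : N) ∈ Φ₂ → ((β a : E) : N) ∈ Φ₂ := by
    intro β a ha
    let K : Subgroup N := ((Φ₂.subgroupOf E).comap β.toMonoidHom).map E.subtype
    have hle : Φ₂ ≤ K := by
      have hgens : Φ₂ = Subgroup.closure
          ({w | ∃ f ∈ Φ, w = f ^ p} ∪ {w | ∃ f ∈ Φ, ∃ a ∈ E, w = ⁅f, a⁆}) := by
        refine le_antisymm ?_ Subgroup.closure_le_normalClosure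
        have : (Subgroup.closure ({w | ∃ f ∈ Φ, w = f ^ p} ∪ {w | ∃ f ∈ Φ, ∃ a ∈ E, w = ⁅f, a⁆})).Normal := by
          refine ⟨fun w hw n => ?_⟩
          induction hw using Subgroup.closure_induction with
          | mem w hw =>
            refine Subgroup.subset_closure ?_
            rcases hw with ⟨f, hf, rfl⟩ | ⟨f, hf, a, ha, rfl⟩
            · exact Or.inl ⟨n * f * n⁻¹, (inferInstance : Φ.Normal).conj_mem f hf n, conj_pow.symm⟩
            · exact Or.inr ⟨n * f * n⁻¹, (inferInstance : Φ.Normal).conj_mem f hf n, n * a * n⁻¹,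
                (inferInstance : E.Normal).conj_mem a ha n, by simp only [commutatorElement_def]; group⟩
          | one => simp
          | mul a b _ _ ha hb =>
            rw [show n * (a * b) * n⁻¹ = n * a * n⁻¹ * (n * b * n⁻¹) by group]; exact mul_mem ha hb
          | inv a _ ha => rw [show n * a⁻¹ * n⁻¹ = (n * a * n⁻¹)⁻¹ by group]; exact inv_mem ha
        exact Subgroup.normalClosure_le_normal Subgroup.subset_closure
      rw [hgens, Subgroup.closure_le]
      rintro w (⟨f, hf, rfl⟩ | ⟨f, hf, b, hb, rfl⟩)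
      · refine ⟨⟨f ^ p, E.pow_mem (hΦE hf) p⟩, ?_, rfl⟩
        show ((β ((⟨f, hΦE hf⟩ : E) ^ p) : E) : N) ∈ Φ₂
        rw [map_pow, SubmonoidClass.coe_pow]
        exact Subgroup.subset_normalClosure (Or.inl ⟨_, hβΦ β ⟨f, hΦE hf⟩ hf, rfl⟩)
      · refine ⟨⁅(⟨f, hΦE hf⟩ : E), ⟨b, hb⟩⁆, ?_, by simp [commutatorElement_def]⟩
        show ((β ⁅(⟨f, hΦE hf⟩ : E), ⟨b, hb⟩⁆ : E) : N) ∈ Φ₂
        rw [map_commutatorElement]
        refine Subgroup.subset_normalClosure (Or.inr ⟨_, hβΦ β ⟨f, hΦE hf⟩ hf, _, (β ⟨b, hb⟩).2, ?_⟩)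
        simp [commutatorElement_def]
    obtain ⟨c, hc, hca⟩ := hle ha
    obtain rfl : c = a := Subtype.ext hca
    exact hc
  have hdec : ∀ w ∈ E, ∀ i j k : ℕ, π w = π e ^ i * π u ^ j * π z ^ k →
      ∃ d ∈ D, w = e ^ i * d := fun w hw i j k h => by
    refine ⟨(e ^ i)⁻¹ * w, Subgroup.mem_comap.2 ?_, by group⟩
    rw [map_mul, map_inv, map_pow, h, mul_assoc (π e ^ i), inv_mul_cancel_left]
    exact mul_mem (Subgroup.pow_mem _ (Subgroup.mem_sup_left (Subgroup.mem_zpowers _)) j)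
      (Subgroup.pow_mem _ (Subgroup.mem_sup_right (Subgroup.mem_zpowers _)) k)
  have hMrep : ∀ w ∈ M, ∃ (c : ℕ) (f : N), f ∈ Φ ∧ w = z ^ c * f := fun w hw => by
    obtain ⟨c, hc⟩ := hMmem w hw
    exact ⟨c, (z ^ c)⁻¹ * w, (hπker _).1 (by rw [map_mul, map_inv, map_pow, hc, inv_mul_cancel]), by group⟩
  have hDrep : ∀ w ∈ D, ∃ (b c : ℕ) (f : N), f ∈ Φ ∧ w = u ^ b * z ^ c * f := fun w hw => by
    obtain ⟨b, c, hbc⟩ := hDmem w hw
    exact ⟨b, c, (u ^ b * z ^ c)⁻¹ * w,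
      (hπker _).1 (by rw [map_mul, map_inv, map_mul, map_pow, map_pow, hbc, inv_mul_cancel]), by group⟩
  have hPne : ∀ n : ℕ, ν ⁅e, u⁆ ^ n = 1 → (n : ZMod p) = 0 := fun n h => by
    by_contra hn
    refine hCe (eq_one_of_pow ?_ hn h)
    rw [← map_pow, hν]; exact hDpR _ (hcD e u)
  have hWne : W ≠ 1 := by
    intro hW
    -- `D` is commutative modulo `Φ₂`
    have hDc : ∀ a ∈ D, ∀ b ∈ D, ⁅σ a, σ b⁆ = 1 := by
      have hc1 : ∀ w ∈ D, ⁅σ w, σ u⁆ = 1 ∧ ⁅σ w, σ z⁆ = 1 := by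
        intro w hw
        obtain ⟨b, c, f, hf, rfl⟩ := hDrep w hw
        have hm : u ^ b * z ^ c ∈ E := E.mul_mem (E.pow_mem u'.2 b) (E.pow_mem z'.2 c)
        have hzu : ⁅σ z, σ u⁆ = 1 := by
          rw [← commutatorElement_inv, ← map_commutatorElement, ← hWdef, hW, inv_one]
        have huz' : ⁅σ u, σ z⁆ = 1 := by rw [← map_commutatorElement, ← hWdef, hW]
        refine ⟨?_, ?_⟩
        · rw [hclΦ _ hm _ hf u u'.2, hcl _ (E.pow_mem u'.2 b) _ (E.pow_mem z'.2 c) u u'.2, hclp b u u'.2 u u'.2,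
            hclp c z z'.2 u u'.2, commutatorElement_self, hzu, one_pow, one_pow, one_mul]
        · rw [hclΦ _ hm _ hf z z'.2, hcl _ (E.pow_mem u'.2 b) _ (E.pow_mem z'.2 c) z z'.2, hclp b u u'.2 z z'.2,
            hclp c z z'.2 z z'.2, commutatorElement_self, huz', one_pow, one_pow, one_mul]
      intro a ha b hb
      obtain ⟨i, j, f, hf, rfl⟩ := hDrep b hb
      rw [hcrΦ a (hDE ha) _ (E.mul_mem (E.pow_mem u'.2 i) (E.pow_mem z'.2 j)) _ hf,
        hcr a (hDE ha) _ (E.pow_mem u'.2 i) _ (E.pow_mem z'.2 j),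
        show ⁅σ a, σ (u ^ i)⁆ = 1 by
          rw [← commutatorElement_inv, hclp i u u'.2 a (hDE ha), ← commutatorElement_inv, (hc1 a ha).1, inv_one,
            one_pow, inv_one],
        show ⁅σ a, σ (z ^ j)⁆ = 1 by
          rw [← commutatorElement_inv, hclp j z z'.2 a (hDE ha), ← commutatorElement_inv, (hc1 a ha).2, inv_one,
            one_pow, inv_one], one_mul]
    let Rad : Subgroup E :=
      { carrier := {a | ∀ b : E, ⁅σ (a : N), σ (b : N)⁆ = 1}
        one_mem' := fun b => by simp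
        mul_mem' := fun {a a'} ha ha' b => by
          rw [Subgroup.coe_mul, hcl _ a.2 _ a'.2 _ b.2, ha b, ha' b, one_mul]
        inv_mem' := fun {a} ha b => by
          have h1 := hcl _ a.2 _ (E.inv_mem a.2) _ b.2
          rw [mul_inv_cancel, map_one, commutatorElement_one_left, ha b, one_mul] at h1
          exact h1.symm }
    have hRadinv : ∀ β : MulAut E, ∀ a ∈ Rad, β a ∈ Rad := by
      intro β a ha b
      have h1 : ((⁅a, β⁻¹ b⁆ : E) : N) ∈ Φ₂ := by
        have := ha (β⁻¹ b)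
        rw [← map_commutatorElement, hσ] at this
        simpa [commutatorElement_def] using this
      have h2 := hΦ₂sub β _ h1
      rw [map_commutatorElement, MulAut.apply_inv_self] at h2
      rw [← map_commutatorElement, hσ]
      simpa [commutatorElement_def] using h2
    have hRadM : ∀ a ∈ Rad, (a : N) ∈ M := by
      intro a ha
      obtain ⟨i, j, k, h⟩ := hgen _ a.2
      have hae : ν ⁅(a : N), e⁆ = 1 := hνσ _ (by rw [map_commutatorElement]; exact ha e')
      have hau : ν ⁅(a : N), u⁆ = 1 := hνσ _ (by rw [map_commutatorElement]; exact ha u')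
      obtain ⟨d, hd, had⟩ := hdec _ a.2 i j k h
      have hi : (i : ZMod p) = 0 := by
        refine hPne i ?_
        rw [had] at hau
        rw [hcu_mul, (hν _).2 (hDR d hd u huD), mul_one,
          hνσeq ⁅e ^ i, u⁆ (⁅e, u⁆ ^ i) (by rw [map_commutatorElement, hclp i e e'.2 u u'.2, map_pow, map_commutatorElement]),
          map_pow] at hau
        exact hau
      obtain ⟨j', k', f, hf, hd'⟩ := hDrep d hd
      have hei : e ^ i ∈ Φ := (hπker _).1 (by
        rw [map_pow]; exact (pow_val_eq (hEpow e e'.2) (n := 0) (by simpa using hi)).trans (pow_zero _))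
      have hj : (j' : ZMod p) = 0 := by
        have hm : u ^ j' * z ^ k' ∈ E := E.mul_mem (E.pow_mem u'.2 j') (E.pow_mem z'.2 k')
        have h1 : ⁅σ (a : N), σ e⁆ = ⁅σ u, σ e⁆ ^ j' * ⁅σ z, σ e⁆ ^ k' := by
          rw [had, hcl _ (hΦE hei) _ (hDE hd) e e'.2, commutatorElement_eq_one_iff_commute.2 (hσc _ hei e e'.2),
            one_mul, hd', hclΦ _ hm _ hf e e'.2, hcl _ (E.pow_mem u'.2 j') _ (E.pow_mem z'.2 k') e e'.2,
            hclp j' u u'.2 e e'.2, hclp k' z z'.2 e e'.2]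
        rw [ha e', ← map_commutatorElement, ← map_commutatorElement, ← map_pow, ← map_pow, ← map_mul] at h1
        have h2 := hνσ _ h1.symm
        rw [map_mul, map_pow, map_pow, ← commutatorElement_inv e z, map_inv, hνe z hzM e, inv_one, one_pow, mul_one,
          ← commutatorElement_inv e u, map_inv, inv_pow, inv_eq_one] at h2
        exact hPne j' h2
      have huj : u ^ j' ∈ Φ := (hπker _).1 (by
        rw [map_pow]; exact (pow_val_eq (hEpow u u'.2) (n := 0) (by simpa using hj)).trans (pow_zero _))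
      rw [had, hd']
      exact M.mul_mem (hΦM hei) (M.mul_mem (M.mul_mem (hΦM huj) (M.pow_mem hzM k')) (hΦM hf))
    -- a common element of `D` and its image
    set D' := (D.subgroupOf E).map β₂.toMonoidHom with hD'
    have hw₂ : ∃ a ∈ D', a ∉ D.subgroupOf E := by
      have hm : u ^ b₂ * z ^ c₂ ∈ D := D.mul_mem (D.pow_mem huD b₂) (D.pow_mem (hMD hzM) c₂)
      refine ⟨β₂ (u' ^ b₂ * z' ^ c₂), ⟨_, by simpa [Subgroup.mem_subgroupOf, u, z] using hm, rfl⟩, fun hin => ?_⟩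
      obtain ⟨b, c, f, hf, hbc⟩ := hDrep _ (Subgroup.mem_subgroupOf.1 hin)
      refine hβ₂ b c ?_
      rw [← QuotientGroup.mk_pow, ← QuotientGroup.mk_pow, ← QuotientGroup.mk_mul]
      refine fr_eq_of_mk ?_
      show π _ = π _
      rw [hbc, map_mul π _ f, (hπker f).2 hf, mul_one, Subgroup.coe_mul, SubmonoidClass.coe_pow,
        SubmonoidClass.coe_pow]
    obtain ⟨a₂, ha₂, ha₂D⟩ := hw₂
    have hDEi : (D.subgroupOf E).index = p := by
      have h1 : Nat.card E = p ^ 3 * Nat.card (frattini E) := by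
        rw [← hidx, mul_comm, Subgroup.card_mul_index]
      have h2 : Nat.card Φ = Nat.card (frattini E) := Subgroup.card_map_of_injective E.subtype_injective
      have h3 := (D.subgroupOf E).index_mul_card
      rw [Nat.card_congr (Subgroup.subgroupOfEquivOfLe hDE).toEquiv, hDcard, hMcard, h2, h1] at h3
      exact Nat.eq_of_mul_eq_mul_right (Nat.mul_pos hpp.pos (Nat.mul_pos hpp.pos Nat.card_pos))
        (h3.trans (by ring))
    have hsup : D.subgroupOf E ⊔ D' = ⊤ := by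
      have h1 := Subgroup.index_dvd_of_le (le_sup_left : D.subgroupOf E ≤ D.subgroupOf E ⊔ D')
      rw [hDEi] at h1
      rcases (Nat.dvd_prime hpp).1 h1 with h | h
      · exact Subgroup.index_eq_one.1 h
      · have heq := Subgroup.eq_of_le_of_card_ge (le_sup_left : D.subgroupOf E ≤ D.subgroupOf E ⊔ D') (by
          have e1 := (D.subgroupOf E).card_mul_index
          have e2 := (D.subgroupOf E ⊔ D').card_mul_index
          rw [hDEi] at e1; rw [h] at e2
          exact (Nat.eq_of_mul_eq_mul_right hpp.pos (e2.trans e1.symm)).le)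
        exact absurd (heq ▸ (le_sup_right : D' ≤ D.subgroupOf E ⊔ D') ha₂) ha₂D
    obtain ⟨a, haD, haD', haΦ⟩ : ∃ a, a ∈ D.subgroupOf E ∧ a ∈ D' ∧ (a : N) ∉ Φ := by
      by_contra hh
      push Not at hh
      have hle : D.subgroupOf E ⊓ D' ≤ Φ.subgroupOf E := fun b hb => hh b hb.1 hb.2
      have hD'i : D'.index = p := by
        rw [hD', Subgroup.index_map_of_bijective β₂.bijective, hDEi]
      have h1 := Subgroup.index_inf_le (H := D.subgroupOf E) (K := D')
      rw [hDEi, hD'i] at h1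
      have h2 := Nat.le_of_dvd (Nat.pos_of_ne_zero Subgroup.index_ne_zero_of_finite)
        (Subgroup.index_dvd_of_le hle)
      have h3 : (Φ.subgroupOf E).index = p ^ 3 := by
        rw [← hidx]
        congr 1
        exact Subgroup.comap_map_eq_self_of_injective E.subtype_injective _
      rw [h3] at h2
      have h4 : p * p < p ^ 3 := by rw [← sq]; exact Nat.pow_lt_pow_right hpp.one_lt (by norm_num)
      omega
    have haRad : a ∈ Rad := by
      intro b
      let C : Subgroup E :=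
        { carrier := {b | ⁅σ (a : N), σ (b : N)⁆ = 1}
          one_mem' := by simp
          mul_mem' := fun {b b'} hb hb' => by
            show ⁅σ (a : N), σ ((b * b' : E) : N)⁆ = 1
            rw [Subgroup.coe_mul, hcr _ a.2 _ b.2 _ b'.2, show ⁅σ (a : N), σ (b : N)⁆ = 1 from hb,
              show ⁅σ (a : N), σ (b' : N)⁆ = 1 from hb', one_mul]
          inv_mem' := fun {b} hb => by
            show ⁅σ (a : N), σ ((b⁻¹ : E) : N)⁆ = 1
            have h1 := hcr _ a.2 _ b.2 _ (E.inv_mem b.2)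
            rw [mul_inv_cancel, map_one, commutatorElement_one_right,
              show ⁅σ (a : N), σ (b : N)⁆ = 1 from hb, one_mul] at h1
            exact h1.symm }
      have hC1 : D.subgroupOf E ≤ C := fun b hb => hDc _ haD _ hb
      have hC2 : D' ≤ C := by
        rintro _ ⟨b, hb, rfl⟩
        obtain ⟨a', ha', rfl⟩ := haD'
        show ⁅σ ((β₂ a' : E) : N), σ ((β₂ b : E) : N)⁆ = 1
        rw [← map_commutatorElement, hσ]
        have h1 : ((⁅a', b⁆ : E) : N) ∈ Φ₂ := by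
          have := hDc _ ha' _ hb
          rw [← map_commutatorElement, hσ] at this
          simpa [commutatorElement_def] using this
        have h2 := hΦ₂sub β₂ _ h1
        rw [map_commutatorElement] at h2
        simpa [commutatorElement_def] using h2
      exact (sup_le hC1 hC2) (hsup ▸ Subgroup.mem_top b : b ∈ D.subgroupOf E ⊔ D')
    obtain ⟨c, f, hf, hacf⟩ := hMrep _ (hRadM a haRad)
    have hc0 : (c : ZMod p) ≠ 0 := fun hc => haΦ (by
      rw [hacf]
      refine Φ.mul_mem ((hπker _).1 ?_) hf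
      rw [map_pow]; exact (pow_val_eq (hEpow z z'.2) (n := 0) (by simpa using hc)).trans (pow_zero _))
    have hzRad : z' ∈ Rad := by
      intro b
      refine eq_one_of_pow (p := p) ?_ hc0 ?_
      · rw [← map_commutatorElement]; exact hσp _ (hcommE _ z'.2 _ b.2)
      · rw [← hclp c z z'.2 b b.2, ← hclΦ (z ^ c) (E.pow_mem z'.2 c) f hf b b.2, ← hacf]
        exact haRad b
    obtain ⟨c', hc'⟩ := hMmem _ (hRadM _ (hRadinv β₁ z' hzRad))
    refine hβ₁ c' ?_
    rw [← QuotientGroup.mk_pow]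
    refine fr_eq_of_mk ?_
    show π _ = π _
    rw [hc', SubmonoidClass.coe_pow, map_pow]
  -- coordinates in `Φ / Φ₂`
  have hPp : P ^ p = 1 := hσp _ hPm
  have hQp : Q ^ p = 1 := hσp _ hQm
  have hWp : W ^ p = 1 := hσp _ hWm
  have hnorm : ∀ a b : N ⧸ Φ₂, X * (a * b) * X⁻¹ = X * a * X⁻¹ * (X * b * X⁻¹) := fun a b => by group
  have hpowX : ∀ (a : N ⧸ Φ₂) (n : ℕ), X * a ^ n * X⁻¹ = (X * a * X⁻¹) ^ n := fun a n => conj_pow.symm
  have hind : ∀ i j k : ℕ, P ^ i * Q ^ j * W ^ k = 1 →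
      (i : ZMod p) = 0 ∧ (j : ZMod p) = 0 ∧ (k : ZMod p) = 0 := by
    intro i j k h
    have hi : (i : ZMod p) = 0 := by
      refine hPne i ?_
      have h1 := hνσ (⁅e, u⁆ ^ i * ⁅e, z⁆ ^ j * ⁅u, z⁆ ^ k) (by rw [map_mul, map_mul, map_pow, map_pow, map_pow]; exact h)
      rwa [map_mul, map_mul, map_pow, map_pow, map_pow, hνe z hzM e, hνe z hzM u, one_pow, one_pow, mul_one,
        mul_one] at h1
    rw [pow_val_eq hPp (m := i) (n := 0) (by simpa using hi), pow_zero, one_mul] at h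
    have h2 := congrArg (fun q => X * q * X⁻¹) h
    simp only [hnorm, hpowX, hXQ, hXW, mul_one, mul_inv_cancel] at h2
    have hj : (j : ZMod p) = 0 := by
      by_contra hj
      refine hWne (eq_one_of_pow hWp hj ?_)
      rw [hQW.mul_pow, mul_assoc, ((Commute.refl W).pow_pow j k).eq, ← mul_assoc, h, one_mul] at h2
      exact h2
    rw [pow_val_eq hQp (m := j) (n := 0) (by simpa using hj), pow_zero, one_mul] at h
    refine ⟨hi, hj, ?_⟩
    by_contra hk
    exact hWne (eq_one_of_pow hWp hk h)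
  have hrelindex : ∀ H : Subgroup N, Φ₂ ≤ H → Nat.card H = Nat.card (H.map σ) * Nat.card Φ₂ := fun H hH => by
    rw [← Subgroup.relIndex_ker, hσdef, QuotientGroup.ker_mk', ← (Φ₂.subgroupOf H).index_mul_card,
      Nat.card_congr (Subgroup.subgroupOfEquivOfLe hH).toEquiv]
    rfl
  have hΦσ : Nat.card (Φ.map σ) ≤ p ^ 3 := by
    have h1 := card_section_le hsr hΦ₂Φ
      (fun a ha b hb => Subgroup.subset_normalClosure (Or.inr ⟨a, ha, b, hΦE hb, rfl⟩))
      (fun a ha => Subgroup.subset_normalClosure (Or.inl ⟨a, ha, rfl⟩))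
    rw [hrelindex Φ hΦ₂Φ] at h1
    exact Nat.le_of_mul_le_mul_right h1 Nat.card_pos
  let F : ZMod p × ZMod p × ZMod p → Φ.map σ := fun t => ⟨P ^ t.1.val * Q ^ t.2.1.val * W ^ t.2.2.val,
    mul_mem (mul_mem (pow_mem (show P ∈ Φ.map σ from ⟨_, hPm, rfl⟩) _) (pow_mem (show Q ∈ Φ.map σ from ⟨_, hQm, rfl⟩) _))
      (pow_mem (show W ∈ Φ.map σ from ⟨_, hWm, rfl⟩) _)⟩
  have hval : ∀ (a : N ⧸ Φ₂), a ^ p = 1 → ∀ m n : ℕ, a ^ m * a ^ n = a ^ ((m : ZMod p) + n).val := fun a ha m n => by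
    rw [← pow_add]; exact pow_val_eq ha (by rw [ZMod.natCast_zmod_val, Nat.cast_add])
  have hFinj : Function.Injective F := by
    rintro ⟨i, j, k⟩ ⟨i', j', k'⟩ heq
    have h := congrArg Subtype.val heq
    simp only [F] at h
    obtain ⟨i'', hi''⟩ : ∃ n : ℕ, (n : ZMod p) = -i' := ⟨_, ZMod.natCast_zmod_val _⟩
    obtain ⟨j'', hj''⟩ : ∃ n : ℕ, (n : ZMod p) = -j' := ⟨_, ZMod.natCast_zmod_val _⟩
    obtain ⟨k'', hk''⟩ : ∃ n : ℕ, (n : ZMod p) = -k' := ⟨_, ZMod.natCast_zmod_val _⟩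
    have h1 : P ^ (i.val + i'') * Q ^ (j.val + j'') * W ^ (k.val + k'') =
        P ^ (i'.val + i'') * Q ^ (j'.val + j'') * W ^ (k'.val + k'') := by
      have hsplit : ∀ a b c a' b' c' : ℕ, P ^ (a + a') * Q ^ (b + b') * W ^ (c + c') =
          P ^ a * Q ^ b * W ^ c * (P ^ a' * Q ^ b' * W ^ c') := fun a b c a' b' c' => by
        have e1 : Commute (P ^ a') (Q ^ b * W ^ c) := (hPQ.pow_pow a' b).mul_right (hPW.pow_pow a' c)
        have e2 : Commute (Q ^ b') (W ^ c) := hQW.pow_pow b' c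
        calc P ^ (a + a') * Q ^ (b + b') * W ^ (c + c')
            = P ^ a * (P ^ a' * (Q ^ b * Q ^ b')) * (W ^ c * W ^ c') := by simp only [pow_add, mul_assoc]
          _ = P ^ a * (P ^ a' * (Q ^ b * (Q ^ b' * W ^ c))) * W ^ c' := by simp only [mul_assoc]
          _ = P ^ a * (P ^ a' * (Q ^ b * W ^ c) * Q ^ b') * W ^ c' := by rw [e2.eq]; simp only [mul_assoc]
          _ = _ := by rw [e1.eq]; simp only [mul_assoc]
      rw [hsplit, hsplit, h]
    rw [pow_val_eq hPp (m := i'.val + i'') (n := 0) (by simp [hi'']),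
      pow_val_eq hQp (m := j'.val + j'') (n := 0) (by simp [hj'']),
      pow_val_eq hWp (m := k'.val + k'') (n := 0) (by simp [hk'']), pow_zero, pow_zero, pow_zero, one_mul,
      one_mul] at h1
    obtain ⟨a1, a2, a3⟩ := hind _ _ _ h1
    simp only [Nat.cast_add, ZMod.natCast_zmod_val, hi'', hj'', hk'', ← sub_eq_add_neg, sub_eq_zero] at a1 a2 a3
    rw [a1, a2, a3]
  have hFsurj : Function.Surjective F :=
    (hFinj.bijective_of_nat_card_le (hΦσ.trans (by simp [Nat.card_prod]; ring_nf; exact le_rfl))).2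
  -- the power map
  obtain ⟨⟨i₀, j₀, k₀⟩, hF0⟩ := hFsurj ⟨σ (e ^ p), _, hpowE e e'.2, rfl⟩
  have hep : σ e ^ p = P ^ i₀.val * Q ^ j₀.val * W ^ k₀.val := by
    rw [← map_pow]; exact (congrArg Subtype.val hF0).symm
  have hi₀ : i₀ = (lam : ZMod p) := by
    have h1 : σ (e ^ p) = σ (⁅e, u⁆ ^ i₀.val * ⁅e, z⁆ ^ j₀.val * ⁅u, z⁆ ^ k₀.val) := by
      rw [map_pow, hep, map_mul, map_mul, map_pow, map_pow, map_pow]
    have h2 := hνσeq _ _ h1
    rw [hlam, map_mul, map_mul, map_pow, map_pow, map_pow, hνe z hzM e, hνe z hzM u, one_pow, one_pow, mul_one,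
      mul_one] at h2
    by_contra hne
    obtain ⟨n, hn⟩ : ∃ n : ℕ, (n : ZMod p) = -(lam : ZMod p) := ⟨_, ZMod.natCast_zmod_val _⟩
    refine hne ?_
    have h3 := hPne (i₀.val + n) (by
      rw [pow_add, ← h2, ← pow_add]
      exact (pow_val_eq (p := p) (by rw [← map_pow, hν]; exact hDpR _ (hcD e u)) (n := 0) (by simp [hn])).trans
        (pow_zero _))
    simpa [hn, ← sub_eq_add_neg, sub_eq_zero] using h3
  have hXe : X * σ e * X⁻¹ = σ (e * u * f₁) := hX _ _ hxe'
  have hXu : X * σ u * X⁻¹ = σ (u * z * f₂) := hX _ _ hxu'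
  have hQWc : Commute Q W := hQW
  have hup : σ u ^ p = Q ^ i₀.val * W ^ (i₀.val + j₀.val) := by
    have h1 : X * σ e ^ p * X⁻¹ = σ e ^ p * σ u ^ p := by
      rw [hpowX, hXe, hpmul _ heu _ (hΦE hf₁), hσp f₁ hf₁, mul_one, hpmul e e'.2 u u'.2]
    rw [hep, hnorm, hnorm, hpowX, hpowX, hpowX, hXP, hXQ, hXW,
      (hPQ.mul_right hPW).mul_pow, hQW.mul_pow, hQW.mul_pow] at h1
    have h2 : P ^ i₀.val * (Q ^ i₀.val * W ^ i₀.val) * (Q ^ j₀.val * W ^ j₀.val) * W ^ k₀.val =
        P ^ i₀.val * Q ^ j₀.val * W ^ k₀.val * (Q ^ i₀.val * W ^ (i₀.val + j₀.val)) := by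
      have e1 : Commute (Q ^ i₀.val * W ^ i₀.val) (Q ^ j₀.val) :=
        ((Commute.refl Q).pow_pow _ _).mul_left (hQW.symm.pow_pow _ _)
      have e2 : Commute (W ^ j₀.val) (W ^ k₀.val) := (Commute.refl W).pow_pow _ _
      have e3 : Commute (Q ^ i₀.val * W ^ i₀.val) (W ^ k₀.val) :=
        (hQW.pow_pow _ _).mul_left ((Commute.refl W).pow_pow _ _)
      calc _ = P ^ i₀.val * ((Q ^ i₀.val * W ^ i₀.val) * Q ^ j₀.val) * (W ^ j₀.val * W ^ k₀.val) := by
            simp only [mul_assoc]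
        _ = P ^ i₀.val * Q ^ j₀.val * ((Q ^ i₀.val * W ^ i₀.val) * W ^ k₀.val) * W ^ j₀.val := by
            rw [e1.eq, e2.eq]; simp only [mul_assoc]
        _ = _ := by rw [e3.eq, pow_add]; simp only [mul_assoc]
    rw [h2] at h1
    exact (mul_left_cancel h1).symm
  have hzp : σ z ^ p = W ^ i₀.val := by
    have h1 : X * σ u ^ p * X⁻¹ = σ u ^ p * σ z ^ p := by
      rw [hpowX, hXu, hpmul _ huz _ (hΦE hf₂), hσp f₂ hf₂, mul_one, hpmul u u'.2 z z'.2]
    rw [hup, hnorm, hpowX, hpowX, hXQ, hXW, hQW.mul_pow, mul_assoc,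
      ((Commute.refl W).pow_pow i₀.val (i₀.val + j₀.val)).eq, ← mul_assoc] at h1
    exact (mul_left_cancel h1).symm
  have hlam0 : (lam : ZMod p) ≠ 0 := by
    intro h0
    have hz0 : σ z ^ p = 1 := by
      rw [hzp, hi₀, h0, ZMod.val_zero, pow_zero]
    have h1 := card_section_le hsr (hΦ₂Φ.trans hΦM) (fun a ha b hb => by
      obtain ⟨i, f, hf, rfl⟩ := hMrep a ha
      obtain ⟨j, g, hg, rfl⟩ := hMrep b hb
      rw [← hσ, map_commutatorElement, commutatorElement_eq_one_iff_commute, map_mul, map_mul, map_pow, map_pow]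
      exact ((((Commute.refl (σ z)).pow_pow i j).mul_right ((hσc g hg z z'.2).symm.pow_left i))).mul_left
        (((hσc f hf z z'.2).pow_right j).mul_right (hσc f hf g (hΦE hg))))
      (fun a ha => by
      obtain ⟨i, f, hf, rfl⟩ := hMrep a ha
      rw [← hσ, map_pow, hpmul _ (E.pow_mem z'.2 i) _ (hΦE hf), hσp f hf, mul_one, map_pow, ← pow_mul, mul_comm,
        pow_mul, hz0, one_pow])
    have h3 : Nat.card (Φ.map σ) = p ^ 3 := le_antisymm hΦσ
      (by
        have := Nat.card_le_card_of_injective F hFinj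
        simp [Nat.card_prod] at this
        calc p ^ 3 = p * (p * p) := by ring
          _ ≤ _ := this)
    rw [hMcard, hrelindex Φ hΦ₂Φ, h3] at h1
    have h4 : 0 < p ^ 3 * Nat.card Φ₂ := Nat.mul_pos (pow_pos hpp.pos 3) Nat.card_pos
    have h5 : 1 * (p ^ 3 * Nat.card Φ₂) < p * (p ^ 3 * Nat.card Φ₂) := Nat.mul_lt_mul_of_pos_right hpp.one_lt h4
    omega
  -- the element `x ^ p`
  obtain ⟨g, hg, hxp⟩ : ∃ g ∈ Φ, x ^ p = z ^ lam * g := by
    refine ⟨(z ^ lam)⁻¹ * x ^ p, (hπker _).1 ?_, by group⟩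
    have h1 : π (x ^ p) = π (⁅x, u⁆ ^ lam) := by
      have : ν (x ^ p) = ν (⁅x, u⁆ ^ lam) := by rw [map_pow ν ⁅x, u⁆, hxpow]
      rw [hπdef, QuotientGroup.mk'_apply, QuotientGroup.mk'_apply, QuotientGroup.eq]
      exact hRΦ (QuotientGroup.eq.1 this)
    have h2 : π ⁅x, u⁆ = π z := by
      rw [hπdef, QuotientGroup.mk'_apply, QuotientGroup.mk'_apply, QuotientGroup.eq]
      exact hzc
    rw [map_mul, map_inv, h1, map_pow, map_pow, h2, inv_mul_cancel]
  -- modulo the last commutator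
  let K₁ : Subgroup N := (Subgroup.zpowers W).comap σ
  have hWcen : ∀ n : N, Commute W (σ n) := by
    have := htop ((Subgroup.centralizer ({W} : Set (N ⧸ Φ₂))).comap σ)
      (fun a ha => Subgroup.mem_centralizer_singleton_iff.2 (hσc _ hWm a ha).symm.eq)
      (Subgroup.mem_centralizer_singleton_iff.2 (mul_inv_eq_iff_eq_mul.1 hXW))
    intro n
    exact (show Commute (σ n) W from
      Subgroup.mem_centralizer_singleton_iff.1 (this ▸ Subgroup.mem_top n : n ∈ (Subgroup.centralizer _).comap σ)).symm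
  have hK₁n : K₁.Normal := ⟨fun w hw n => by
    show σ (n * w * n⁻¹) ∈ Subgroup.zpowers W
    obtain ⟨k, hk⟩ := (hw : σ w ∈ Subgroup.zpowers W)
    rw [map_mul, map_mul, map_inv, ← hk, ((hWcen n).zpow_left k).symm.eq, mul_inv_cancel_right]
    exact ⟨k, rfl⟩⟩
  set τ := QuotientGroup.mk' K₁ with hτdef
  have hτ : ∀ w, τ w = 1 ↔ σ w ∈ Subgroup.zpowers W := fun w => QuotientGroup.eq_one_iff w
  have hτσ : ∀ v w, σ v = σ w → τ v = τ w := fun v w h => by
    rw [hτdef, QuotientGroup.mk'_apply, QuotientGroup.mk'_apply, QuotientGroup.eq]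
    show σ (v⁻¹ * w) ∈ Subgroup.zpowers W
    rw [map_mul, map_inv, h, inv_mul_cancel]
    exact one_mem _
  have hτW : τ ⁅u, z⁆ = 1 := (hτ _).2 (Subgroup.mem_zpowers W)
  have hτD : ∀ a ∈ D, ∀ b ∈ D, Commute (τ a) (τ b) := by
    have huz2 : Commute (τ u) (τ z) := by
      rw [← commutatorElement_eq_one_iff_commute, ← map_commutatorElement]; exact hτW
    have hΦc : ∀ f ∈ Φ, ∀ a ∈ E, Commute (τ f) (τ a) := fun f hf a ha => by
      rw [commute_iff_eq, ← map_mul, ← map_mul]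
      exact hτσ _ _ (by rw [map_mul, map_mul]; exact (hσc f hf a ha).eq)
    intro a ha b hb
    obtain ⟨i, j, f, hf, rfl⟩ := hDrep a ha
    obtain ⟨i', j', f', hf', rfl⟩ := hDrep b hb
    simp only [map_mul, map_pow]
    have hu1 : Commute (τ u) (τ u ^ i' * τ z ^ j' * τ f') :=
      (((Commute.refl _).pow_right i').mul_right (huz2.pow_right j')).mul_right (hΦc f' hf' u u'.2).symm
    have hz1 : Commute (τ z) (τ u ^ i' * τ z ^ j' * τ f') :=
      ((huz2.symm.pow_right i').mul_right ((Commute.refl _).pow_right j')).mul_right (hΦc f' hf' z z'.2).symm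
    have hf1 : Commute (τ f) (τ u ^ i' * τ z ^ j' * τ f') :=
      (((hΦc f hf u u'.2).pow_right i').mul_right ((hΦc f hf z z'.2).pow_right j')).mul_right
        (hΦc f hf f' (hΦE hf'))
    exact ((hu1.pow_left i).mul_left (hz1.pow_left j)).mul_left hf1
  obtain ⟨d₀, hd₀⟩ : ∃ d, d = e⁻¹ * (x * e * x⁻¹) := ⟨_, rfl⟩
  obtain ⟨d₁, hd₁⟩ : ∃ d, d = d₀⁻¹ * (x * d₀ * x⁻¹) := ⟨_, rfl⟩
  obtain ⟨d₂, hd₂⟩ : ∃ d, d = d₁⁻¹ * (x * d₁ * x⁻¹) := ⟨_, rfl⟩
  obtain ⟨d₃, hd₃⟩ : ∃ d, d = d₂⁻¹ * (x * d₂ * x⁻¹) := ⟨_, rfl⟩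
  have hd₀' : d₀ = u * f₁ := by rw [hd₀, hxe']; group
  have hπd₀ : π d₀ = π u := by rw [hd₀', map_mul, (hπker f₁).2 hf₁, mul_one]
  have hd₀D : d₀ ∈ D := by rw [hd₀']; exact D.mul_mem huD (hMD (hΦM hf₁))
  have hπd₁ : π d₁ = π z := by
    rw [hd₁, map_mul, map_inv, hπd₀, hd₀', hconj, hxu,
      (hπker _).2 ((inferInstance : Φ.Normal).conj_mem f₁ hf₁ x), mul_one, inv_mul_cancel_left]
  have hd₁M : d₁ ∈ M := Subgroup.mem_comap.2 (hπd₁ ▸ Subgroup.mem_zpowers (π z))
  obtain ⟨g₁, hg₁, hd₁'⟩ : ∃ g ∈ Φ, d₁ = z * g :=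
    ⟨z⁻¹ * d₁, (hπker _).1 (by rw [map_mul, map_inv, hπd₁, inv_mul_cancel]), by group⟩
  have hd₂Φ : d₂ ∈ Φ := by
    rw [← hπker, hd₂, map_mul, map_inv, hπd₁, hd₁', hconj, hxz,
      (hπker _).2 ((inferInstance : Φ.Normal).conj_mem g₁ hg₁ x), mul_one, inv_mul_cancel]
  obtain ⟨⟨i₂, j₂, k₂⟩, hF2⟩ := hFsurj ⟨σ d₂, _, hd₂Φ, rfl⟩
  have hd₂σ : σ d₂ = P ^ i₂.val * Q ^ j₂.val * W ^ k₂.val := (congrArg Subtype.val hF2).symm
  have hd₃Φ : d₃ ∈ Φ := by
    rw [hd₃]; exact Φ.mul_mem (Φ.inv_mem hd₂Φ) ((inferInstance : Φ.Normal).conj_mem _ hd₂Φ x)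
  have hd₃τ : τ d₃ = τ (⁅e, z⁆ ^ i₂.val) := by
    have h1 : σ d₃ = σ (⁅e, z⁆ ^ i₂.val * ⁅u, z⁆ ^ (i₂.val + j₂.val)) := by
      rw [hd₃, map_mul, map_inv, map_mul, map_mul, map_inv, ← hXdef, hd₂σ, map_mul, map_pow, map_pow, ← hQdef,
        ← hWdef, inv_mul_eq_iff_eq_mul, hnorm, hnorm, hpowX, hpowX, hpowX, hXP, hXQ, hXW,
        (hPQ.mul_right hPW).mul_pow, hQW.mul_pow, hQW.mul_pow]
      have e1 : Commute (Q ^ i₂.val * W ^ i₂.val) (Q ^ j₂.val) :=
        ((Commute.refl Q).pow_pow _ _).mul_left (hQW.symm.pow_pow _ _)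
      have e2 : Commute (W ^ j₂.val) (W ^ k₂.val) := (Commute.refl W).pow_pow _ _
      have e3 : Commute (Q ^ i₂.val * W ^ i₂.val) (W ^ k₂.val) :=
        (hQW.pow_pow _ _).mul_left ((Commute.refl W).pow_pow _ _)
      calc _ = P ^ i₂.val * ((Q ^ i₂.val * W ^ i₂.val) * Q ^ j₂.val) * (W ^ j₂.val * W ^ k₂.val) := by
            simp only [mul_assoc]
        _ = P ^ i₂.val * Q ^ j₂.val * ((Q ^ i₂.val * W ^ i₂.val) * W ^ k₂.val) * W ^ j₂.val := by
            rw [e1.eq, e2.eq]; simp only [mul_assoc]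
        _ = _ := by rw [e3.eq, pow_add]; simp only [mul_assoc]
    rw [hτσ _ _ h1, map_mul, map_pow τ ⁅u, z⁆, hτW, one_pow, mul_one]
  have hτX : ∀ v w : N, x * v * x⁻¹ = w → τ x * τ v * (τ x)⁻¹ = τ w := fun v w h => by
    rw [← h, map_mul, map_mul, map_inv]
  have hd₃x : τ x * τ d₃ * (τ x)⁻¹ = τ d₃ := by
    rw [hd₃τ, map_pow, ← conj_pow]
    congr 1
    rw [hτX ⁅e, z⁆ _ rfl]
    have h1 : σ (x * ⁅e, z⁆ * x⁻¹) = σ (⁅e, z⁆ * ⁅u, z⁆) := by
      rw [map_mul, map_mul, map_inv, map_mul]; exact hXQ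
    rw [hτσ _ _ h1, map_mul, hτW, mul_one]
  have hd₁D := hMD hd₁M
  have hd₂D := hMD (hΦM hd₂Φ)
  have hd₃D := hMD (hΦM hd₃Φ)
  have hexp := conj_pow_expand (x := τ x) (e := τ e) (d₀ := τ d₀) (d₁ := τ d₁) (d₂ := τ d₂) (d₃ := τ d₃)
    (by rw [hτX e (e * d₀) (by rw [hd₀]; group), map_mul]) (by rw [hτX d₀ (d₀ * d₁) (by rw [hd₁]; group), map_mul])
    (by rw [hτX d₁ (d₁ * d₂) (by rw [hd₂]; group), map_mul]) (by rw [hτX d₂ (d₂ * d₃) (by rw [hd₃]; group), map_mul])
    hd₃x (hτD _ hd₀D _ hd₁D) (hτD _ hd₀D _ hd₂D) (hτD _ hd₀D _ hd₃D) (hτD _ hd₁D _ hd₂D) (hτD _ hd₁D _ hd₃D)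
    (hτD _ hd₂D _ hd₃D) p
  have hτp : ∀ w ∈ E, σ w ^ p ∈ Subgroup.zpowers W → τ w ^ p = 1 := fun w _ h => by
    rw [← map_pow, hτ, map_pow]; exact h
  have hchoose : ∀ (d : N ⧸ K₁), d ^ p = 1 → ∀ k, 0 < k → k < p → d ^ p.choose k = 1 := fun d hd k hk hk' => by
    obtain ⟨m, hm⟩ := hpp.dvd_choose_self hk.ne' hk'
    rw [hm, pow_mul, hd, one_pow]
  have hW1 : τ d₁ ^ p = 1 := hτp _ (hDE hd₁D) (by
    rw [hd₁', hpmul z z'.2 g₁ (hΦE hg₁), hσp g₁ hg₁, mul_one, hzp]
    exact pow_mem (Subgroup.mem_zpowers W) _)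
  rw [hchoose _ hW1 2 (by norm_num) (by omega),
    hchoose _ (hτp _ (hDE hd₂D) (by rw [hσp d₂ hd₂Φ]; exact one_mem _)) 3 (by norm_num) (by omega),
    hchoose _ (hτp _ (hDE hd₃D) (by rw [hσp d₃ hd₃Φ]; exact one_mem _)) 4 (by norm_num) (by omega),
    mul_one, mul_one, mul_one] at hexp
  rw [show τ d₀ ^ p = τ (⁅e, z⁆ ^ i₀.val) by
    have h1 : σ (d₀ ^ p) = σ (⁅e, z⁆ ^ i₀.val * ⁅u, z⁆ ^ (i₀.val + j₀.val)) := by
      rw [hd₀', map_pow, hpmul u u'.2 f₁ (hΦE hf₁), hσp f₁ hf₁, mul_one, hup, map_mul, map_pow, map_pow]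
    rw [← map_pow, hτσ _ _ h1, map_mul, map_pow τ ⁅u, z⁆, hτW, one_pow, mul_one]] at hexp
  rw [← map_pow, ← map_inv, ← map_mul, ← map_mul, ← map_mul, hτdef, QuotientGroup.mk'_apply, QuotientGroup.mk'_apply,
    QuotientGroup.eq] at hexp
  have hfin : σ ((x ^ p * e * (x ^ p)⁻¹)⁻¹ * (e * ⁅e, z⁆ ^ i₀.val)) ∈ Subgroup.zpowers W := hexp
  -- evaluate conjugation by `x ^ p`
  have hconjp' : σ (x ^ p * e * (x ^ p)⁻¹) = (Q ^ lam)⁻¹ * σ e := by
    have h0 : σ (x ^ p * e * (x ^ p)⁻¹) = ⁅σ (x ^ p), σ e⁆ * σ e := by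
      rw [commutatorElement_def, map_mul, map_mul, map_inv]; group
    rw [h0, hxp, hclΦ _ (E.pow_mem z'.2 lam) g hg e e'.2, hclp lam z z'.2 e e'.2, ← map_commutatorElement,
      ← commutatorElement_inv e z, map_inv, inv_pow]
  have hQe : Commute Q (σ e) := hσc _ hQm e e'.2
  have hgrp : ∀ A B C : N ⧸ Φ₂, (A⁻¹ * B)⁻¹ * (B * C) = B⁻¹ * A * B * C := fun A B C => by
    rw [mul_inv_rev A⁻¹ B, inv_inv A]; simp only [mul_assoc]
  rw [map_mul, map_inv, hconjp', map_mul, map_pow, ← hQdef, hgrp, mul_assoc (σ e)⁻¹, (hQe.pow_left lam).eq,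
    inv_mul_cancel_left, ← pow_add] at hfin
  obtain ⟨k, hk⟩ := (IsOfFinOrder.powers_eq_zpowers (isOfFinOrder_of_finite W)).symm.subset hfin
  obtain ⟨k', hk'⟩ : ∃ n : ℕ, (n : ZMod p) = -(k : ZMod p) := ⟨_, ZMod.natCast_zmod_val _⟩
  have h5 := (hind 0 (lam + i₀.val) k' (by
    rw [pow_zero, one_mul, ← (show W ^ k = Q ^ (lam + i₀.val) from hk), ← pow_add]
    exact (pow_val_eq hWp (n := 0) (by simp [hk'])).trans (pow_zero _))).2.1
  rw [Nat.cast_add, ZMod.natCast_zmod_val, hi₀] at h5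
  have h6 : (2 : ZMod p) * lam = 0 := by rw [two_mul]; exact h5
  rcases mul_eq_zero.1 h6 with h | h
  · have h7 : p ∣ 2 := (ZMod.natCast_eq_zero_iff 2 p).1 (by exact_mod_cast h)
    have h8 := Nat.le_of_dvd (by norm_num) h7
    omega
  · exact hlam0 h

end CfsgLib.FusionRankThree
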