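import Cfsg.Agent.Lib.FusionRankThree.Quot
import Cfsg.Agent.Lib.Fusion.Alperin
import Cfsg.Agent.Lib.RankFour.Sectional

/-!
Transport along isomorphisms, for rank three essential subgroups.
-/

set_option autoImplicit false
set_option linter.unusedSectionVars false

namespace CfsgLib.FusionRankThree

open Cfsg Cfsg.FusionSystem CfsgLib.Fusion

/-- Sectional rank passes to sections. -/
theorem sr_section {X Y E : Type*} [Group X] [Group Y] [Group E] {p k : ℕ}
    (hr : Cfsg.SectionalPRankLE p k X) (i : Y →* X) (hi : Function.Injective i) (q : Y →* E)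
    (hq : Function.Surjective q) : Cfsg.SectionalPRankLE p k E := by
  intro H N _ A hA hexp
  let mkH : H.comap q →* H ⧸ N := (QuotientGroup.mk' N).comp
    ((q.comp (H.comap q).subtype).codRestrict H fun y => y.2)
  have hmk : Function.Surjective mkH := by
    intro z
    obtain ⟨⟨h, hh⟩, rfl⟩ := QuotientGroup.mk'_surjective N z
    obtain ⟨y, rfl⟩ := hq h
    exact ⟨⟨y, hh⟩, rfl⟩
  refine CfsgLib.RankFour.card_le_of_hom hr ((i.comp (H.comap q).subtype).comp (A.comap mkH).subtype)
    ((mkH.comp (A.comap mkH).subtype).codRestrict A fun y => y.2) ?_ ?_ (fun a b => hA.is_comm.comm a b)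
    (fun a => Subtype.ext (hexp a a.2))
  · rintro ⟨a, ha⟩
    obtain ⟨y, rfl⟩ := hmk a
    exact ⟨⟨y, ha⟩, rfl⟩
  · intro y hy
    have hy1 : y = 1 := by
      have h1 : ((i.comp (H.comap q).subtype).comp (A.comap mkH).subtype) y = 1 := hy
      exact Subtype.ext (Subtype.ext (hi (h1.trans (map_one i).symm)))
    rw [hy1]
    exact one_mem _

section

variable {P P' : Type*} [Group P] [Group P'] [Finite P] [Finite P'] {p : ℕ} (e : P ≃* P')

theorem frattini_map_mem {w : P} (hw : w ∈ frattini P) : e w ∈ frattini P' :=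
  frattini_le_comap_frattini_of_surjective (φ := e.toMonoidHom) e.surjective hw

theorem fr_map_congr {v w : P} (h : fr v = fr w) : fr (e v) = fr (e w) := by
  rw [fr, fr, QuotientGroup.eq] at h ⊢
  rw [← map_inv, ← map_mul]
  exact frattini_map_mem e h

include e in
theorem frattini_index_congr : (frattini P').index = (frattini P).index := by
  have h : (frattini P').comap e.toMonoidHom = frattini P := by
    refine le_antisymm (fun w hw => ?_) fun w hw => frattini_map_mem e hw
    simpa using frattini_map_mem e.symm (Subgroup.mem_comap.1 hw)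
  rw [← h, Subgroup.index_comap_of_surjective _ e.surjective]

theorem congr_apply_map (α : MulAut P) (w : P) : MulAut.congr e α (e w) = e (α w) := by
  show e (α (e.symm (e w))) = _
  rw [e.symm_apply_apply]

theorem fr_cong_eq {α : MulAut P} {v w : P} (h : fr (α v) = fr w) :
    fr (MulAut.congr e α (e v)) = fr (e w) := by
  rw [congr_apply_map]; exact fr_map_congr e h

variable {A : Subgroup (MulAut P)} {α : MulAut P}

theorem gen_congr {a b c : P} (h : ∀ w : P, ∃ i j k : ℕ, fr w = fr a ^ i * fr b ^ j * fr c ^ k) (w : P') :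
    ∃ i j k : ℕ, fr w = fr (e a) ^ i * fr (e b) ^ j * fr (e c) ^ k := by
  obtain ⟨i, j, k, hh⟩ := h (e.symm w)
  refine ⟨i, j, k, ?_⟩
  have h1 := fr_map_congr e (v := e.symm w) (w := a ^ i * b ^ j * c ^ k) hh
  rw [e.apply_symm_apply, map_mul, map_mul, map_pow, map_pow, map_pow] at h1
  exact h1

theorem TransData.congr (h : TransData A p α) :
    TransData (A.map (MulAut.congr e).toMonoidHom) p (MulAut.congr e α) := by
  obtain ⟨a, l, z, h1, h2, h3, h4, h5⟩ := h
  refine ⟨e a, e l, e z, ?_, fr_cong_eq e h2, fr_cong_eq e h3, gen_congr e h4, fun t t' htt => ?_⟩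
  · have := fr_cong_eq e (α := α) (v := a) (w := a * z) h1
    rwa [map_mul] at this
  · obtain ⟨τ, hτ, e1, e2, e3, e4⟩ := h5 t t' htt
    refine ⟨MulAut.congr e τ, ⟨τ, hτ, rfl⟩, ?_, fr_cong_eq e e2, ?_, fun w => ?_⟩
    · have := fr_cong_eq e (α := τ) (v := a) (w := a ^ t) e1
      rwa [map_pow] at this
    · have := fr_cong_eq e (α := τ) (v := z) (w := z ^ t') e3
      rwa [map_pow] at this
    · rw [← map_inv (MulAut.congr e), ← map_mul (MulAut.congr e), ← map_mul (MulAut.congr e),
        ← map_pow (MulAut.congr e)]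
      exact fr_map_congr e (e4 (e.symm w))

theorem BlockData.congr (h : BlockData A α) :
    BlockData (A.map (MulAut.congr e).toMonoidHom) (MulAut.congr e α) := by
  obtain ⟨a, u, z, h1, h2, h3, h4, ⟨β₁, hβ₁, h5⟩, β₂, hβ₂, b, c, h6⟩ := h
  refine ⟨e a, e u, e z, ?_, ?_, fr_cong_eq e h3, gen_congr e h4, ⟨MulAut.congr e β₁, ⟨β₁, hβ₁, rfl⟩, fun k hk => ?_⟩,
    MulAut.congr e β₂, ⟨β₂, hβ₂, rfl⟩, b, c, fun b' c' hh => ?_⟩
  · have := fr_cong_eq e (α := α) (v := a) (w := a * u) h1
    rwa [map_mul] at this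
  · have := fr_cong_eq e (α := α) (v := u) (w := u * z) h2
    rwa [map_mul] at this
  · refine h5 k ?_
    rw [congr_apply_map, ← QuotientGroup.mk_pow, ← map_pow] at hk
    have := fr_map_congr e.symm hk
    rwa [e.symm_apply_apply, e.symm_apply_apply] at this
  · refine h6 b' c' ?_
    rw [← map_pow, ← map_pow, ← map_mul, congr_apply_map, ← QuotientGroup.mk_pow, ← QuotientGroup.mk_pow,
      ← QuotientGroup.mk_mul, ← map_pow, ← map_pow, ← map_mul] at hh
    have := fr_map_congr e.symm hh
    rwa [e.symm_apply_apply, e.symm_apply_apply] at this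

end

section

variable {Ω : Type*} [Group Ω] {S : Subgroup Ω} {F : Cfsg.FusionSystem S} {p : ℕ} [Fact p.Prime]

/-- An essential subgroup can be replaced by one whose normalizer in `S` is fully normalized. -/
theorem exists_normalizer_fullyNormalized [Finite S] (hS : IsPGroup p S) (hF : F.IsSaturated p)
    {E : Subgroup Ω} (hE : F.IsEssential p E) (hlt : normalizerIn S E < S) :
    ∃ E' : Subgroup Ω, F.IsEssential p E' ∧ Nonempty (E ≃* E') ∧ normalizerIn S E' < S ∧
      F.IsFullyNormalized (normalizerIn S E') := by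
  have hES : E ≤ S := hE.1.1
  have hEN : E ≤ normalizerIn S E := le_normalizerIn hES
  obtain ⟨N', hNN', hN'⟩ := exists_isFullyNormalized F (normalizerIn_le S E)
  obtain ⟨e, he⟩ := exists_iso_of_isConj hNN'
  set E' : Subgroup Ω := (E.subgroupOf (normalizerIn S E)).map (N'.subtype.comp e.toMonoidHom) with hE'
  have hmem : ∀ x : (normalizerIn S E), (e x : Ω) ∈ E' ↔ (x : Ω) ∈ E := fun x => by
    constructor
    · rintro ⟨y, hy, hyx⟩
      obtain rfl : y = x := e.injective (Subtype.ext hyx)
      exact hy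
    · exact fun hx => ⟨x, hx, rfl⟩
  have hE'N' : E' ≤ N' := by
    rintro _ ⟨x, -, rfl⟩
    exact (e x).2
  set f := restrictIso e hEN hE'N' hmem with hfdef
  have hf : IsFIso F f := he.restrict hEN f fun x => restrictIso_apply e hEN hE'N' hmem x
  have hN'S : N' ≤ S := he.le_right
  have hnorm : ∀ x : (normalizerIn S E), (e x : Ω) ∈ Subgroup.normalizer (E' : Set Ω) := fun x => by
    refine Subgroup.mem_normalizer_iff.2 fun n => ?_
    constructor
    · rintro ⟨y, hy, rfl⟩
      refine ⟨x * y * x⁻¹, ?_, by simp⟩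
      exact conj_mem_of_mem_normalizer x.2.2 hy
    · rintro ⟨y, hy, hyn⟩
      refine ⟨x⁻¹ * y * x, ?_, ?_⟩
      · have := conj_mem_of_mem_normalizer (Subgroup.inv_mem _ x.2.2) hy
        rw [inv_inv] at this
        exact this
      · show ((e (x⁻¹ * y * x) : N') : Ω) = n
        have h1 : (e y : Ω) = (e x : Ω) * n * (e x : Ω)⁻¹ := hyn
        rw [map_mul, map_mul, map_inv]
        push_cast
        rw [h1]; group
  have hN'le : N' ≤ normalizerIn S E' := fun y hy => by
    obtain ⟨x, hx⟩ := e.surjective ⟨y, hy⟩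
    have := hnorm x
    rw [hx] at this
    exact ⟨hN'S hy, this⟩
  have : Finite (normalizerIn S E') := finite_of_le (normalizerIn_le S E')
  have heq : N' = normalizerIn S E' := Subgroup.eq_of_le_of_card_ge hN'le
    ((hE.2.1.2 E' hf.isConj).trans (Nat.card_congr e.toEquiv).le)
  have hN'lt : N' < S := lt_of_le_of_ne hN'S fun h => hlt.ne
    (Subgroup.eq_of_le_of_card_ge (normalizerIn_le S E) (by rw [isConj_card_eq hNN', h]))
  have hE'lt : E' < S := lt_of_le_of_lt hE'N' hN'lt
  have hE'n : F.IsFullyNormalized E' := ⟨hE'lt.le, fun Q hQ => by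
    rw [← heq, ← isConj_card_eq hNN']
    exact hE.2.1.2 Q (isConj_trans hf.isConj hQ)⟩
  have hconj : ∀ x : (normalizerIn S E), MulAut.congr f (conjAut E x x.2.2) = conjAut E' (e x) (hnorm x) := fun x =>
    congr_conjAut f x.2.2 (hnorm x) fun w => by
      show ((e (x * ⟨w, hEN w.2⟩ * x⁻¹) : N') : Ω) = (e x : Ω) * (e ⟨w, hEN w.2⟩ : N') * (e x : Ω)⁻¹
      rw [map_mul, map_mul, map_inv]
      rfl
  have hrec := isReceptive_of_isFullyNormalized hS hF hE.2.1
  refine ⟨E', isEssential_of_extendableAut_ne hS hF hE'lt hE'n fun heq' => ?_, ⟨f⟩, heq ▸ hN'lt, heq ▸ hN'⟩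
  refine extendableAut_ne_of_isEssential hS hF hE (le_antisymm (extendableAut_le F E) fun α hα => ?_)
  have hle : extendableAut F E' ≤ (extendableAut F E).map (MulAut.congr f).toMonoidHom := by
    refine (Subgroup.closure_le _).2 ?_
    rintro α' ⟨R, hR, φ, hφ, hag⟩
    obtain ⟨g, hg, hgS, hgE, hmem'⟩ := exists_conjAut_of_extends hS hφ hR hag
    obtain ⟨x, hx⟩ := e.surjective ⟨g, heq ▸ (⟨hgS, hg⟩ : g ∈ normalizerIn S E')⟩
    obtain ⟨k, hk, hkS, hkeq⟩ := exists_eq_conjAut hmem'
    obtain ⟨y, hy⟩ := e.surjective ⟨k, heq ▸ (⟨hkS, hk⟩ : k ∈ normalizerIn S E')⟩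
    have hα' : (MulAut.congr f).symm α' ∈ F.autGroup E := by
      refine hf.congr_mem_iff.1 ?_
      rw [MulEquiv.apply_symm_apply]
      exact mem_autGroup_of_extends hφ hR.le hag
    refine ⟨(MulAut.congr f).symm α', mem_extendableAut_of_transport hrec hα' x.2.1 x.2.2 (fun hxE => hgE ?_) ?_,
      (MulAut.congr f).apply_symm_apply α'⟩
    · have := (hmem x).2 hxE
      rwa [hx] at this
    · have h1 : MulAut.congr f ((MulAut.congr f).symm α' * conjAut E x x.2.2 * ((MulAut.congr f).symm α')⁻¹) =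
          MulAut.congr f (conjAut E y y.2.2) := by
        rw [map_mul, map_mul, map_inv, MulEquiv.apply_symm_apply, hconj, hconj]
        simp only [hx, hy]
        exact hkeq
      rw [(MulAut.congr f).injective h1]
      exact conjAut_mem_autInducedBy y.2.1 y.2.2
  obtain ⟨β, hβ, hβα⟩ := hle (heq'.symm ▸ hf.congr_mem hα)
  exact (MulAut.congr f).injective hβα ▸ hβ

end

end CfsgLib.FusionRankThree
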