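import Cfsg.Agent.Lib.FusionRankThree.TransMove
import Cfsg.Agent.Lib.FusionRankThree.BlockCore
import Cfsg.Agent.Lib.FusionRankThree.Transfer
import Cfsg.Agent.Lib.Fusion.EssentialRankThree
import Mathlib.FieldTheory.Finite.Basic

/-!
Rank three essential subgroups are normal when the sectional rank is three.
-/

set_option autoImplicit false
set_option linter.unusedSectionVars false

namespace CfsgLib.FusionRankThree

open Cfsg Cfsg.FusionSystem CfsgLib.Fusion
open scoped commutatorElement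

variable {p : ℕ} [Fact p.Prime]

/-- A generator of the units has the powers needed below different from one. -/
theorem exists_torus_exponent (hp : 5 ≤ p) : ∃ t t' : ℕ, ((t * t' : ℕ) : ZMod p) = 1 ∧
    (t : ZMod p) ^ 2 ≠ 1 ∧ (t : ZMod p) ^ 3 ≠ 1 ∧ (t : ZMod p) ^ 5 ≠ 1 := by
  have hpp : p.Prime := Fact.out
  obtain ⟨u, hu⟩ := IsCyclic.exists_generator (α := (ZMod p)ˣ)
  have hord : orderOf u = p - 1 := by
    rw [orderOf_eq_card_of_forall_mem_zpowers hu, Nat.card_eq_fintype_card, ZMod.card_units]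
  have hne : ∀ k : ℕ, ¬ (p - 1) ∣ k → ((u : ZMod p).val : ZMod p) ^ k ≠ 1 := fun k hk h => hk (by
    rw [ZMod.natCast_zmod_val, ← Units.val_pow_eq_pow_val] at h
    exact hord ▸ orderOf_dvd_of_pow_eq_one (Units.ext h))
  refine ⟨(u : ZMod p).val, ((u⁻¹ : (ZMod p)ˣ) : ZMod p).val, ?_, hne 2 ?_, hne 3 ?_, hne 5 ?_⟩
  · rw [Nat.cast_mul, ZMod.natCast_zmod_val, ZMod.natCast_zmod_val, Units.mul_inv]
  · intro h; have := Nat.le_of_dvd (by norm_num) h; omega
  · intro h; have := Nat.le_of_dvd (by norm_num) h; omega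
  · intro h
    have := Nat.le_of_dvd (by norm_num) h
    obtain rfl | rfl : p = 5 ∨ p = 6 := by omega
    · norm_num at h
    · norm_num at hpp

section

variable {Ω : Type*} [Group Ω] {S : Subgroup Ω} {F : Cfsg.FusionSystem S}

/-- The normalizer of a rank three essential subgroup contains it with index `p`. -/
theorem index_subgroupOf_normalizerIn [Finite S] (hp : p ≠ 2) (hS : IsPGroup p S) (hF : F.IsSaturated p)
    {E : Subgroup Ω} (hE : F.IsEssential p E) (hidx : (frattini E).index = p ^ 3) (hlt : E < S) :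
    (E.subgroupOf (normalizerIn S E)).index = p := by
  have : Finite E := finite_of_le hlt.le
  have : Finite (MulAut E) := finite_mulAut
  have hNS := normalizerIn_le S E
  have : Finite (normalizerIn S E) := finite_of_le hNS
  have hrad := (isRadical_of_isEssential hS hF hE).2
  obtain ⟨hc, -, hn, M, hM⟩ := hE
  obtain ⟨x, hx, hxE⟩ := SetLike.exists_of_lt (lt_normalizerIn hS hlt)
  have hαA := autInducedBy_le_autGroup F hlt.le (conjAut_mem_autInducedBy hx.1 hx.2)
  set A := F.autGroup E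
  let f : normalizerIn S E →* A := ((E.normalizerMonoidHom.comp (Subgroup.inclusion inf_le_right))).codRestrict A
    fun g => autInducedBy_le_autGroup F hlt.le (conjAut_mem_autInducedBy g.2.1 g.2.2)
  have hfI : ((Cfsg.Inn E).subgroupOf A).comap f = E.subgroupOf (normalizerIn S E) := by
    ext g
    constructor
    · exact fun h => mem_of_conjAut_mem_inn (centralizerIn_le_of_isCentric hc) hlt.le g.2.1 g.2.2 h
    · intro h
      exact ⟨⟨(g : Ω), h⟩, MulEquiv.ext fun y => Subtype.ext rfl⟩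
  have hH : IsPGroup p f.range := by
    rw [MonoidHom.range_eq_map]
    exact ((hS.to_le hNS).to_subgroup ⊤).map f
  have hIH : (Cfsg.Inn E).subgroupOf A ≤ f.range := by
    rintro a ⟨u, hu⟩
    exact ⟨⟨u, le_normalizerIn hlt.le u.2⟩, Subtype.ext (Eq.trans (b := MulAut.conj u) (MulEquiv.ext fun y => Subtype.ext rfl) hu)⟩
  have hxp : ∃ k, (⟨_, hαA⟩ : A) ^ p ^ k = 1 := by
    obtain ⟨k, hk⟩ := hH ⟨_, ⟨x, hx⟩, rfl⟩
    exact ⟨k, congrArg Subtype.val hk⟩
  have hle := (essential_data (hS.to_le hlt.le) hp hidx (inn_le_autGroup F hlt.le) hrad hM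
    (α := ⟨_, hαA⟩) (fun h => hxE (mem_of_conjAut_mem_inn (centralizerIn_le_of_isCentric hc) hlt.le hx.1 hx.2 h)) hxp).1
    f.range hH hIH
  rw [← Subgroup.index_comap, hfI] at hle
  obtain ⟨m, hm⟩ := (IsPGroup.index (hS.to_le hNS) (E.subgroupOf (normalizerIn S E)))
  rw [hm] at hle ⊢
  rcases m with _ | _ | m
  · rw [pow_zero, Subgroup.index_eq_one] at hm
    exact absurd ((hm ▸ Subgroup.mem_top _ : (⟨x, hx⟩ : normalizerIn S E) ∈ E.subgroupOf (normalizerIn S E))) hxE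
  · rw [zero_add, pow_one]
  · exact absurd hle (not_le.2 (lt_of_eq_of_lt (pow_one p).symm
      (Nat.pow_lt_pow_right (Fact.out : p.Prime).one_lt (by omega))))

set_option maxHeartbeats 4000000 in
/-- The core: the normalizer is fully normalized and proper. -/
theorem false_of_fullyNormalized_normalizer [Finite S] (hp : 5 ≤ p) (hS : IsPGroup p S)
    (hsr : Cfsg.SectionalPRankLE p 3 S) (hF : F.IsSaturated p) {E : Subgroup Ω} (hE : F.IsEssential p E)
    (hidx : (frattini E).index = p ^ 3) (hlt : normalizerIn S E < S)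
    (hNn : F.IsFullyNormalized (normalizerIn S E)) : False := by
  have hpp : p.Prime := Fact.out
  have hp2 : p ≠ 2 := by omega
  have hES : E < S := lt_of_le_of_lt (le_normalizerIn hE.1.1) hlt
  have hindex := index_subgroupOf_normalizerIn hp2 hS hF hE hidx hES
  obtain ⟨g, hg, hgN⟩ := SetLike.exists_of_lt (lt_normalizerIn hS hlt)
  obtain ⟨x₁, hx₁, hx₁E⟩ := SetLike.exists_of_lt (lt_normalizerIn hS hES)
  have hEN : E ≤ normalizerIn S E := le_normalizerIn hES.le
  have hNS : normalizerIn S E ≤ S := hlt.le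
  have hNnorm : normalizerIn S E ≤ Subgroup.normalizer (E : Set Ω) := inf_le_right
  clear hlt
  generalize hNdef : normalizerIn S E = N at *
  have : Finite E := finite_of_le hES.le
  have : Finite (MulAut E) := finite_mulAut
  have : Finite N := finite_of_le hNS
  have hNp : IsPGroup p N := hS.to_le hNS
  have hsrN : Cfsg.SectionalPRankLE p 3 N :=
    sr_section hsr (Subgroup.inclusion hNS) (Subgroup.inclusion_injective hNS) (MonoidHom.id N) Function.surjective_id
  set A := F.autGroup E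
  obtain ⟨hn, M, hM⟩ := hE.2.2
  have hrad := (isRadical_of_isEssential hS hF hE).2
  have hc := centralizerIn_le_of_isCentric hE.1
  -- the essential data, moved into `N`
  set Ê : Subgroup N := E.subgroupOf N with hÊ
  have : Ê.Normal := Subgroup.normal_subgroupOf_of_le_normalizer hNnorm
  set ι : Ê ≃* E := Subgroup.subgroupOfEquivOfLe hEN
  have hidx' : (frattini Ê).index = p ^ 3 := (frattini_index_congr ι).symm.trans hidx
  set c₁ := conjAut E x₁ (hNnorm hx₁) with hc₁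
  have hc₁S : c₁ ∈ autInducedBy S E := conjAut_mem_autInducedBy (hNS hx₁) _
  have hc₁A : c₁ ∈ A := autInducedBy_le_autGroup F hES.le hc₁S
  have hc₁p : ∃ k, (⟨c₁, hc₁A⟩ : A) ^ p ^ k = 1 := by
    obtain ⟨k, hk⟩ := isPGroup_autInducedBy hS E ⟨c₁, hc₁S⟩
    exact ⟨k, Subtype.ext (show c₁ ^ p ^ k = 1 from congrArg Subtype.val hk)⟩
  have hdata := (essential_data (hS.to_le hES.le) hp2 hidx (inn_le_autGroup F hES.le) hrad hM
    (α := ⟨c₁, hc₁A⟩) (fun h => hx₁E (mem_of_conjAut_mem_inn hc hES.le (hNS hx₁) _ h)) hc₁p).2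
  set Â := A.map (MulAut.congr ι.symm).toMonoidHom
  have hcongr : MulAut.congr ι.symm c₁ = conjOn Ê ⟨x₁, hx₁⟩ :=
    MulEquiv.ext fun w => Subtype.ext (Subtype.ext rfl)
  have hx₁Ê : (⟨x₁, hx₁⟩ : N) ∉ Ê := hx₁E
  have hgnorm : g ∈ Subgroup.normalizer (N : Set Ω) := hg.2
  -- `g` moves the subgroup
  have hmove : ∀ r : Ω, r ∈ S → (hr : r ∈ Subgroup.normalizer (N : Set Ω)) → r ∉ N →
      ∃ w ∈ Ê, conjAut N r hr w ∉ Ê := by
    intro r hrS hr hrN
    by_contra h
    push Not at h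
    refine hrN (hNdef ▸ ⟨hrS, ?_⟩)
    refine Subgroup.mem_normalizer_iff_map_conj_eq.2 (Subgroup.eq_of_le_of_card_ge ?_
      (Subgroup.card_map_of_injective (MulEquiv.injective _)).ge)
    rintro _ ⟨w, hw, rfl⟩
    exact h ⟨w, hEN hw⟩ hw
  rcases hdata with htd | hbd
  swap
  · -- a single block
    refine block_false hNp hp hsrN Ê hindex hidx' hx₁Ê (hcongr ▸ hbd.congr ι.symm) (conjAut N g hgnorm) ?_
      (hmove g hg.1 hgnorm hgN)
    obtain ⟨k, hk⟩ := isPGroup_autInducedBy hS N ⟨_, conjAut_mem_autInducedBy hg.1 hgnorm⟩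
    exact ⟨k, congrArg Subtype.val hk⟩
  -- a transvection
  obtain ⟨t, t', htt, ht2, ht3, ht5⟩ := exists_torus_exponent (p := p) hp
  have hrec := isReceptive_of_isFullyNormalized hS hF hE.2.1
  have hextN : ∀ τ ∈ Â, (∃ k : ℕ, ∀ w, fr ((τ * conjOn Ê ⟨x₁, hx₁⟩ * τ⁻¹) w) =
      fr (((conjOn Ê ⟨x₁, hx₁⟩) ^ k) w)) →
      ∃ T : MulAut N, T ∈ F.autGroup N ∧ ∀ w : Ê, T w = τ w := by
    rintro _ ⟨τ, hτ, rfl⟩ ⟨k, hk⟩
    have hτS : τ * c₁ * τ⁻¹ ∈ autInducedBy S E := by
      have hk' : ∀ w, fr ((τ * c₁ * τ⁻¹) w) = fr ((c₁ ^ k) w) := fun w => by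
        have h0 := hk (ι.symm w)
        rw [← hcongr] at h0
        rw [show (MulAut.congr ι.symm).toMonoidHom τ = MulAut.congr ι.symm τ from rfl, ← map_inv (MulAut.congr ι.symm),
          ← map_mul (MulAut.congr ι.symm), ← map_mul (MulAut.congr ι.symm), ← map_pow (MulAut.congr ι.symm),
          congr_apply_map, congr_apply_map] at h0
        have h1 := fr_map_congr ι h0
        rwa [MulEquiv.apply_symm_apply, MulEquiv.apply_symm_apply] at h1
      have hd : (c₁ ^ k)⁻¹ * (τ * c₁ * τ⁻¹) ∈ Cfsg.Inn E := by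
        rw [← hrad]
        refine ⟨⟨_, A.mul_mem (A.inv_mem (A.pow_mem hc₁A k)) (A.mul_mem (A.mul_mem hτ hc₁A) (A.inv_mem hτ))⟩,
          CfsgLib.Solvable.le_pCore (frKer_normal A) (isPGroup_frKer (hS.to_le hES.le) A) fun w => ?_, rfl⟩
        show fr (((c₁ ^ k)⁻¹ : MulAut E) ((τ * c₁ * τ⁻¹) w)) = fr w
        rw [fr_congr _ (hk' w), MulAut.inv_apply_self]
      have := (autInducedBy S E).mul_mem ((autInducedBy S E).pow_mem hc₁S k) (inn_le_autInducedBy hES.le hd)
      rwa [mul_inv_cancel_left] at this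
    let fN : N →* MulAut E := E.normalizerMonoidHom.comp (Subgroup.inclusion hNnorm)
    let K : Subgroup N := (autInducedBy S E).comap ((MulAut.conj τ).toMonoidHom.comp fN)
    have hEK : Ê ≤ K := fun w hw => inn_le_autInducedBy hES.le ((inn_normal E).conj_mem (fN w)
      ⟨⟨(w : Ω), hw⟩, MulEquiv.ext fun y => Subtype.ext rfl⟩ τ)
    have hKtop : K = ⊤ := by
      have h1 := Subgroup.index_dvd_of_le hEK
      rw [hindex] at h1
      rcases (Nat.dvd_prime hpp).1 h1 with h | h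
      · exact Subgroup.index_eq_one.1 h
      · exfalso
        have hmem : (⟨x₁, hx₁⟩ : N) ∈ K := hτS
        have e1 := Ê.card_mul_index
        have e2 := K.card_mul_index
        rw [hindex] at e1; rw [h] at e2
        exact hx₁Ê ((Subgroup.eq_of_le_of_card_ge hEK
          (Nat.eq_of_mul_eq_mul_right hpp.pos (e2.trans e1.symm)).le).symm ▸ hmem)
    have hτiso : IsFIso F (τ : E ≃* E) := (mem_autGroup_iff hES.le).1 hτ
    have hNN : N ≤ normalizerIn S E := hNdef.ge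
    obtain ⟨ψ, hψ, hψN, hag⟩ := hτiso.exists_extension hrec hEN hNN fun y hy => by
      have hyK : (⟨y, hy⟩ : N) ∈ K := hKtop ▸ Subgroup.mem_top _
      exact hyK
    obtain ⟨T, hT, hTx⟩ := exists_aut hψ (range_eq_of_le (hom_inj hψ) fun y => hNdef.le (hψN y))
    refine ⟨T, hT, fun w => Subtype.ext ?_⟩
    exact (hTx w).trans (hag (ι w))
  obtain ⟨e, l, z, x, T, hL, hTA⟩ := trans_layer (B := F.autGroup N) hNp hp hsrN Ê hindex hidx' hx₁Ê
    (hcongr ▸ htd.congr ι.symm) hextN htt ht2 ht3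
  -- the quotient
  set R := normalizerIn S N
  have : Finite R := finite_of_le (normalizerIn_le S N)
  have hNR : N ≤ R := le_normalizerIn hNS
  set Φ : Subgroup N := (frattini Ê).map Ê.subtype with hΦ
  have hΦÊ : Φ ≤ Ê := Subgroup.map_subtype_le _
  set ΦR : Subgroup R := Φ.map (Subgroup.inclusion hNR)
  have : ΦR.Normal := ⟨by
    rintro _ ⟨w, hw, rfl⟩ r
    exact ⟨conjAut N r r.2.2 w, hL.char _ w hw, Subtype.ext rfl⟩⟩
  set π := QuotientGroup.mk' ΦR
  set N₀ : Subgroup (R ⧸ ΦR) := (π.comp (Subgroup.inclusion hNR)).range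
  have : N₀.Normal := ⟨by
    rintro _ ⟨w, rfl⟩ q
    obtain ⟨r, rfl⟩ := QuotientGroup.mk'_surjective ΦR q
    exact ⟨conjAut N r r.2.2 w, congrArg π (Subtype.ext rfl)⟩⟩
  set j : N →* N₀ := (π.comp (Subgroup.inclusion hNR)).rangeRestrict
  have hj : Function.Surjective j := MonoidHom.rangeRestrict_surjective _
  have hjker : ∀ w, j w = 1 ↔ w ∈ Φ := fun w => by
    rw [← MonoidHom.mem_ker, MonoidHom.ker_rangeRestrict, MonoidHom.mem_ker, MonoidHom.comp_apply,
      QuotientGroup.mk'_apply, QuotientGroup.eq_one_iff]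
    exact Subgroup.mem_map_iff_mem (Subgroup.inclusion_injective hNR)
  have hjeq : ∀ v w, j v = j w ↔ v⁻¹ * w ∈ Φ := fun v w => by
    rw [← hjker, map_mul, map_inv, inv_mul_eq_one]
  -- automorphisms of `N` act on `N₀`
  have hkerle : ∀ α : MulAut N, j.ker ≤ (j.comp α.toMonoidHom).ker := fun α w hw =>
    (hjker _).2 (hL.char α w ((hjker w).1 hw))
  let L : MulAut N → (N₀ →* N₀) := fun α => j.liftOfSurjective hj ⟨j.comp α.toMonoidHom, hkerle α⟩
  have hL' : ∀ α w, L α (j w) = j (α w) := fun α w => MonoidHom.liftOfRightInverse_comp_apply _ _ _ _ w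
  have hLmul : ∀ α β v, L (α * β) v = L α (L β v) := fun α β v => by
    obtain ⟨w, rfl⟩ := hj v
    rw [hL', hL', hL']; rfl
  have hLone : ∀ v, L 1 v = v := fun v => by
    obtain ⟨w, rfl⟩ := hj v
    rw [hL']; rfl
  let Ψ : MulAut N →* MulAut N₀ :=
    { toFun := fun α =>
        { toFun := L α
          invFun := L α⁻¹
          left_inv := fun v => by rw [← hLmul, inv_mul_cancel, hLone]
          right_inv := fun v => by rw [← hLmul, mul_inv_cancel, hLone]
          map_mul' := map_mul (L α) }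
      map_one' := MulEquiv.ext hLone
      map_mul' := fun α β => MulEquiv.ext (hLmul α β) }
  have hΨ : ∀ α w, Ψ α (j w) = j (α w) := hL'
  have hΨconj : ∀ r : R, (MulAut.conjNormal (π r) : MulAut N₀) = Ψ (conjAut N r r.2.2) := fun r => by
    refine MulEquiv.ext fun v => ?_
    obtain ⟨w, rfl⟩ := hj v
    rw [hΨ]
    refine Subtype.ext ?_
    rw [MulAut.conjNormal_apply]
    exact congrArg π (Subtype.ext rfl)
  set 𝒜 := (F.autGroup N).map Ψ
  set AN := F.autGroup N
  have : Finite (MulAut N) := finite_mulAut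
  have : Finite (MulAut N₀) := finite_mulAut
  obtain ⟨-, P, hP⟩ := isFullyAutomized_of_isFullyNormalized hS hF hNn
  let φ : AN →* 𝒜 := (Ψ.comp AN.subtype).codRestrict 𝒜 fun a => ⟨a, a.2, rfl⟩
  have hφ : Function.Surjective φ := by
    rintro ⟨_, a, ha, rfl⟩
    exact ⟨⟨a, ha⟩, rfl⟩
  have hφP : ∀ b : AN, b ∈ (P : Subgroup AN) ↔ (b : MulAut N) ∈ autInducedBy S N := fun b => by
    rw [hP]; exact Iff.rfl
  have hrange : ∀ v : MulAut N₀, v ∈ (MulAut.conjNormal : R ⧸ ΦR →* MulAut N₀).range ↔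
      ∃ b : AN, b ∈ (P : Subgroup AN) ∧ Ψ b = v := by
    intro v
    constructor
    · rintro ⟨q, rfl⟩
      obtain ⟨r, rfl⟩ := QuotientGroup.mk'_surjective ΦR q
      exact ⟨⟨_, autInducedBy_le_autGroup F hNS (conjAut_mem_autInducedBy r.2.1 r.2.2)⟩,
        (hφP _).2 (conjAut_mem_autInducedBy (P := N) r.2.1 r.2.2), (hΨconj r).symm⟩
    · rintro ⟨b, hb, rfl⟩
      obtain ⟨r, hr, hrS, hbr⟩ := exists_eq_conjAut ((hφP b).1 hb)
      exact ⟨π ⟨r, hrS, hr⟩, by rw [hΨconj, hbr]⟩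
  have hsylow : ∀ H : Subgroup (MulAut N₀), H ≤ 𝒜 → IsPGroup p H →
      (MulAut.conjNormal : R ⧸ ΦR →* MulAut N₀).range ≤ H →
      H = (MulAut.conjNormal : R ⧸ ΦR →* MulAut N₀).range := by
    intro H hHA hHp hle
    refine le_antisymm (fun v hv => ?_) hle
    have h1 : (P.mapSurjective hφ : Subgroup 𝒜) ≤ H.subgroupOf 𝒜 := by
      rintro _ ⟨b, hb, rfl⟩
      exact hle ((hrange _).2 ⟨b, hb, rfl⟩)
    have h2 := (P.mapSurjective hφ).is_maximal' (IsPGroup.comap_subtype hHp) h1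
    obtain ⟨b, hb, hbv⟩ := (h2 ▸ (hv : (⟨v, hHA hv⟩ : 𝒜) ∈ H.subgroupOf 𝒜) :
      (⟨v, hHA hv⟩ : 𝒜) ∈ (P.mapSurjective hφ : Subgroup 𝒜))
    exact (hrange v).2 ⟨b, hb, congrArg Subtype.val hbv⟩
  have hΦfr : Φ ≤ frattini N := CfsgLib.FrattiniEmbed.frattini_map_le Ê
  have hkerP : ∀ b : AN, Ψ b = 1 → b ∈ (P : Subgroup AN) := fun b hb => by
    have hk : b ∈ frKer AN := fun w => by
      refine QuotientGroup.eq.2 (hΦfr ((hjeq _ _).1 ?_))
      rw [← hΨ, hb]; rfl
    have := frKer_normal AN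
    exact CfsgLib.Solvable.pCore_le_sylow P (CfsgLib.Solvable.le_pCore this (isPGroup_frKer hNp AN) hk)
  have hrecN := isReceptive_of_isFullyNormalized hS hF hNn
  have hextQ : ∀ α ∈ 𝒜, (∀ q : R ⧸ ΦR, α * MulAut.conjNormal q * α⁻¹ ∈
      (MulAut.conjNormal : R ⧸ ΦR →* MulAut N₀).range) → ∃ B : MulAut (R ⧸ ΦR), ∀ n : N₀, B n = α n := by
    rintro _ ⟨a, ha, rfl⟩ hnorm
    have haiso : IsFIso F (a : N ≃* N) := (mem_autGroup_iff hNS).1 ha
    obtain ⟨ψ, hψ, hψR, hag⟩ := haiso.exists_extension hrecN hNR le_rfl fun y hy => by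
      show a * conjAut N y hy.2 * a⁻¹ ∈ autInducedBy S N
      have h1 := hnorm (π ⟨y, hy⟩)
      rw [hΨconj, ← map_inv, ← map_mul, ← map_mul, hrange] at h1
      obtain ⟨b, hb, hbv⟩ := h1
      have hmem : a * conjAut N y hy.2 * a⁻¹ ∈ AN :=
        AN.mul_mem (AN.mul_mem ha (autInducedBy_le_autGroup F hNS (conjAut_mem_autInducedBy hy.1 hy.2))) (AN.inv_mem ha)
      have h2 : b⁻¹ * ⟨_, hmem⟩ ∈ (P : Subgroup AN) := hkerP _ (by
        rw [Subgroup.coe_mul, Subgroup.coe_inv, map_mul, map_inv, hbv, inv_mul_cancel])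
      have h3 := (P : Subgroup AN).mul_mem hb h2
      rw [mul_inv_cancel_left] at h3
      exact (hφP _).1 h3
    obtain ⟨β, hβ, hβx⟩ := exists_aut hψ (range_eq_of_le (hom_inj hψ) hψR)
    have hβN : ∀ w : N, β (Subgroup.inclusion hNR w) = Subgroup.inclusion hNR (a w) := fun w =>
      Subtype.ext ((hβx _).trans (hag w))
    have hmap : ΦR.map β.toMonoidHom = ΦR := by
      refine Subgroup.eq_of_le_of_card_ge ?_ (Subgroup.card_map_of_injective β.injective).ge
      rintro _ ⟨_, ⟨w, hw, rfl⟩, rfl⟩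
      exact ⟨a w, hL.char a w hw, (hβN w).symm⟩
    refine ⟨QuotientGroup.congr ΦR ΦR β hmap, fun n => ?_⟩
    obtain ⟨w, rfl⟩ := hj n
    rw [hΨ]
    show (QuotientGroup.congr ΦR ΦR β hmap) (π (Subgroup.inclusion hNR w)) = π (Subgroup.inclusion hNR (a w))
    rw [← hβN]; rfl
  -- the frame
  have hjE : ∀ w, j w ∈ Ê.map j → w ∈ Ê := by
    rintro w ⟨v, hv, hvw⟩
    have := Ê.mul_mem hv (hΦÊ ((hjeq v w).1 hvw))
    rwa [mul_inv_cancel_left] at this
  have hxÊ := hL.hx
  have hjp : ∀ w, j w ^ p = 1 := fun w => by rw [← map_pow, hjker]; exact hL.exp w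
  have hjc : ∀ a b, ⁅a, b⁆ ∈ Φ → Commute (j a) (j b) := fun a b h => by
    rw [← commutatorElement_eq_one_iff_commute, ← map_commutatorElement, hjker]; exact h
  have hcard : Nat.card (N ⧸ Ê) = p := by rw [← Subgroup.index_eq_card, hindex]
  have hxq : (QuotientGroup.mk x : N ⧸ Ê) ≠ 1 := fun h => hxÊ ((QuotientGroup.eq_one_iff _).1 h)
  have hxqp : (QuotientGroup.mk x : N ⧸ Ê) ^ p = 1 := by
    rw [← QuotientGroup.mk_pow, QuotientGroup.eq_one_iff]; exact hΦÊ (hL.exp x)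
  have hframe : Frame p t t' (j e) (j x) (j l) (j z) (Ψ T) := by
    refine ⟨hjp _, hjp _, hjp _, hjp _, hjc _ _ hL.cel, hjc _ _ hL.cez, hjc _ _ hL.cxl, hjc _ _ hL.cxz,
      hjc _ _ hL.clz, ?_, ?_, ?_, ?_, ?_, ?_, ?_⟩
    · have h1 : ⁅j x, j e⁆ = j z := by rw [← map_commutatorElement, hjeq]; exact hL.cxe
      rw [commutatorElement_def] at h1
      rw [(hjc _ _ hL.cez).eq, ← h1, inv_mul_cancel_right]
    · intro n
      obtain ⟨w, rfl⟩ := hj n
      obtain ⟨i, hi⟩ := (IsOfFinOrder.powers_eq_zpowers (isOfFinOrder_of_finite _)).symm.subset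
        (zpowers_eq_top_of_prime_card hcard hxq ▸ Subgroup.mem_top (QuotientGroup.mk w : N ⧸ Ê) :
          (QuotientGroup.mk w : N ⧸ Ê) ∈ Subgroup.zpowers (QuotientGroup.mk x : N ⧸ Ê))
      obtain ⟨a, b, c, h⟩ := hL.gen _ (QuotientGroup.eq.1 (hi : (QuotientGroup.mk (x ^ i) : N ⧸ Ê) = QuotientGroup.mk w))
      have h' : j ((x ^ i)⁻¹ * w) = j (e ^ a * l ^ b * z ^ c) := (hjeq _ _).2 (QuotientGroup.eq.1 h)
      refine ⟨i, a, b, c, ?_⟩
      rw [map_mul, map_inv, inv_mul_eq_iff_eq_mul, map_pow, map_mul, map_mul, map_pow, map_pow, map_pow] at h'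
      rw [h', ← mul_assoc, ← mul_assoc]
    · intro i a b c h
      have h1 : x ^ i * e ^ a * l ^ b * z ^ c ∈ Φ := by
        rw [← hjker, map_mul, map_mul, map_mul, map_pow, map_pow, map_pow, map_pow]; exact h
      have hw : e ^ a * (l ^ b * z ^ c) ∈ Ê :=
        Ê.mul_mem (Ê.pow_mem hL.he a) (Ê.mul_mem (Ê.pow_mem hL.hl b) (Ê.pow_mem hL.hz c))
      have hi : (i : ZMod p) = 0 := by
        have h2 : x ^ i ∈ Ê := (Ê.mul_mem_cancel_right hw).1 (by
          have := hΦÊ h1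
          simpa only [mul_assoc] using this)
        have h3 : (QuotientGroup.mk x : N ⧸ Ê) ^ i = 1 := by
          rw [← QuotientGroup.mk_pow, QuotientGroup.eq_one_iff]; exact h2
        by_contra hne
        exact hxq (eq_one_of_pow hxqp hne h3)
      refine ⟨hi, hL.indep a b c ?_⟩
      rw [← hjker, map_mul, map_mul, map_pow, map_pow, map_pow]
      rwa [pow_val_eq (hjp x) (m := i) (n := 0) (by simpa using hi), pow_zero, one_mul] at h
    · rw [hΨ, ← map_pow, hjeq]; exact hL.Te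
    · rw [hΨ, hjeq]; exact hL.Tl
    · rw [hΨ, ← map_pow, hjeq]; exact hL.Tz
    · obtain ⟨b, c, h⟩ := hL.Tx
      exact ⟨b, c, by rw [hΨ, ← map_pow, ← map_pow, ← map_pow, ← map_mul, ← map_mul, hjeq]; exact h⟩
  have hQ : IsPGroup p (R ⧸ ΦR) := (hS.to_le (normalizerIn_le S N)).to_quotient ΦR
  have hsrQ : Cfsg.SectionalPRankLE p 3 (R ⧸ ΦR) := sr_section hsr (Subgroup.inclusion (normalizerIn_le S N))
    (Subgroup.inclusion_injective _) π (QuotientGroup.mk'_surjective ΦR)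
  refine trans_top (g := π ⟨g, hg⟩) hQ hsrQ (Ê.map j) hframe ⟨e, hL.he, rfl⟩ ⟨l, hL.hl, rfl⟩ ⟨z, hL.hz, rfl⟩
    (fun h => hxÊ (hjE x h)) (fun q => ?_) hsylow hextQ ⟨T, hTA, rfl⟩ htt ht2 ht3 ht5 ?_ ?_
  · obtain ⟨r, rfl⟩ := QuotientGroup.mk'_surjective ΦR q
    exact ⟨_, autInducedBy_le_autGroup F hNS (conjAut_mem_autInducedBy r.2.1 r.2.2), (hΨconj r).symm⟩
  · intro q hq
    obtain ⟨r, rfl⟩ := QuotientGroup.mk'_surjective ΦR q
    by_cases hr : (r : Ω) ∈ N
    · exact ⟨⟨r, hr⟩, congrArg π (Subtype.ext rfl)⟩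
    · exfalso
      obtain ⟨w, hw, hw'⟩ := hmove r r.2.1 r.2.2 hr
      refine hw' (hjE _ ?_)
      have := hq (j w) ⟨w, hw, rfl⟩
      rwa [hΨconj, hΨ] at this
  · rintro ⟨w, hw⟩
    obtain ⟨u, hu, huw⟩ := QuotientGroup.eq.1 hw
    refine hgN ?_
    have := congrArg (fun v : R => (v : Ω)) huw
    have hmem : (w : Ω)⁻¹ * g ∈ N := by
      rw [show (w : Ω)⁻¹ * g = (u : Ω) from this.symm]
      exact u.2
    have h1 := N.mul_mem w.2 hmem
    rwa [mul_inv_cancel_left] at h1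

/-- Rank three essential subgroups are normal. -/
theorem normal_of_rank_three [Finite S] (hp : 5 ≤ p) (hS : IsPGroup p S)
    (hsr : Cfsg.SectionalPRankLE p 3 S) (hF : F.IsSaturated p) {E : Subgroup Ω} (hE : F.IsEssential p E)
    (hidx : (frattini E).index = p ^ 3) : S ≤ Subgroup.normalizer (E : Set Ω) := by
  by_contra h
  have hlt : normalizerIn S E < S := lt_of_le_of_ne (normalizerIn_le S E) fun he => h (he.ge.trans inf_le_right)
  obtain ⟨E', hE', ⟨f⟩, hlt', hn'⟩ := exists_normalizer_fullyNormalized hS hF hE hlt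
  have : Finite E := finite_of_le hE.1.1
  have : Finite E' := finite_of_le hE'.1.1
  exact false_of_fullyNormalized_normalizer hp hS hsr hF hE' ((frattini_index_congr f).trans hidx) hlt' hn'

end

end CfsgLib.FusionRankThree
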