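import Cfsg.Agent.Lib.FusionRankThree.Sylow
import Mathlib.LinearAlgebra.Span.Defs
import Mathlib.Tactic.Module

/-!
The two kinds of linear groups of degree three with Sylow subgroups of order `p` and no normal one.
-/

set_option autoImplicit false
set_option linter.unusedSectionVars false

namespace CfsgLib.FusionRankThree

open Cfsg

variable {p : ℕ} [Fact p.Prime] {V : Type*} [AddCommGroup V] [Module (ZMod p) V] [Finite V]
variable {G : Type*} [Group G] [Finite G] {ρ : G →* Module.End (ZMod p) V}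

theorem isPGroup_zpowers_of_pow {x : G} (h : x ^ p = 1) : IsPGroup p (Subgroup.zpowers x) := by
  rintro ⟨_, k, rfl⟩
  refine ⟨1, Subtype.ext ?_⟩
  show (x ^ k) ^ p ^ 1 = 1
  rw [pow_one, ← zpow_natCast, ← zpow_mul, mul_comm, zpow_mul, zpow_natCast, h, one_zpow]

theorem mem_zpowers_of_sylow (hcard : ∀ P : Sylow p G, Nat.card P = p) {x : G} (hx : orderOf x = p)
    {H : Subgroup G} (hH : IsPGroup p H) (hxH : x ∈ H) {y : G} (hy : y ∈ H) : y ∈ Subgroup.zpowers x := by
  obtain ⟨P, hP⟩ := hH.exists_le_sylow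
  have h1 : Subgroup.zpowers x = (P : Subgroup G) :=
    Subgroup.eq_of_le_of_card_ge (Subgroup.zpowers_le.2 (hP hxH))
      (by rw [Nat.card_zpowers, hx]; exact (hcard P).le)
  exact h1 ▸ hP hy

theorem commute_mem_zpowers (hcard : ∀ P : Sylow p G, Nat.card P = p) {x y : G} (hx : orderOf x = p)
    (hy : y ^ p = 1) (hc : Commute x y) : y ∈ Subgroup.zpowers x := by
  have hxp : x ^ p = 1 := hx ▸ pow_orderOf_eq_one x
  refine mem_zpowers_of_sylow hcard hx (IsPGroup.to_sup_of_normal_right' (isPGroup_zpowers_of_pow hy)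
    (isPGroup_zpowers_of_pow hxp) ?_) (Subgroup.mem_sup_right (Subgroup.mem_zpowers x))
    (Subgroup.mem_sup_left (Subgroup.mem_zpowers y))
  rw [Subgroup.zpowers_le]
  refine Subgroup.centralizer_le_normalizer _ (Subgroup.mem_centralizer_iff.2 ?_)
  rintro _ ⟨k, rfl⟩
  exact (hc.zpow_left k).eq

theorem pow_eq_one_of_sq (hρ : Function.Injective ρ) {t : G} {a : Module.End (ZMod p) V} (h : ρ t = 1 + a)
    (ha : a * a = 0) : t ^ p = 1 :=
  hρ (by rw [map_pow, h, one_add_pow_sq ha, ZMod.natCast_self, zero_smul, add_zero, map_one])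

theorem pair_degenerate (hρ : Function.Injective ρ) (hcard : ∀ P : Sylow p G, Nat.card P = p) {t u : G}
    {a b : Module.End (ZMod p) V} (ht : orderOf t = p) (hta : ρ t = 1 + a) (hub : ρ u = 1 + b)
    (ha : a * a = 0) (hb : b * b = 0) (hba : b * a = 0) : u ∈ Subgroup.zpowers t := by
  by_cases hab : a * b = 0
  · refine commute_mem_zpowers hcard ht (pow_eq_one_of_sq hρ hub hb) (hρ ?_)
    rw [map_mul, map_mul, hta, hub]
    noncomm_ring
    rw [hab, hba]
  obtain ⟨c, hc⟩ : ∃ c, c = t * u * t⁻¹ * u⁻¹ := ⟨_, rfl⟩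
  have hρc : ρ c = 1 + a * b := by
    rw [hc, map_mul, map_mul, map_mul, hta, hub, rho_inv t hta ha, rho_inv u hub hb, comm_identity ha hb hba]
  have hab2 : a * b * (a * b) = 0 := by rw [mul_assoc a, ← mul_assoc b, hba, zero_mul, mul_zero]
  have hc1 : c ≠ 1 := fun h => hab (by simpa [h, map_one] using hρc.symm)
  have hct : Commute t c := hρ (by
    rw [map_mul, map_mul, hta, hρc]
    have : a * (a * b) = 0 := by rw [← mul_assoc, ha, zero_mul]
    have : a * b * a = 0 := by rw [mul_assoc, hba, mul_zero]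
    noncomm_ring [*])
  have hcu : Commute c u := hρ (by
    rw [map_mul, map_mul, hub, hρc]
    have : a * b * b = 0 := by rw [mul_assoc, hb, mul_zero]
    have : b * (a * b) = 0 := by rw [← mul_assoc, hba, zero_mul]
    noncomm_ring [*])
  have hcp := pow_eq_one_of_sq hρ hρc hab2
  have hco : orderOf c = p := orderOf_eq_prime hcp hc1
  exact Subgroup.zpowers_le.2 (commute_mem_zpowers hcard ht hcp hct)
    (commute_mem_zpowers hcard hco (pow_eq_one_of_sq hρ hub hb) hcu)

theorem not_normal {M : Subgroup G} (hM : IsStronglyPEmbedded p M) (hcard : ∀ P : Sylow p G, Nat.card P = p)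
    {x : G} (hx : orderOf x = p) : ∃ g, g * x * g⁻¹ ∉ Subgroup.zpowers x := by
  by_contra hh
  push Not at hh
  have hxp := isPGroup_zpowers_of_pow (hx ▸ pow_orderOf_eq_one x)
  obtain ⟨P, hne, hle⟩ := CfsgLib.LocalEven.se_sylow_le hM
  have hn : (Subgroup.zpowers x).Normal := ⟨fun y hy g => by
    obtain ⟨k, rfl⟩ := hy
    show g * x ^ k * g⁻¹ ∈ Subgroup.zpowers x
    rw [← conj_zpow]
    exact Subgroup.zpow_mem _ (hh g) k⟩
  have h1 : (P : Subgroup G) = Subgroup.zpowers x := by
    refine (P.3 (IsPGroup.to_sup_of_normal_right P.2 hxp) le_sup_left).symm.trans ?_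
    obtain ⟨Q, hQ⟩ := (IsPGroup.to_sup_of_normal_right P.2 hxp).exists_le_sylow
    have h2 : Subgroup.zpowers x = (Q : Subgroup G) :=
      Subgroup.eq_of_le_of_card_ge (le_sup_right.trans hQ) (by rw [Nat.card_zpowers, hx]; exact (hcard Q).le)
    exact le_antisymm (h2 ▸ hQ) le_sup_right
  have h2 := CfsgLib.Even.normalizer_le_of_stronglyPEmbedded hM P.2 hle hne
  rw [h1, Subgroup.normalizer_eq_top_iff.2 hn, top_le_iff] at h2
  exact hM.2.1 h2

/-- The torus in the group generated by two opposite transvections. -/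
theorem torus_apply {a b : Module.End (ZMod p) V} {e l z : V} (hae : a e = z) (haz : a z = 0) (hal : a l = 0)
    (hbz : b z = e) (hbe : b e = 0) (hbl : b l = 0) {t : ZMod p} (ht : t ≠ 0) :
    let h : Module.End (ZMod p) V := (1 + t⁻¹ • a) * (1 + (-t) • b) * (1 + t⁻¹ • a) *
      ((1 + (-1 : ZMod p) • a) * (1 + b) * (1 + (-1 : ZMod p) • a))
    h e = t • e ∧ h l = l ∧ h z = t⁻¹ • z := by
  refine ⟨?_, ?_, ?_⟩ <;>
    simp only [Module.End.mul_apply, LinearMap.add_apply, LinearMap.smul_apply, Module.End.one_apply, map_add,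
      map_smul, hae, haz, hal, hbz, hbe, hbl, smul_zero, add_zero, smul_add, smul_smul] <;>
    match_scalars <;> field_simp <;> ring

theorem case_transvection (hρ : Function.Injective ρ) (hV : Nat.card V = p ^ 3) {M : Subgroup G}
    (hM : IsStronglyPEmbedded p M) (hcard : ∀ P : Sylow p G, Nat.card P = p) {x : G} (hx : orderOf x = p)
    (hsq : (ρ x - 1) * (ρ x - 1) = 0) :
    ∃ e l z : V, ρ x e = e + z ∧ ρ x l = l ∧ ρ x z = z ∧ (∀ w, ∃ a b c : ZMod p, w = a • e + b • l + c • z) ∧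
      ∀ t : ZMod p, t ≠ 0 → ∃ h : G, ρ h e = t • e ∧ ρ h l = l ∧ ρ h z = t⁻¹ • z ∧
        h * x * h⁻¹ = x ^ (t⁻¹ * t⁻¹).val := by
  obtain ⟨g, hg⟩ := not_normal hM hcard hx
  set a := ρ x - 1 with ha'
  have hxa : ρ x = 1 + a := by rw [ha', add_sub_cancel]
  set y := g * x * g⁻¹ with hy
  set b := ρ g * a * ρ g⁻¹ with hb'
  have hgg : ρ g⁻¹ * ρ g = 1 := by rw [← map_mul, inv_mul_cancel, map_one]
  have hgg' : ρ g * ρ g⁻¹ = 1 := by rw [← map_mul, mul_inv_cancel, map_one]
  have hyb : ρ y = 1 + b := by rw [hy, map_mul, map_mul, hxa, mul_add, mul_one, add_mul, hgg']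
  have hb : b * b = 0 := by
    calc b * b = ρ g * (a * (ρ g⁻¹ * ρ g) * a) * ρ g⁻¹ := by simp only [hb', mul_assoc]
      _ = 0 := by rw [hgg, mul_one, hsq, mul_zero, zero_mul]
  have hyo : orderOf y = p := by
    rw [hy, ← hx]
    exact orderOf_injective (MulAut.conj g).toMonoidHom (MulEquiv.injective _) x
  have hba : b * a ≠ 0 := fun h => hg (pair_degenerate hρ hcard hx hxa hyb hsq hb h)
  have hab : a * b ≠ 0 := fun h => hg (by
    have h1 := pair_degenerate hρ hcard hyo hyb hxa hb hsq h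
    have h2 : Subgroup.zpowers x = Subgroup.zpowers y :=
      Subgroup.eq_of_le_of_card_ge (Subgroup.zpowers_le.2 h1) (by rw [Nat.card_zpowers, Nat.card_zpowers, hx, hyo])
    exact h2 ▸ Subgroup.mem_zpowers y)
  obtain ⟨e, he0, ⟨we, hwe⟩, halle⟩ := exists_line hV hb fun h => hba (by rw [h, zero_mul])
  obtain ⟨za, hza, -, halla⟩ := exists_line hV hsq fun h => hba (by
    rw [show a = 0 from h, mul_zero])
  have hae : a e ≠ 0 := fun h => hab (LinearMap.ext fun w => by
    obtain ⟨d, hd⟩ := halle w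
    rw [Module.End.mul_apply, hd, map_smul, h, smul_zero, LinearMap.zero_apply])
  set z := a e with hz
  have hallz : ∀ w, ∃ c : ZMod p, a w = c • z := by
    intro w
    obtain ⟨d, hd⟩ := halla w
    obtain ⟨d', hd'⟩ := halla e
    have hd'0 : d' ≠ 0 := fun h => hae (by rw [hz, hd', h, zero_smul])
    exact ⟨d * d'⁻¹, by rw [hz, hd', hd, smul_smul, mul_assoc, inv_mul_cancel₀ hd'0, mul_one]⟩
  obtain ⟨c, hc⟩ := halle z
  have hc0 : c ≠ 0 := fun h => hba (LinearMap.ext fun w => by
    obtain ⟨d, hd⟩ := hallz w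
    rw [Module.End.mul_apply, hd, map_smul, hc, h, zero_smul, smul_zero, LinearMap.zero_apply])
  -- normalise the second transvection
  set b' := c⁻¹ • b with hb''
  have hbz : b' z = e := by rw [hb'', LinearMap.smul_apply, hc, smul_smul, inv_mul_cancel₀ hc0, one_smul]
  have haz : a z = 0 := LinearMap.congr_fun hsq e
  have hbe : b' e = 0 := by
    rw [hb'', LinearMap.smul_apply, ← hwe, ← Module.End.mul_apply, hb, LinearMap.zero_apply, smul_zero]
  have hallb : ∀ w, ∃ d : ZMod p, b' w = d • e := fun w => by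
    obtain ⟨d, hd⟩ := halle w
    exact ⟨c⁻¹ * d, by rw [hb'', LinearMap.smul_apply, hd, smul_smul]⟩
  obtain ⟨l, hl0, hal, hbl⟩ : ∃ l, l ≠ 0 ∧ a l = 0 ∧ b' l = 0 := by
    by_contra hh
    push Not at hh
    have hsur : Function.Surjective fun t : ZMod p × ZMod p => t.1 • e + t.2 • z := by
      intro w
      obtain ⟨α, hα⟩ := hallz w
      obtain ⟨β, hβ⟩ := hallb w
      refine ⟨(α, β), ?_⟩
      by_contra hne
      refine hh (w - (α • e + β • z)) (sub_ne_zero.2 (Ne.symm hne)) ?_ ?_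
      · simp [map_sub, map_add, map_smul, hα, haz, ← hz]
      · simp [map_sub, map_add, map_smul, hβ, hbe, hbz]
    have h1 := Nat.card_le_card_of_surjective _ hsur
    simp [hV, Nat.card_prod] at h1
    have h2 : p * p < p ^ 3 := by
      rw [← sq]; exact Nat.pow_lt_pow_right (Fact.out : p.Prime).one_lt (by norm_num)
    omega
  have hspan : ∀ w, ∃ a' b'' c' : ZMod p, w = a' • e + b'' • l + c' • z := by
    let f : ZMod p × ZMod p × ZMod p → V := fun t => t.1 • e + t.2.1 • l + t.2.2 • z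
    have hinj : Function.Injective f := by
      intro s t h
      have h0 : (s.1 - t.1) • e + (s.2.1 - t.2.1) • l + (s.2.2 - t.2.2) • z = 0 := by
        have : f s - f t = 0 := sub_eq_zero.2 h
        rw [← this]
        simp only [f, sub_smul]
        abel
      have e1 : s.1 - t.1 = 0 := by
        have := congrArg a h0
        simp [map_add, map_smul, ← hz, hal, haz] at this
        exact this.resolve_right hae
      have e3 : s.2.2 - t.2.2 = 0 := by
        have := congrArg b' h0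
        simp [map_add, map_smul, hbe, hbl, hbz] at this
        exact this.resolve_right he0
      rw [e1, e3, zero_smul, zero_smul, zero_add, add_zero] at h0
      have e2 : s.2.1 - t.2.1 = 0 := (smul_eq_zero.1 h0).resolve_right hl0
      exact Prod.ext (sub_eq_zero.1 e1) (Prod.ext (sub_eq_zero.1 e2) (sub_eq_zero.1 e3))
    have hbij : Function.Bijective f := hinj.bijective_of_nat_card_le (by simp [hV]; ring_nf; exact le_rfl)
    intro w
    obtain ⟨⟨a', b'', c'⟩, h⟩ := hbij.2 w
    exact ⟨a', b'', c', h.symm⟩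
  refine ⟨e, l, z, by rw [hxa]; rfl, by rw [hxa]; simp [hal], by rw [hxa]; simp [haz], hspan, fun t ht => ?_⟩
  have hU : ∀ r : ZMod p, ρ (x ^ r.val) = 1 + r • a := fun r => by
    rw [map_pow, hxa, one_add_pow_sq hsq, ZMod.natCast_zmod_val]
  have hL : ∀ r : ZMod p, ρ (y ^ (r * c⁻¹).val) = 1 + r • b' := fun r => by
    rw [map_pow, hyb, one_add_pow_sq hb, ZMod.natCast_zmod_val, hb'', smul_smul]
  obtain ⟨he', hl', hz'⟩ := torus_apply (a := a) (b := b') (e := e) (l := l) (z := z) rfl haz hal hbz hbe hbl ht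
  obtain ⟨h, hh⟩ : ∃ h, h = x ^ t⁻¹.val * y ^ ((-t) * c⁻¹).val * x ^ t⁻¹.val *
    (x ^ (-1 : ZMod p).val * y ^ ((1 : ZMod p) * c⁻¹).val * x ^ (-1 : ZMod p).val) := ⟨_, rfl⟩
  have hρh : ρ h = (1 + t⁻¹ • a) * (1 + (-t) • b') * (1 + t⁻¹ • a) *
      ((1 + (-1 : ZMod p) • a) * (1 + b') * (1 + (-1 : ZMod p) • a)) := by
    rw [hh]; simp only [map_mul, hU, hL, one_smul]
  refine ⟨h, by rw [hρh]; exact he', by rw [hρh]; exact hl', by rw [hρh]; exact hz', ?_⟩
  rw [mul_inv_eq_iff_eq_mul]
  refine hρ (LinearMap.ext fun w => ?_)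
  rw [← hρh] at he' hl' hz'
  obtain ⟨A, B, C, rfl⟩ := hspan w
  rw [map_mul, map_mul, hU (t⁻¹ * t⁻¹), hxa]
  simp only [Module.End.mul_apply, LinearMap.add_apply, LinearMap.smul_apply, Module.End.one_apply, map_add,
    map_smul, he', hl', hz', ← hz, hal, haz, smul_zero, add_zero, smul_add, smul_smul]
  match_scalars <;> field_simp

end CfsgLib.FusionRankThree
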