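import Cfsg.Agent.Lib.FusionRankThree.Cases

/-!
The linear groups with a single Jordan block fix neither a point nor a line.
-/

set_option autoImplicit false
set_option linter.unusedSectionVars false

namespace CfsgLib.FusionRankThree

open Cfsg

variable {p : ℕ} [Fact p.Prime] {V : Type*} [AddCommGroup V] [Module (ZMod p) V] [Finite V]
variable {G : Type*} [Group G] [Finite G] {ρ : G →* Module.End (ZMod p) V}

/-- The elements stabilising `0 ≤ W₁ ≤ W₂ ≤ V`. -/
def flagMonoid (ρ : G →* Module.End (ZMod p) V) (W₁ W₂ : Submodule (ZMod p) V) (h : W₁ ≤ W₂) : Submonoid G where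
  carrier := {g | (∀ w ∈ W₁, ρ g w = w) ∧ (∀ w ∈ W₂, ρ g w - w ∈ W₁) ∧ ∀ w, ρ g w - w ∈ W₂}
  one_mem' := ⟨fun w _ => by simp, fun w _ => by simp, fun w => by simp⟩
  mul_mem' := by
    rintro g k ⟨g1, g2, g3⟩ ⟨k1, k2, k3⟩
    have hadd : ∀ w, ρ (g * k) w - w = (ρ g (ρ k w - w) - (ρ k w - w)) + (ρ k w - w) + (ρ g w - w) := fun w => by
      rw [map_mul, Module.End.mul_apply, map_sub]; abel
    refine ⟨fun w hw => by rw [map_mul, Module.End.mul_apply, k1 w hw, g1 w hw], fun w hw => ?_, fun w => ?_⟩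
    · rw [hadd, g1 _ (k2 w hw), sub_self, zero_add]
      exact W₁.add_mem (k2 w hw) (g2 w hw)
    · rw [hadd]
      exact W₂.add_mem (W₂.add_mem (g3 _) (k3 w)) (g3 w)

/-- The subgroup stabilising `0 ≤ W₁ ≤ W₂ ≤ V`. -/
def flagStab (ρ : G →* Module.End (ZMod p) V) (W₁ W₂ : Submodule (ZMod p) V) (h : W₁ ≤ W₂) : Subgroup G where
  toSubmonoid := flagMonoid ρ W₁ W₂ h
  inv_mem' := by
    intro g hg
    obtain ⟨k, hk⟩ := (IsOfFinOrder.powers_eq_zpowers (isOfFinOrder_of_finite g)).symm.subset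
      (inv_mem (Subgroup.mem_zpowers g))
    show g⁻¹ ∈ flagMonoid ρ W₁ W₂ h
    rw [← show g ^ k = g⁻¹ from hk]
    exact pow_mem (show g ∈ flagMonoid ρ W₁ W₂ h from hg) k

theorem mem_flagStab {W₁ W₂ : Submodule (ZMod p) V} {h : W₁ ≤ W₂} {g : G} :
    g ∈ flagStab ρ W₁ W₂ h ↔
      (∀ w ∈ W₁, ρ g w = w) ∧ (∀ w ∈ W₂, ρ g w - w ∈ W₁) ∧ ∀ w, ρ g w - w ∈ W₂ := Iff.rfl

theorem pow_eq_one_of_cube (hρ : Function.Injective ρ) (hp : p ≠ 2) {g : G}
    (h3 : (ρ g - 1) * (ρ g - 1) * (ρ g - 1) = 0) : g ^ p = 1 := by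
  have hc : ((p.choose 2 : ℕ) : ZMod p) = 0 :=
    (ZMod.natCast_eq_zero_iff _ _).2 ((Fact.out : p.Prime).dvd_choose_self (by norm_num)
      (lt_of_le_of_ne (Fact.out : p.Prime).two_le (Ne.symm hp)))
  refine hρ ?_
  rw [map_pow, show ρ g = 1 + (ρ g - 1) by rw [add_sub_cancel], one_add_pow h3, ZMod.natCast_self, hc, zero_smul,
    zero_smul, add_zero, add_zero, map_one]

theorem isPGroup_flagStab (hρ : Function.Injective ρ) (hp : p ≠ 2) (W₁ W₂ : Submodule (ZMod p) V) (h : W₁ ≤ W₂) :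
    IsPGroup p (flagStab ρ W₁ W₂ h) := by
  rintro ⟨g, g1, g2, g3⟩
  refine ⟨1, Subtype.ext ?_⟩
  show g ^ p ^ 1 = 1
  rw [pow_one]
  refine pow_eq_one_of_cube hρ hp (LinearMap.ext fun w => ?_)
  simp only [Module.End.mul_apply, LinearMap.sub_apply, Module.End.one_apply, LinearMap.zero_apply]
  rw [g1 _ (g2 _ (g3 w)), sub_self]

theorem normal_flagStab {W : Submodule (ZMod p) V} (hW : ∀ g : G, ∀ w ∈ W, ρ g w ∈ W) :
    (flagStab ρ W W le_rfl).Normal := by
  refine ⟨fun n hn g => ?_⟩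
  obtain ⟨n1, -, n3⟩ := hn
  have hgg : ρ g * ρ g⁻¹ = 1 := by rw [← map_mul, mul_inv_cancel, map_one]
  have hinv : ∀ w, ρ g (ρ g⁻¹ w) = w := fun w => LinearMap.congr_fun hgg w
  have h3 : ∀ w, ρ (g * n * g⁻¹) w - w ∈ W := fun w => by
    rw [map_mul, map_mul, Module.End.mul_apply, Module.End.mul_apply]
    simpa [hinv] using hW g _ (n3 (ρ g⁻¹ w))
  refine ⟨fun w hw => ?_, fun w _ => h3 w, h3⟩
  rw [map_mul, map_mul, Module.End.mul_apply, Module.End.mul_apply, n1 _ (hW _ w hw), hinv]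

/-- A normal `p`-subgroup is trivial. -/
theorem normal_eq_bot (hcard : ∀ P : Sylow p G, Nat.card P = p) {x : G} (hx : orderOf x = p)
    (hnn : ∃ g, g * x * g⁻¹ ∉ Subgroup.zpowers x) {K : Subgroup G} (hK : K.Normal) (hKp : IsPGroup p K) :
    K = ⊥ := by
  by_contra hne
  have hsup : IsPGroup p (K ⊔ Subgroup.zpowers x : Subgroup G) :=
    IsPGroup.to_sup_of_normal_left hKp (isPGroup_zpowers_of_pow (hx ▸ pow_orderOf_eq_one x))
  have hle : K ≤ Subgroup.zpowers x := fun y hy =>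
    mem_zpowers_of_sylow hcard hx hsup (Subgroup.mem_sup_right (Subgroup.mem_zpowers x)) (Subgroup.mem_sup_left hy)
  have heq : K = Subgroup.zpowers x := by
    refine Subgroup.eq_of_le_of_card_ge hle ?_
    rw [Nat.card_zpowers, hx]
    exact Nat.le_of_dvd Nat.card_pos (CfsgLib.LocalEven.dvd_card_of_ne_bot hKp hne)
  obtain ⟨g, hg⟩ := hnn
  exact hg (heq ▸ hK.conj_mem x (heq ▸ Subgroup.mem_zpowers x) g)

/-- A unipotent map has eigenvalue `1` modulo an invariant subspace. -/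
theorem coeff_eq_one {u : Module.End (ZMod p) V} {k : ℕ} (hu : u ^ p ^ k = 1) {W : Submodule (ZMod p) V}
    (hW : ∀ w ∈ W, u w ∈ W) {v : V} (hv : v ∉ W) {c : ZMod p} (h : u v - c • v ∈ W) : c = 1 := by
  have hpow : ∀ n : ℕ, (u ^ n) v - c ^ n • v ∈ W := by
    intro n
    induction n with
    | zero => simp
    | succ n ih =>
      rw [pow_succ', Module.End.mul_apply,
        show u ((u ^ n) v) - c ^ (n + 1) • v = u ((u ^ n) v - c ^ n • v) + c ^ n • (u v - c • v) by
          rw [map_sub, map_smul, smul_sub, smul_smul, ← pow_succ]; abel]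
      exact W.add_mem (hW _ ih) (W.smul_mem _ h)
  have h1 := hpow (p ^ k)
  rw [hu, ZMod.pow_card_pow, Module.End.one_apply] at h1
  by_contra hc
  apply hv
  have h2 := W.smul_mem (1 - c)⁻¹ h1
  rwa [show v - c • v = (1 - c) • v by rw [sub_smul, one_smul], smul_smul,
    inv_mul_cancel₀ (sub_ne_zero.2 (Ne.symm hc)), one_smul] at h2

/-- The basic data of a single Jordan block. -/
structure Block (ρ : G →* Module.End (ZMod p) V) (x : G) (e u z : V) : Prop where
  xe : ρ x e = e + u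
  xu : ρ x u = u + z
  xz : ρ x z = z
  ne : z ≠ 0

namespace Block

variable {x : G} {e u z : V}

theorem sub_apply (B : Block ρ x e u z) :
    (ρ x - 1) e = u ∧ (ρ x - 1) u = z ∧ (ρ x - 1) z = 0 := by
  simp [B.xe, B.xu, B.xz]

theorem coords (B : Block ρ x e u z) (hV : Nat.card V = p ^ 3) (w : V) :
    ∃ a b c : ZMod p, w = a • e + b • u + c • z := by
  obtain ⟨h1, h2, h3⟩ := B.sub_apply
  obtain ⟨a, b, c, h⟩ := exists_coords hV (N := ρ x - 1) (e := e) (by rw [h1, h2]; exact B.ne)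
    (by rw [h1, h2, h3]) w
  exact ⟨a, b, c, by rw [h, h1, h2]⟩

theorem indep (B : Block ρ x e u z) {a b c : ZMod p} (h : a • e + b • u + c • z = 0) : a = 0 ∧ b = 0 ∧ c = 0 := by
  obtain ⟨h1, h2, h3⟩ := B.sub_apply
  have ha : a = 0 := by
    have := congrArg (fun w => (ρ x - 1) ((ρ x - 1) w)) h
    simp only [map_add, map_smul, h1, h2, h3, smul_zero, add_zero, map_zero] at this
    exact (smul_eq_zero.1 this).resolve_right B.ne
  rw [ha, zero_smul, zero_add] at h
  have hb : b = 0 := by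
    have := congrArg (fun w => (ρ x - 1) w) h
    simp only [map_add, map_smul, h2, h3, smul_zero, add_zero, map_zero] at this
    exact (smul_eq_zero.1 this).resolve_right B.ne
  rw [hb, zero_smul, zero_add] at h
  exact ⟨ha, hb, (smul_eq_zero.1 h).resolve_right B.ne⟩

theorem shift (B : Block ρ x e u z) (k c : ZMod p) : Block ρ x (e + k • u + c • z) (u + k • z) z := by
  refine ⟨?_, ?_, B.xz, B.ne⟩
  · simp only [map_add, map_smul, B.xe, B.xu, B.xz]; module
  · simp only [map_add, map_smul, B.xu, B.xz]; module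

theorem u_not_mem (B : Block ρ x e u z) : u ∉ Submodule.span (ZMod p) {z} := fun h => by
  obtain ⟨c, hc⟩ := Submodule.mem_span_singleton.1 h
  have h1 := (B.indep (a := 0) (b := 1) (c := -c) (by rw [← hc]; module)).2.1
  exact one_ne_zero h1

theorem e_not_mem (B : Block ρ x e u z) : e ∉ Submodule.span (ZMod p) {u, z} := fun h => by
  obtain ⟨b, c, hc⟩ := Submodule.mem_span_pair.1 h
  have h1 := (B.indep (a := 1) (b := -b) (c := -c) (by rw [← hc]; module)).1
  exact one_ne_zero h1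

theorem z_not_fixed (hρ : Function.Injective ρ) (hp : p ≠ 2) (hV : Nat.card V = p ^ 3)
    (hcard : ∀ P : Sylow p G, Nat.card P = p) (hx : orderOf x = p)
    (hnn : ∃ g, g * x * g⁻¹ ∉ Subgroup.zpowers x) (B : Block ρ x e u z) :
    ∃ g : G, ∀ c : ZMod p, ρ g z ≠ c • z := by
  by_contra hall
  push Not at hall
  set Z := Submodule.span (ZMod p) ({z} : Set V) with hZdef
  set U := Submodule.span (ZMod p) ({u, z} : Set V) with hUdef
  have hzZ : ∀ c : ZMod p, c • z ∈ Z := fun c => Submodule.mem_span_singleton.2 ⟨c, rfl⟩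
  have hmemU : ∀ b c : ZMod p, b • u + c • z ∈ U := fun b c => Submodule.mem_span_pair.2 ⟨b, c, rfl⟩
  have hZU : Z ≤ U := Submodule.span_mono (by simp)
  have hZinv : ∀ g : G, ∀ w ∈ Z, ρ g w ∈ Z := fun g w hw => by
    obtain ⟨c, rfl⟩ := Submodule.mem_span_singleton.1 hw
    obtain ⟨d, hd⟩ := hall g
    rw [map_smul, hd, smul_smul]
    exact hzZ _
  obtain ⟨g, hg⟩ := hnn
  set y := g * x * g⁻¹ with hy
  have hyp : y ^ p = 1 := by rw [hy, conj_pow, ← hx, pow_orderOf_eq_one]; group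
  have hρy : ρ y ^ p ^ 1 = 1 := by rw [pow_one, ← map_pow, hyp, map_one]
  have hyz : ρ y z = z := by
    obtain ⟨c, hc⟩ := hall y
    rw [hc, eigen_eq_one hρy B.ne hc, one_smul]
  set N := ρ y - 1 with hN
  have hN3 : ∀ w, N (N (N w)) = 0 := fun w => LinearMap.congr_fun (cube_eq_zero hV hρy) w
  have hNz : N z = 0 := by simp [hN, hyz]
  have hNZ : ∀ w ∈ Z, N w = 0 := fun w hw => by
    obtain ⟨c, rfl⟩ := Submodule.mem_span_singleton.1 hw
    rw [map_smul, hNz, smul_zero]
  -- `y` does not stabilise the flag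
  have hNu : N u ∉ Z := by
    intro hmem
    refine hg (mem_zpowers_of_sylow hcard hx (isPGroup_flagStab hρ hp Z U hZU) ?_ ?_)
    · refine ⟨fun w hw => ?_, fun w hw => ?_, fun w => ?_⟩
      · obtain ⟨c, rfl⟩ := Submodule.mem_span_singleton.1 hw
        rw [map_smul, B.xz]
      · obtain ⟨b, c, rfl⟩ := Submodule.mem_span_pair.1 hw
        simpa [B.xu, B.xz, smul_add] using hzZ b
      · obtain ⟨a, b, c, rfl⟩ := B.coords hV w
        have : ρ x (a • e + b • u + c • z) - (a • e + b • u + c • z) = a • u + b • z := by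
          simp only [map_add, map_smul, B.xe, B.xu, B.xz]; module
        rw [this]
        exact hmemU a b
    · have hU2 : ∀ w ∈ U, ρ y w - w ∈ Z := fun w hw => by
        obtain ⟨b, c, rfl⟩ := Submodule.mem_span_pair.1 hw
        have : ρ y (b • u + c • z) - (b • u + c • z) = b • N u := by simp [hN, hyz, smul_sub]
        rw [this]
        exact Z.smul_mem b hmem
      refine ⟨fun w hw => by simpa [hN, sub_eq_zero] using hNZ w hw, hU2, fun w => ?_⟩
      have hUinv : ∀ w ∈ U, ρ y w ∈ U := fun w hw => by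
        simpa using U.add_mem (hZU (hU2 w hw)) hw
      obtain ⟨a, b, c, habc⟩ := B.coords hV (ρ y e)
      have ha : a = 1 := coeff_eq_one hρy hUinv B.e_not_mem (by rw [habc]; simpa [add_assoc] using hmemU b c)
      obtain ⟨a', b', c', rfl⟩ := B.coords hV w
      subst ha
      have : ρ y (a' • e + b' • u + c' • z) - (a' • e + b' • u + c' • z) =
          a' • (b • u + c • z) + b' • N u := by
        simp [hN, hyz, habc, smul_sub]; module
      rw [this]
      exact U.add_mem (U.smul_mem _ (hmemU b c)) (U.smul_mem _ (hZU hmem))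
  -- a vector fixed modulo `Z` outside `U`
  obtain ⟨f, hfZ, hNf⟩ : ∃ f, f ∉ Z ∧ N f ∈ Z := by
    by_cases h : N (N u) ∈ Z
    · exact ⟨N u, hNu, h⟩
    · exact ⟨N (N u), h, by rw [hN3]; exact Z.zero_mem⟩
  obtain ⟨A, Bc, C, hf⟩ := B.coords hV f
  have hA : A ≠ 0 := by
    intro hA
    rw [hA, zero_smul, zero_add] at hf
    have hB : Bc ≠ 0 := fun hB => hfZ (by rw [hf, hB, zero_smul, zero_add]; exact hzZ C)
    apply hNu
    have h1 := Z.smul_mem Bc⁻¹ hNf
    rwa [hf, map_add, map_smul, map_smul, hNz, smul_zero, add_zero, smul_smul, inv_mul_cancel₀ hB, one_smul] at h1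
  -- change the basis
  have B' := B.shift (A⁻¹ * Bc) (A⁻¹ * C)
  set e' := e + (A⁻¹ * Bc) • u + (A⁻¹ * C) • z with he'
  set u' := u + (A⁻¹ * Bc) • z with hu'
  have hNe' : N e' ∈ Z := by
    rw [show e' = A⁻¹ • f by rw [hf, he']; simp [smul_add, smul_smul, inv_mul_cancel₀ hA], map_smul]
    exact Z.smul_mem _ hNf
  have hNu' : N u' ∉ Z := by rwa [hu', map_add, map_smul, hNz, smul_zero, add_zero]
  obtain ⟨c₁, hc₁⟩ := Submodule.mem_span_singleton.1 hNe'
  obtain ⟨r, q, c₂, hc₂⟩ := B'.coords hV (N u')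
  obtain ⟨hq, hr⟩ : q = 0 ∧ r ≠ 0 := by
    have h1 := hN3 u'
    simp only [hc₂, ← hc₁, map_add, map_smul, hNz, smul_zero, add_zero, smul_add, smul_smul] at h1
    have h2 := B'.indep (a := q * q * r) (b := q * q * q) (c := q * q * c₂ + q * (r * c₁))
      (by rw [← h1]; module)
    have hq : q = 0 := by simpa using h2.2.1
    refine ⟨hq, fun hr => hNu' ?_⟩
    rw [hc₂, hq, hr, zero_smul, zero_smul, zero_add, zero_add]
    exact hzZ c₂
  subst hq
  rw [zero_smul, add_zero] at hc₂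
  -- the power of `y` acting by the opposite root element
  obtain ⟨j, hj⟩ : ∃ j : ℕ, (j : ZMod p) = -r⁻¹ := ⟨(-r⁻¹).val, ZMod.natCast_zmod_val _⟩
  have hN30 : N * N * N = 0 := cube_eq_zero hV hρy
  have hyj : ρ (y ^ j) = 1 + (j : ZMod p) • N + (j.choose 2 : ZMod p) • (N * N) := by
    rw [map_pow, show ρ y = 1 + N by rw [hN, add_sub_cancel], one_add_pow hN30]
  set y' := y ^ j
  obtain ⟨d₁, hd₁⟩ : ∃ d, ρ y' e' = e' + d • z := by
    refine ⟨(j : ZMod p) * c₁, ?_⟩
    simp [hyj, ← hc₁, hNz, smul_smul]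
  obtain ⟨d₂, hd₂⟩ : ∃ d, ρ y' u' = u' - e' + d • z := by
    refine ⟨(j : ZMod p) * c₂ + (j.choose 2 : ZMod p) * (r * c₁), ?_⟩
    simp only [hyj, LinearMap.add_apply, LinearMap.smul_apply, Module.End.one_apply, Module.End.mul_apply, hc₂,
      map_add, map_smul, ← hc₁, hNz, smul_zero, add_zero, smul_add, smul_smul, hj]
    rw [neg_mul, inv_mul_cancel₀ hr]
    module
  have hd₃ : ρ y' z = z := by simp [hyj, hNz]
  obtain ⟨s, hs⟩ : ∃ s, s = x * y' * x * (x * y' * x) := ⟨_, rfl⟩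
  have hxyx : ∀ w, ρ (x * y' * x) w = ρ x (ρ y' (ρ x w)) := fun w => by simp [map_mul]
  have hse : ∃ c : ZMod p, ρ s e' = -e' + c • z := by
    refine ⟨(d₂ + 2) + (1 + d₁ + d₂), ?_⟩
    rw [hs, map_mul, Module.End.mul_apply]
    simp only [hxyx, map_add, map_sub, map_smul, map_neg, B'.xe, B'.xu, B'.xz, hd₁, hd₂, hd₃]
    module
  have hsu : ∃ c : ZMod p, ρ s u' = -u' + c • z := by
    refine ⟨(d₂ + 2) - (1 + d₁ + d₂), ?_⟩
    rw [hs, map_mul, Module.End.mul_apply]
    simp only [hxyx, map_add, map_sub, map_smul, map_neg, B'.xe, B'.xu, B'.xz, hd₁, hd₂, hd₃]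
    module
  have hsz : ρ s z = z := by
    rw [hs, map_mul, Module.End.mul_apply]
    simp only [hxyx, B'.xz, hd₃]
  obtain ⟨k₁, hk₁⟩ := hse
  obtain ⟨k₂, hk₂⟩ := hsu
  -- `s` commutes with `x`
  have hcomm : x * s = s * x := by
    have hK := normal_eq_bot hcard hx ⟨g, hg⟩ (normal_flagStab (ρ := ρ) hZinv) (isPGroup_flagStab hρ hp Z Z le_rfl)
    have hd : ∀ w, ρ (s * x) w - ρ (x * s) w ∈ Z := fun w => by
      obtain ⟨a, b, c, rfl⟩ := B'.coords hV w
      simp only [map_mul, Module.End.mul_apply, map_add, map_sub, map_smul, map_neg, B'.xe, B'.xu, B'.xz, hk₁,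
        hk₂, hsz]
      exact Submodule.mem_span_singleton.2 ⟨a * k₂ + b * 2, by module⟩
    have hmem : (x * s)⁻¹ * (s * x) ∈ flagStab ρ Z Z le_rfl := by
      have h3 : ∀ w, ρ ((x * s)⁻¹ * (s * x)) w - w ∈ Z := fun w => by
        have h1 := hZinv (x * s)⁻¹ _ (hd w)
        rw [map_sub, ← Module.End.mul_apply, ← map_mul, ← Module.End.mul_apply (f := ρ (x * s)⁻¹),
          ← map_mul ρ (x * s)⁻¹ (x * s), inv_mul_cancel, map_one, Module.End.one_apply] at h1
        exact h1
      refine ⟨fun w hw => ?_, fun w _ => h3 w, h3⟩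
      obtain ⟨c, rfl⟩ := Submodule.mem_span_singleton.1 hw
      have h1 : ρ (s * x) z = ρ (x * s) z := by simp [map_mul, B'.xz, hsz]
      rw [map_smul, map_mul, Module.End.mul_apply, h1, ← Module.End.mul_apply, ← map_mul, inv_mul_cancel, map_one,
        Module.End.one_apply]
    rw [hK, Subgroup.mem_bot, inv_mul_eq_one] at hmem
    exact hmem
  have h1 : ρ (x * s) u' = ρ (s * x) u' := by rw [hcomm]
  simp only [map_mul, Module.End.mul_apply, map_add, map_sub, map_smul, map_neg, B'.xe, B'.xu, B'.xz, hk₂, hsz] at h1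
  have h2 : (2 : ZMod p) • z = 0 := by
    linear_combination (norm := module) -h1
  rcases smul_eq_zero.1 h2 with h | h
  · exact hp ((Nat.prime_dvd_prime_iff_eq Fact.out Nat.prime_two).1
      ((ZMod.natCast_eq_zero_iff 2 p).1 (by exact_mod_cast h)))
  · exact B.ne h

theorem line_not_fixed (hρ : Function.Injective ρ) (hp : p ≠ 2) (hV : Nat.card V = p ^ 3)
    (hcard : ∀ P : Sylow p G, Nat.card P = p) (hx : orderOf x = p)
    (hnn : ∃ g, g * x * g⁻¹ ∉ Subgroup.zpowers x) (B : Block ρ x e u z) :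
    ∃ g : G, ∃ b c : ZMod p, ∀ b' c' : ZMod p, ρ g (b • u + c • z) ≠ b' • u + c' • z := by
  by_contra hall
  push Not at hall
  set Z := Submodule.span (ZMod p) ({z} : Set V) with hZdef
  set U := Submodule.span (ZMod p) ({u, z} : Set V) with hUdef
  have hzZ : ∀ c : ZMod p, c • z ∈ Z := fun c => Submodule.mem_span_singleton.2 ⟨c, rfl⟩
  have hmemU : ∀ b c : ZMod p, b • u + c • z ∈ U := fun b c => Submodule.mem_span_pair.2 ⟨b, c, rfl⟩
  have hZU : Z ≤ U := Submodule.span_mono (by simp)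
  have hUinv : ∀ g : G, ∀ w ∈ U, ρ g w ∈ U := fun g w hw => by
    obtain ⟨b, c, rfl⟩ := Submodule.mem_span_pair.1 hw
    obtain ⟨b', c', h⟩ := hall g b c
    rw [h]
    exact hmemU b' c'
  obtain ⟨g, hg⟩ := hnn
  set y := g * x * g⁻¹ with hy
  have hyp : y ^ p = 1 := by rw [hy, conj_pow, ← hx, pow_orderOf_eq_one]; group
  have hρy : ρ y ^ p ^ 1 = 1 := by rw [pow_one, ← map_pow, hyp, map_one]
  set N := ρ y - 1 with hN
  have hN3 : ∀ w, N (N (N w)) = 0 := fun w => LinearMap.congr_fun (cube_eq_zero hV hρy) w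
  have hNU : ∀ w ∈ U, N w ∈ U := fun w hw => by simpa [hN] using U.sub_mem (hUinv y w hw) hw
  -- the displacement of `e` lies in the invariant line
  obtain ⟨a₀, b₀, c₀, habc⟩ := B.coords hV (ρ y e)
  have ha₀ : a₀ = 1 := coeff_eq_one hρy (hUinv y) B.e_not_mem (by rw [habc]; simpa [add_assoc] using hmemU b₀ c₀)
  subst ha₀
  have hNe : N e ∈ U := by
    have : N e = b₀ • u + c₀ • z := by simp only [hN, LinearMap.sub_apply, Module.End.one_apply, habc]; module
    rw [this]; exact hmemU b₀ c₀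
  have hNall : ∀ w, N w ∈ U := fun w => by
    obtain ⟨a, b, c, rfl⟩ := B.coords hV w
    rw [show a • e + b • u + c • z = a • e + (b • u + c • z) by abel, map_add, map_smul]
    exact U.add_mem (U.smul_mem _ hNe) (hNU _ (hmemU b c))
  -- `y` does not fix `z`
  have hNz : N z ≠ 0 := by
    intro hz0
    have hyz : ρ y z = z := by simpa [hN, sub_eq_zero] using hz0
    have hNu : N u ∈ Z := by
      obtain ⟨b, c, hbc⟩ := Submodule.mem_span_pair.1 (hUinv y u (by simpa using hmemU 1 0))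
      have hb : b = 1 := coeff_eq_one hρy (W := Z) (fun w hw => by
        obtain ⟨d, rfl⟩ := Submodule.mem_span_singleton.1 hw
        rw [map_smul, hyz]; exact hzZ d) B.u_not_mem (by rw [← hbc]; simpa using hzZ c)
      subst hb
      have : N u = c • z := by simp only [hN, LinearMap.sub_apply, Module.End.one_apply, ← hbc]; module
      rw [this]; exact hzZ c
    refine hg (mem_zpowers_of_sylow hcard hx (isPGroup_flagStab hρ hp Z U hZU) ?_ ?_)
    · refine ⟨fun w hw => ?_, fun w hw => ?_, fun w => ?_⟩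
      · obtain ⟨c, rfl⟩ := Submodule.mem_span_singleton.1 hw
        rw [map_smul, B.xz]
      · obtain ⟨b, c, rfl⟩ := Submodule.mem_span_pair.1 hw
        simpa [B.xu, B.xz, smul_add] using hzZ b
      · obtain ⟨a, b, c, rfl⟩ := B.coords hV w
        have : ρ x (a • e + b • u + c • z) - (a • e + b • u + c • z) = a • u + b • z := by
          simp only [map_add, map_smul, B.xe, B.xu, B.xz]; module
        rw [this]
        exact hmemU a b
    · refine ⟨fun w hw => ?_, fun w hw => ?_, fun w => by simpa [hN] using hNall w⟩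
      · obtain ⟨c, rfl⟩ := Submodule.mem_span_singleton.1 hw
        rw [map_smul, hyz]
      · obtain ⟨b, c, rfl⟩ := Submodule.mem_span_pair.1 hw
        rw [show ρ y (b • u + c • z) - (b • u + c • z) = b • N u by simp [hN, hyz, smul_sub]]
        exact Z.smul_mem b hNu
  -- a fixed vector in the line outside `Z`
  obtain ⟨f, hfU, hf0, hNf⟩ : ∃ f, f ∈ U ∧ f ≠ 0 ∧ N f = 0 := by
    by_cases h : N (N z) = 0
    · exact ⟨N z, hNall _, hNz, h⟩
    · exact ⟨N (N z), hNall _, h, hN3 z⟩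
  obtain ⟨Bc, C, hf⟩ := Submodule.mem_span_pair.1 hfU
  have hB : Bc ≠ 0 := by
    intro hB
    rw [hB, zero_smul, zero_add] at hf
    rw [← hf, map_smul] at hNf
    refine hf0 ?_
    rw [← hf, (smul_eq_zero.1 hNf).resolve_right hNz, zero_smul]
  have B' := B.shift (Bc⁻¹ * C) 0
  set e' := e + (Bc⁻¹ * C) • u + (0 : ZMod p) • z with he'
  set u' := u + (Bc⁻¹ * C) • z with hu'
  have hNu' : N u' = 0 := by
    rw [show u' = Bc⁻¹ • f by rw [← hf, hu']; simp [smul_add, smul_smul, inv_mul_cancel₀ hB], map_smul, hNf, smul_zero]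
  obtain ⟨a, r, q, hrq⟩ := B'.coords hV (N z)
  have ha : a = 0 := by
    obtain ⟨b, c, hbc⟩ := Submodule.mem_span_pair.1 (hNall z)
    refine (B.indep (a := a) (b := a * (Bc⁻¹ * C) + r - b) (c := r * (Bc⁻¹ * C) + q - c) ?_).1
    have h0 := hbc.trans hrq
    rw [he', hu'] at h0
    linear_combination (norm := module) -h0
  subst ha
  rw [zero_smul, zero_add] at hrq
  obtain ⟨hq, hr⟩ : q = 0 ∧ r ≠ 0 := by
    have h1 := hN3 z
    simp only [hrq, map_add, map_smul, hNu', smul_zero, zero_add, smul_add, smul_smul] at h1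
    have h2 := B'.indep (a := 0) (b := q * q * r) (c := q * q * q) (by rw [← h1]; module)
    have hq : q = 0 := by simpa using h2.2.2
    exact ⟨hq, fun hr => hNz (by rw [hrq, hq, hr, zero_smul, zero_smul, add_zero])⟩
  subst hq
  rw [zero_smul, add_zero] at hrq
  obtain ⟨c₁, c₂, hc⟩ := Submodule.mem_span_pair.1 (hNall e')
  obtain ⟨b₁, b₂, hb⟩ : ∃ b₁ b₂ : ZMod p, N e' = b₁ • u' + b₂ • z :=
    ⟨c₁, c₂ - c₁ * (Bc⁻¹ * C), by rw [← hc, hu']; module⟩
  obtain ⟨j, hj⟩ : ∃ j : ℕ, (j : ZMod p) = -r⁻¹ := ⟨(-r⁻¹).val, ZMod.natCast_zmod_val _⟩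
  have hN30 : N * N * N = 0 := cube_eq_zero hV hρy
  have hyj : ρ (y ^ j) = 1 + (j : ZMod p) • N + (j.choose 2 : ZMod p) • (N * N) := by
    rw [map_pow, show ρ y = 1 + N by rw [hN, add_sub_cancel], one_add_pow hN30]
  set y' := y ^ j
  have hd₁ : ∃ d d' : ZMod p, ρ y' e' = e' + d • u' + d' • z := by
    refine ⟨(j : ZMod p) * b₁ + (j.choose 2 : ZMod p) * (b₂ * r), (j : ZMod p) * b₂, ?_⟩
    simp only [hyj, LinearMap.add_apply, LinearMap.smul_apply, Module.End.one_apply, Module.End.mul_apply, hb,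
      map_add, map_smul, hrq, hNu', smul_zero, zero_add, smul_add, smul_smul]
    module
  obtain ⟨d, d', hd₁⟩ := hd₁
  have hd₂ : ρ y' u' = u' := by simp [hyj, hNu']
  have hd₃ : ρ y' z = z - u' := by
    simp only [hyj, LinearMap.add_apply, LinearMap.smul_apply, Module.End.one_apply, Module.End.mul_apply, hrq,
      map_smul, hNu', smul_zero, add_zero, smul_smul, hj]
    rw [neg_mul, inv_mul_cancel₀ hr]
    module
  obtain ⟨s, hs⟩ : ∃ s, s = x * y' * x * (x * y' * x) := ⟨_, rfl⟩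
  have hxyx : ∀ w, ρ (x * y' * x) w = ρ x (ρ y' (ρ x w)) := fun w => by simp [map_mul]
  have hsu : ρ s u' = -u' := by
    rw [hs, map_mul, Module.End.mul_apply]
    simp only [hxyx, map_add, map_sub, map_smul, map_neg, B'.xe, B'.xu, B'.xz, hd₁, hd₂, hd₃]
    module
  have hsz : ρ s z = -z := by
    rw [hs, map_mul, Module.End.mul_apply]
    simp only [hxyx, map_add, map_sub, map_smul, map_neg, B'.xe, B'.xu, B'.xz, hd₁, hd₂, hd₃]
    module
  obtain ⟨k, k', hse⟩ : ∃ k k' : ZMod p, ρ s e' = e' + k • u' + k' • z := by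
    have h1 : ∀ w ∈ U, ρ (x * y' * x) w ∈ U := fun w hw => hUinv _ w hw
    have h2 : ρ (x * y' * x) e' - e' ∈ U := by
      have hu'U : u' ∈ U := by rw [hu']; simpa using hmemU 1 (Bc⁻¹ * C)
      have hzU : z ∈ U := by simpa using hmemU 0 1
      have h3 : ∀ w, ρ x w - w ∈ U := fun w => by
        obtain ⟨a, b, c, rfl⟩ := B.coords hV w
        have : ρ x (a • e + b • u + c • z) - (a • e + b • u + c • z) = a • u + b • z := by
          simp only [map_add, map_smul, B.xe, B.xu, B.xz]; module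
        rw [this]
        exact hmemU a b
      rw [hxyx, show ρ x (ρ y' (ρ x e')) - e' = (ρ x (ρ y' (ρ x e')) - ρ y' (ρ x e')) +
        ((ρ y' (ρ x e' - e')) + (ρ y' e' - e')) by rw [map_sub]; abel]
      refine U.add_mem (h3 _) (U.add_mem (hUinv _ _ (h3 _)) ?_)
      rw [hd₁, show e' + d • u' + d' • z - e' = d • u' + d' • z by abel]
      exact U.add_mem (U.smul_mem _ hu'U) (U.smul_mem _ hzU)
    have h4 : ρ s e' - e' ∈ U := by
      rw [hs, map_mul, Module.End.mul_apply, show ρ (x * y' * x) (ρ (x * y' * x) e') - e' =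
        ρ (x * y' * x) (ρ (x * y' * x) e' - e') + (ρ (x * y' * x) e' - e') by rw [map_sub]; abel]
      exact U.add_mem (h1 _ h2) h2
    obtain ⟨b, c, hbc⟩ := Submodule.mem_span_pair.1 h4
    exact ⟨b, c - b * (Bc⁻¹ * C), by rw [eq_comm, sub_eq_iff_eq_add] at hbc; rw [hbc, hu']; module⟩
  have hu'U : ∀ b c : ZMod p, b • u' + c • z ∈ U := fun b c => by
    rw [hu', show b • (u + (Bc⁻¹ * C) • z) + c • z = b • u + (b * (Bc⁻¹ * C) + c) • z by module]
    exact hmemU _ _
  -- `s` commutes with `x`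
  have hcomm : x * s = s * x := by
    have hK := normal_eq_bot hcard hx ⟨g, hg⟩ (normal_flagStab (ρ := ρ) hUinv) (isPGroup_flagStab hρ hp U U le_rfl)
    have hd : ∀ w, ρ (s * x) w - ρ (x * s) w ∈ U := fun w => by
      obtain ⟨a, b, c, rfl⟩ := B'.coords hV w
      simp only [map_mul, Module.End.mul_apply, map_add, map_smul, map_neg, B'.xe, B'.xu, B'.xz, hse, hsu, hsz]
      convert hu'U (a * (-2)) (-(a * k)) using 1
      module
    have hfix : ∀ w ∈ U, ρ (s * x) w = ρ (x * s) w := fun w hw => by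
      obtain ⟨b, c, rfl⟩ := Submodule.mem_span_pair.1 hw
      have e1 : ρ (s * x) u' = ρ (x * s) u' := by
        simp only [map_mul, Module.End.mul_apply, map_add, map_neg, B'.xu, hsu, hsz]; module
      have e2 : ρ (s * x) z = ρ (x * s) z := by
        simp only [map_mul, Module.End.mul_apply, map_neg, B'.xz, hsz]
      rw [show b • u + c • z = b • u' + (c - b * (Bc⁻¹ * C)) • z by rw [hu']; module, map_add, map_add, map_smul,
        map_smul, map_smul, map_smul, e1, e2]
    have hmem : (x * s)⁻¹ * (s * x) ∈ flagStab ρ U U le_rfl := by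
      have h3 : ∀ w, ρ ((x * s)⁻¹ * (s * x)) w - w ∈ U := fun w => by
        have h1 := hUinv (x * s)⁻¹ _ (hd w)
        rw [map_sub, ← Module.End.mul_apply, ← map_mul, ← Module.End.mul_apply (f := ρ (x * s)⁻¹),
          ← map_mul ρ (x * s)⁻¹ (x * s), inv_mul_cancel, map_one, Module.End.one_apply] at h1
        exact h1
      refine ⟨fun w hw => ?_, fun w _ => h3 w, h3⟩
      rw [map_mul, Module.End.mul_apply, hfix w hw, ← Module.End.mul_apply, ← map_mul, inv_mul_cancel, map_one,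
        Module.End.one_apply]
    rw [hK, Subgroup.mem_bot, inv_mul_eq_one] at hmem
    exact hmem
  have h1 : ρ (x * s) e' = ρ (s * x) e' := by rw [hcomm]
  simp only [map_mul, Module.End.mul_apply, map_add, map_smul, map_neg, B'.xe, B'.xu, B'.xz, hse, hsu, hsz] at h1
  have h3 := B'.indep (a := 0) (b := 2) (c := k) (by linear_combination (norm := module) h1)
  exact hp ((Nat.prime_dvd_prime_iff_eq Fact.out Nat.prime_two).1
    ((ZMod.natCast_eq_zero_iff 2 p).1 (by exact_mod_cast h3.2.1)))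

end Block

end CfsgLib.FusionRankThree
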