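import Mathlib.Algebra.Field.ZMod
import Mathlib.Algebra.CharP.Algebra
import Mathlib.Algebra.CharP.Lemmas
import Mathlib.FieldTheory.Finite.Basic
import Mathlib.GroupTheory.PGroup
import Mathlib.LinearAlgebra.Span.Basic
import Mathlib.Algebra.Module.LinearMap.End
import Mathlib.Tactic.NoncommRing

/-!
Unipotent endomorphisms of a space of order `p ^ 3`.
-/

set_option autoImplicit false

namespace CfsgLib.FusionRankThree

/-- The commutator of two square zero unipotents, one product of whose nilpotent parts vanishes. -/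
theorem comm_identity {R : Type*} [Ring R] {a b : R} (ha : a * a = 0) (hb : b * b = 0) (hba : b * a = 0) :
    (1 + a) * (1 + b) * (1 - a) * (1 - b) = 1 + a * b := by
  have e1 : (1 + a) * (1 + b) * (1 - a) * (1 - b) = 1 + a * b - a * a - b * a - b * b + a * (b * a) * b
      + a * a * b + b * a * b - a * (b * a) - a * (b * b) := by noncomm_ring
  rw [e1, ha, hb, hba]
  noncomm_ring

set_option linter.unusedSectionVars false

variable {p : ℕ} [Fact p.Prime] {V : Type*} [AddCommGroup V] [Module (ZMod p) V] [Finite V]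

/-- A map killing `a` of full cube power has the shape of a single Jordan block. -/
theorem exists_coords (hV : Nat.card V = p ^ 3) {N : Module.End (ZMod p) V} {e : V} (he : N (N e) ≠ 0)
    (h3 : N (N (N e)) = 0) (w : V) : ∃ a b c : ZMod p, w = a • e + b • N e + c • N (N e) := by
  let f : ZMod p × ZMod p × ZMod p → V := fun t => t.1 • e + t.2.1 • N e + t.2.2 • N (N e)
  have hinj : Function.Injective f := by
    intro s t h
    have h0 : (s.1 - t.1) • e + (s.2.1 - t.2.1) • N e + (s.2.2 - t.2.2) • N (N e) = 0 := by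
      have : f s - f t = 0 := sub_eq_zero.2 h
      rw [← this]
      simp only [f, sub_smul]
      abel
    have h1 : (s.1 - t.1) • N (N e) = 0 := by
      have := congrArg (fun x => N (N x)) h0
      simpa [map_add, map_smul, h3] using this
    have e1 : s.1 - t.1 = 0 := (smul_eq_zero.1 h1).resolve_right he
    rw [e1, zero_smul, zero_add] at h0
    have h2 : (s.2.1 - t.2.1) • N (N e) = 0 := by
      have := congrArg N h0
      simpa [map_add, map_smul, h3] using this
    have e2 : s.2.1 - t.2.1 = 0 := (smul_eq_zero.1 h2).resolve_right he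
    rw [e2, zero_smul, zero_add] at h0
    have e3 : s.2.2 - t.2.2 = 0 := (smul_eq_zero.1 h0).resolve_right he
    exact Prod.ext (sub_eq_zero.1 e1) (Prod.ext (sub_eq_zero.1 e2) (sub_eq_zero.1 e3))
  have hbij : Function.Bijective f :=
    hinj.bijective_of_nat_card_le (by simp [hV]; ring_nf; exact le_rfl)
  obtain ⟨⟨a, b, c⟩, h⟩ := hbij.2 w
  exact ⟨a, b, c, h.symm⟩

/-- The range of a square zero endomorphism is a line. -/
theorem exists_line (hV : Nat.card V = p ^ 3) {N : Module.End (ZMod p) V} (h2 : N * N = 0) (hne : N ≠ 0) :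
    ∃ v : V, v ≠ 0 ∧ (∃ w, N w = v) ∧ ∀ w, ∃ c : ZMod p, N w = c • v := by
  obtain ⟨w₀, hw₀⟩ : ∃ w, N w ≠ 0 := by
    by_contra h
    push Not at h
    exact hne (LinearMap.ext h)
  refine ⟨N w₀, hw₀, ⟨w₀, rfl⟩, fun w₁ => ?_⟩
  by_contra hc
  push Not at hc
  have h2' : ∀ x, N (N x) = 0 := fun x => LinearMap.congr_fun h2 x
  let f : (ZMod p × ZMod p) × ZMod p × ZMod p → V :=
    fun t => t.1.1 • w₀ + t.1.2 • w₁ + (t.2.1 • N w₀ + t.2.2 • N w₁)
  have hlin : ∀ a b : ZMod p, a • N w₀ + b • N w₁ = 0 → a = 0 ∧ b = 0 := by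
    intro a b h
    have hb : b = 0 := by
      by_contra hb
      refine hc (-(b⁻¹ * a)) ?_
      have := congrArg (b⁻¹ • ·) h
      simp only [smul_add, smul_smul, inv_mul_cancel₀ hb, one_smul, smul_zero] at this
      rw [neg_smul]
      exact eq_neg_of_add_eq_zero_right this
    rw [hb, zero_smul, add_zero] at h
    exact ⟨(smul_eq_zero.1 h).resolve_right hw₀, hb⟩
  have hinj : Function.Injective f := by
    intro s t h
    have h0 : (s.1.1 - t.1.1) • w₀ + (s.1.2 - t.1.2) • w₁
        + ((s.2.1 - t.2.1) • N w₀ + (s.2.2 - t.2.2) • N w₁) = 0 := by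
      have : f s - f t = 0 := sub_eq_zero.2 h
      rw [← this]
      simp only [f, sub_smul]
      abel
    obtain ⟨e1, e2⟩ := hlin (s.1.1 - t.1.1) (s.1.2 - t.1.2) (by
      have := congrArg N h0
      simpa [map_add, map_smul, h2'] using this)
    rw [e1, e2, zero_smul, zero_smul, add_zero, zero_add] at h0
    obtain ⟨e3, e4⟩ := hlin _ _ h0
    exact Prod.ext (Prod.ext (sub_eq_zero.1 e1) (sub_eq_zero.1 e2))
      (Prod.ext (sub_eq_zero.1 e3) (sub_eq_zero.1 e4))
  have hle := Nat.card_le_card_of_injective f hinj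
  simp only [hV, Nat.card_prod, Nat.card_zmod] at hle
  have hp2 := (Fact.out : p.Prime).two_le
  have : p ^ 3 < p * p * (p * p) := by
    calc p ^ 3 < p ^ 4 := Nat.pow_lt_pow_right (by omega) (by norm_num)
      _ = p * p * (p * p) := by ring
  omega

/-- Compressing by a square zero endomorphism gives a scalar multiple of it. -/
theorem exists_scalar (hV : Nat.card V = p ^ 3) {N : Module.End (ZMod p) V} (h2 : N * N = 0)
    (B : Module.End (ZMod p) V) : ∃ c : ZMod p, N * B * N = c • N := by
  rcases eq_or_ne N 0 with rfl | hne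
  · exact ⟨0, by simp⟩
  obtain ⟨v, hv, -, hall⟩ := exists_line hV h2 hne
  obtain ⟨c, hc⟩ := hall (B v)
  refine ⟨c, LinearMap.ext fun w => ?_⟩
  obtain ⟨d, hd⟩ := hall w
  rw [Module.End.mul_apply, Module.End.mul_apply, LinearMap.smul_apply, hd, map_smul, map_smul, hc, smul_comm]

/-- A unipotent endomorphism fixes an eigenvector's eigenvalue `1`. -/
theorem eigen_eq_one {k : ℕ} {u : Module.End (ZMod p) V} (hu : u ^ p ^ k = 1) {v : V} (hv : v ≠ 0)
    {c : ZMod p} (h : u v = c • v) : c = 1 := by
  have hpow : ∀ n : ℕ, (u ^ n) v = c ^ n • v := by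
    intro n
    induction n with
    | zero => simp
    | succ n ih => rw [pow_succ, Module.End.mul_apply, h, map_smul, ih, smul_smul, ← pow_succ']
  have h1 := hpow (p ^ k)
  rw [hu, ZMod.pow_card_pow, Module.End.one_apply] at h1
  exact smul_left_injective (ZMod p) hv (by simpa using h1.symm)

theorem one_add_pow {N : Module.End (ZMod p) V} (h3 : N * N * N = 0) (n : ℕ) :
    (1 + N) ^ n = 1 + (n : ZMod p) • N + (n.choose 2 : ZMod p) • (N * N) := by
  induction n with
  | zero => simp
  | succ n ih =>
    rw [pow_succ, ih, Nat.choose_succ_succ, Nat.choose_one_right, Nat.cast_add, Nat.cast_add, Nat.cast_one]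
    simp only [mul_add, add_mul, mul_one, one_mul, smul_mul_assoc, add_smul, one_smul, h3, smul_zero]
    abel

theorem one_add_pow_sq {N : Module.End (ZMod p) V} (h2 : N * N = 0) (n : ℕ) :
    (1 + N) ^ n = 1 + (n : ZMod p) • N := by
  rw [one_add_pow (by rw [h2, zero_mul]), h2, smul_zero, add_zero]

/-- A unipotent endomorphism of order `p` has nilpotency index at most three. -/
theorem cube_eq_zero (hV : Nat.card V = p ^ 3) {k : ℕ} {u : Module.End (ZMod p) V} (hu : u ^ p ^ k = 1) :
    (u - 1) * (u - 1) * (u - 1) = 0 := by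
  set N := u - 1 with hN
  have hnil : N ^ p ^ k = 0 := by
    have : CharP (Module.End (ZMod p) V) p := by
      obtain ⟨v, hv⟩ : ∃ v : V, v ≠ 0 := by
        by_contra hh
        push Not at hh
        have : Subsingleton V := ⟨fun a b => by rw [hh a, hh b]⟩
        rw [Nat.card_of_subsingleton (0 : V)] at hV
        exact absurd hV.symm (Nat.one_lt_pow three_ne_zero (Fact.out : p.Prime).one_lt).ne'
      refine charP_of_injective_algebraMap (R := ZMod p) ?_ p
      intro a b hab
      have := LinearMap.congr_fun hab v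
      simp only [Module.algebraMap_end_apply] at this
      exact smul_left_injective (ZMod p) hv this
    rw [hN, sub_pow_char_pow_of_commute (p := p) _ (Commute.one_right u), hu, one_pow, sub_self]
  -- kernels of powers grow strictly until they fill the space
  refine LinearMap.ext fun w => ?_
  classical
  simp only [Module.End.mul_apply, LinearMap.zero_apply]
  by_contra hw
  have hex : ∃ n, (N ^ n) w = 0 := ⟨p ^ k, by rw [hnil, LinearMap.zero_apply]⟩
  obtain ⟨m, hm⟩ : ∃ m, Nat.find hex = m + 4 := by
    have h4 : 4 ≤ Nat.find hex := by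
      by_contra hlt
      have hs := Nat.find_spec hex
      apply hw
      rw [show N (N (N w)) = (N ^ 3) w by simp [pow_succ, Module.End.mul_apply],
        show 3 = (3 - Nat.find hex) + Nat.find hex by omega, pow_add, Module.End.mul_apply, hs, map_zero]
    exact ⟨Nat.find hex - 4, by omega⟩
  have hs : (N ^ (m + 4)) w = 0 := hm ▸ Nat.find_spec hex
  have hne : (N ^ (m + 3)) w ≠ 0 := Nat.find_min hex (by omega)
  set x := (N ^ m) w
  have hx4 : N (N (N (N x))) = 0 := by
    rw [← hs, show m + 4 = 1 + (1 + (1 + (1 + m))) by omega]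
    simp [pow_add, Module.End.mul_apply, x]
  have hx3 : N (N (N x)) ≠ 0 := by
    intro h
    apply hne
    rw [show m + 3 = 1 + (1 + (1 + m)) by omega]
    simpa [pow_add, Module.End.mul_apply, x] using h
  obtain ⟨a, b, c, h⟩ := exists_coords hV (e := N x) hx3 hx4 x
  have h3 := congrArg (fun y => N (N (N y))) h
  simp [map_add, map_smul, hx4] at h3
  exact hx3 h3

end CfsgLib.FusionRankThree
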