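import Cfsg.Agent.Lib.FusionRankThree.RankOne
import Cfsg.Agent.Lib.LocalEven.StrongEmb

/-!
A linear group of degree three over the prime field with a strongly `p`-embedded subgroup has Sylow
`p`-subgroups of order `p`.
-/

set_option autoImplicit false
set_option linter.unusedSectionVars false

namespace CfsgLib.FusionRankThree

open Cfsg

variable {p : ℕ} [Fact p.Prime] {V : Type*} [AddCommGroup V] [Module (ZMod p) V] [Finite V]
variable {G : Type*} [Group G] [Finite G] {M : Subgroup G} {ρ : G →* Module.End (ZMod p) V}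

/-- An element moving a nontrivial `p`-element of `M` into `M` lies in `M`. -/
theorem mem_of_conj_mem (hM : IsStronglyPEmbedded p M) {t y : G} (hp : IsPGroup p (Subgroup.zpowers t))
    (ht1 : t ≠ 1) (ht : t ∈ M) (hy : y * t * y⁻¹ ∈ M) : y ∈ M := by
  by_contra hy'
  have hy'' : y⁻¹ ∉ M := fun h => hy' (by simpa using M.inv_mem h)
  refine CfsgLib.LocalEven.se_trivial_intersection hM hy''
    ((CfsgLib.LocalEven.dvd_card_of_ne_bot hp (Subgroup.zpowers_ne_bot.2 ht1)).trans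
      (Subgroup.card_dvd_of_le (Subgroup.zpowers_le.2 ⟨ht, ?_⟩)))
  exact CfsgLib.LocalEven.mem_cj.2 (by simpa using hy)

/-- Something commuting with a nontrivial `p`-element of `M` lies in `M`. -/
theorem mem_of_commute (hM : IsStronglyPEmbedded p M) {t y : G} (hp : IsPGroup p (Subgroup.zpowers t))
    (ht1 : t ≠ 1) (ht : t ∈ M) (hc : Commute t y) : y ∈ M :=
  mem_of_conj_mem hM hp ht1 ht (by rwa [← hc.eq, mul_inv_cancel_right])

theorem rho_inv (t : G) {a : Module.End (ZMod p) V} (h : ρ t = 1 + a) (ha : a * a = 0) : ρ t⁻¹ = 1 - a := by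
  have h1 : ρ t⁻¹ * ρ t = 1 := by rw [← map_mul, inv_mul_cancel, map_one]
  have h2 : ρ t * (1 - a) = 1 := by rw [h]; noncomm_ring; rw [ha]; simp
  calc ρ t⁻¹ = ρ t⁻¹ * (ρ t * (1 - a)) := by rw [h2, mul_one]
    _ = 1 - a := by rw [← mul_assoc, h1, one_mul]

theorem isPGroup_zpowers_of_sq (hρ : Function.Injective ρ) {t : G} {a : Module.End (ZMod p) V}
    (h : ρ t = 1 + a) (ha : a * a = 0) : IsPGroup p (Subgroup.zpowers t) := by
  have h1 : t ^ p = 1 := hρ (by rw [map_pow, h, one_add_pow_sq ha, ZMod.natCast_self, zero_smul, add_zero, map_one])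
  rintro ⟨_, k, rfl⟩
  refine ⟨1, Subtype.ext ?_⟩
  show (t ^ k) ^ p ^ 1 = 1
  rw [pow_one, ← zpow_natCast, ← zpow_mul, mul_comm, zpow_mul, zpow_natCast, h1, one_zpow]

/-- Two square zero unipotents with a vanishing product of nilpotent parts are in `M` together. -/
theorem mem_of_mul_eq_zero (hρ : Function.Injective ρ) (hM : IsStronglyPEmbedded p M) {t u : G}
    {a b : Module.End (ZMod p) V} (hta : ρ t = 1 + a) (hub : ρ u = 1 + b) (ha : a * a = 0) (hb : b * b = 0)
    (hba : b * a = 0) (ht : t ∈ M) (ht1 : t ≠ 1) : u ∈ M := by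
  obtain ⟨c, hc⟩ : ∃ c, c = t * u * t⁻¹ * u⁻¹ := ⟨_, rfl⟩
  have hρc : ρ c = 1 + a * b := by
    rw [hc, map_mul, map_mul, map_mul, hta, hub, rho_inv t hta ha, rho_inv u hub hb, comm_identity ha hb hba]
  by_cases hab : a * b = 0
  · refine mem_of_commute hM (isPGroup_zpowers_of_sq hρ hta ha) ht1 ht (hρ ?_)
    rw [map_mul, map_mul, hta, hub]
    noncomm_ring
    rw [hab, hba]
  have hc1 : c ≠ 1 := fun h => hab (by simpa [h, map_one] using hρc.symm)
  have hct : Commute t c := hρ (by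
    rw [map_mul, map_mul, hta, hρc]
    have : a * (a * b) = 0 := by rw [← mul_assoc, ha, zero_mul]
    have : a * b * a = 0 := by rw [mul_assoc, hba, mul_zero]
    noncomm_ring [*])
  have hcu : Commute c u := hρ (by
    rw [map_mul, map_mul, hub, hρc]
    have : a * b * b = 0 := by rw [mul_assoc, hb, mul_zero]
    have : b * (a * b) = 0 := by rw [← mul_assoc, hba, zero_mul]
    noncomm_ring [*])
  have hcM := mem_of_commute hM (isPGroup_zpowers_of_sq hρ hta ha) ht1 ht hct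
  refine mem_of_commute hM (isPGroup_zpowers_of_sq hρ hρc ?_) hc1 hcM hcu
  rw [mul_assoc a, ← mul_assoc b, hba, zero_mul, mul_zero]

theorem card_sylow (hρ : Function.Injective ρ) (hV : Nat.card V = p ^ 3) (hM : IsStronglyPEmbedded p M)
    (P : Sylow p G) : Nat.card P = p := by
  obtain ⟨P₀, hne, hle⟩ := CfsgLib.LocalEven.se_sylow_le hM
  rw [Sylow.card_eq_multiplicity P, ← Sylow.card_eq_multiplicity P₀]
  have hPp := P₀.isPGroup'
  have : Nontrivial (P₀ : Subgroup G) := (Subgroup.nontrivial_iff_ne_bot _).2 hne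
  have : Nontrivial (Subgroup.center (P₀ : Subgroup G)) := hPp.center_nontrivial
  obtain ⟨k, hk, hcard⟩ := (hPp.to_subgroup (Subgroup.center (P₀ : Subgroup G))).nontrivial_iff_card.1 this
  obtain ⟨⟨⟨z, hzP⟩, hzc⟩, hz⟩ := exists_prime_orderOf_dvd_card' (G := Subgroup.center (P₀ : Subgroup G)) p
    (hcard ▸ dvd_pow_self p (by omega))
  have hzo : orderOf z = p := by rw [← hz, ← Subgroup.orderOf_coe, ← Subgroup.orderOf_coe]
  by_contra hcp
  obtain ⟨x₀, hx₀P, hx₀z⟩ : ∃ x₀ ∈ (P₀ : Subgroup G), x₀ ∉ Subgroup.zpowers z := by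
    by_contra hh
    push Not at hh
    refine hcp ?_
    show Nat.card (P₀ : Subgroup G) = p
    rw [le_antisymm hh (Subgroup.zpowers_le.2 hzP), Nat.card_zpowers, hzo]
  have hcz : Commute z x₀ :=
    (congrArg Subtype.val (Subgroup.mem_center_iff.1 hzc ⟨x₀, hx₀P⟩)).symm
  have hord : ∀ q ∈ (P₀ : Subgroup G), ∃ k : ℕ, ρ q ^ p ^ k = 1 := fun q hq => by
    obtain ⟨k, hk⟩ := hPp ⟨q, hq⟩
    exact ⟨k, by rw [← map_pow, show q ^ p ^ k = 1 from congrArg Subtype.val hk, map_one]⟩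
  -- a transvection of `P₀` commuting with an element outside the group it generates
  obtain ⟨t, a, htP, hta, ha, ht1, x₁, hx₁P, hx₁t, hc⟩ : ∃ t, ∃ a : Module.End (ZMod p) V,
      t ∈ (P₀ : Subgroup G) ∧ ρ t = 1 + a ∧ a * a = 0 ∧ t ≠ 1 ∧
      ∃ x₁ ∈ (P₀ : Subgroup G), x₁ ∉ Subgroup.zpowers t ∧ Commute t x₁ := by
    have hz1 : z ≠ 1 := fun h => by rw [h, orderOf_one] at hzo; exact (Fact.out : p.Prime).ne_one hzo.symm
    obtain ⟨kz, hkz⟩ := hord z hzP
    set N := ρ z - 1 with hN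
    have hzN : ρ z = 1 + N := by rw [hN, add_sub_cancel]
    have h3 : N * N * N = 0 := cube_eq_zero hV hkz
    by_cases h2 : N * N = 0
    · exact ⟨z, N, hzP, hzN, h2, hz1, x₀, hx₀P, hx₀z, hcz⟩
    obtain ⟨e, he⟩ : ∃ e, N (N e) ≠ 0 := by
      by_contra h
      push Not at h
      exact h2 (LinearMap.ext h)
    have h3' : ∀ w, N (N (N w)) = 0 := fun w => LinearMap.congr_fun h3 w
    obtain ⟨A, B, C, habc⟩ := exists_coords hV he (h3' e) (ρ x₀ e)
    have hNc : ∀ w, ρ x₀ (N w) = N (ρ x₀ w) := fun w => by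
      have h1 : ρ x₀ * ρ z = ρ z * ρ x₀ := by rw [← map_mul, ← map_mul, hcz.eq]
      have : ρ x₀ * N = N * ρ x₀ := by rw [hN, mul_sub, sub_mul, h1, mul_one, one_mul]
      exact LinearMap.congr_fun this w
    have hA : A = 1 := by
      obtain ⟨kx, hkx⟩ := hord x₀ hx₀P
      refine eigen_eq_one hkx he ?_
      rw [hNc, hNc, habc]
      simp [h3']
    subst hA
    have hx₀N : ρ x₀ = 1 + B • N + C • (N * N) := LinearMap.ext fun w => by
      obtain ⟨a, b, c, rfl⟩ := exists_coords hV he (h3' e) w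
      simp only [map_add, map_smul, hNc, habc, LinearMap.add_apply, LinearMap.smul_apply,
        Module.End.one_apply, Module.End.mul_apply, h3', map_zero, smul_zero, add_zero, one_smul, smul_add, smul_smul]
    obtain ⟨j, hj⟩ : ∃ j : ℕ, (j : ZMod p) = -B := ⟨(-B).val, ZMod.natCast_zmod_val _⟩
    set t := x₀ * z ^ j
    have hρt : ρ t = 1 + (C - B * B + (j.choose 2 : ZMod p)) • (N * N) := by
      have h4 : N * N * (N * N) = 0 := by rw [← mul_assoc, h3, zero_mul]
      have h5 : N * (N * N) = 0 := by rw [← mul_assoc, h3]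
      rw [map_mul, map_pow, hx₀N, hzN, one_add_pow h3, hj]
      simp only [mul_add, add_mul, mul_one, one_mul, smul_mul_assoc, mul_smul_comm, h3, h4, h5, smul_zero, add_zero]
      module
    have ht1 : t ≠ 1 := fun h => hx₀z (by
      rw [eq_inv_of_mul_eq_one_left h]
      exact inv_mem (pow_mem (Subgroup.mem_zpowers z) j))
    have hsq : (C - B * B + (j.choose 2 : ZMod p)) • (N * N) *
        ((C - B * B + (j.choose 2 : ZMod p)) • (N * N)) = 0 := by
      rw [smul_mul_assoc, mul_smul_comm, ← mul_assoc, h3, zero_mul, smul_zero, smul_zero]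
    refine ⟨t, _, mul_mem hx₀P (pow_mem hzP j), hρt, hsq, ht1, z, hzP, fun hm => ?_,
      (hcz.mul_right ((Commute.refl z).pow_right j)).symm⟩
    obtain ⟨i, hi⟩ := (IsOfFinOrder.powers_eq_zpowers (isOfFinOrder_of_finite t)).symm.subset hm
    refine h2 ?_
    rw [hN, ← show t ^ i = z from hi]
    rw [map_pow, hρt, one_add_pow_sq hsq, add_sub_cancel_left, smul_mul_assoc, mul_smul_comm, hsq, smul_zero,
      smul_zero]
  have hpt := isPGroup_zpowers_of_sq hρ hta ha
  have htM : t ∈ M := hle htP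
  obtain ⟨g, -, hg⟩ := SetLike.exists_of_lt (lt_top_iff_ne_top.2 hM.2.1)
  -- a conjugate transvection outside `M`
  set u := g * t * g⁻¹ with hu
  set b := ρ g * a * ρ g⁻¹ with hb'
  have hgg : ρ g⁻¹ * ρ g = 1 := by rw [← map_mul, inv_mul_cancel, map_one]
  have hgg' : ρ g * ρ g⁻¹ = 1 := by rw [← map_mul, mul_inv_cancel, map_one]
  have hub : ρ u = 1 + b := by rw [hu, map_mul, map_mul, hta, mul_add, mul_one, add_mul, hgg']
  have hb : b * b = 0 := by
    calc b * b = ρ g * (a * (ρ g⁻¹ * ρ g) * a) * ρ g⁻¹ := by simp only [hb', mul_assoc]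
      _ = 0 := by rw [hgg, mul_one, ha, mul_zero, zero_mul]
  have huM : u ∉ M := fun h => hg (mem_of_conj_mem hM hpt ht1 htM h)
  have hba : b * a ≠ 0 := fun h => huM (mem_of_mul_eq_zero hρ hM hta hub ha hb h htM ht1)
  have hab : a * b ≠ 0 := by
    intro h
    refine huM ?_
    -- the roles of the two elements reversed, inside the conjugate of `M`
    by_contra hh
    have h1 : g⁻¹ * t * g ∈ M := by
      refine mem_of_mul_eq_zero hρ hM hta (u := g⁻¹ * t * g) (b := ρ g⁻¹ * a * ρ g)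
        (by rw [map_mul, map_mul, hta, mul_add, mul_one, add_mul, hgg]) ha ?_ ?_ htM ht1
      · calc _ = ρ g⁻¹ * (a * (ρ g * ρ g⁻¹) * a) * ρ g := by simp only [mul_assoc]
          _ = 0 := by rw [hgg', mul_one, ha, mul_zero, zero_mul]
      · calc ρ g⁻¹ * a * ρ g * a = ρ g⁻¹ * (a * b) * ρ g := by
              simp only [hb', mul_assoc, hgg, mul_one]
          _ = 0 := by rw [h, mul_zero, zero_mul]
    exact hg (by simpa using M.inv_mem (mem_of_conj_mem hM hpt ht1 htM (y := g⁻¹) (by simpa using h1)))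
  obtain ⟨k₁, hk₁⟩ := hord x₁ hx₁P
  obtain ⟨c, hc0, hcb⟩ : ∃ c : ZMod p, c ≠ 0 ∧ b * a * b = c • b := by
    obtain ⟨c, hc⟩ := exists_scalar hV hb a
    refine ⟨c, fun h0 => ?_, hc⟩
    rw [h0, zero_smul] at hc
    obtain ⟨v, hv, ⟨w₀, hw₀⟩, hall⟩ := exists_line hV hb fun h => hba (by rw [h, zero_mul])
    obtain ⟨va, hva, -, halla⟩ := exists_line hV ha fun h => hba (by rw [h, mul_zero])
    obtain ⟨w, hw⟩ : ∃ w, a (b w) ≠ 0 := by
      by_contra hh
      push Not at hh
      exact hab (LinearMap.ext hh)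
    obtain ⟨d, hd⟩ := halla (b w)
    have hd0 : d ≠ 0 := fun hh => hw (by rw [hd, hh, zero_smul])
    have h1 : b (a (b w)) = 0 := LinearMap.congr_fun hc w
    rw [hd, map_smul] at h1
    refine hba (LinearMap.ext fun y => ?_)
    obtain ⟨d', hd'⟩ := halla y
    rw [Module.End.mul_apply, hd', map_smul, (smul_eq_zero.1 h1).resolve_left hd0, smul_zero, LinearMap.zero_apply]
  have hx₁a : ρ x₁ * a = a := by
    obtain ⟨v, hv, ⟨w₀, hw₀⟩, hall⟩ := exists_line hV ha fun h => hba (by rw [h, mul_zero])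
    have hcomm : ρ x₁ * a = a * ρ x₁ := by
      have h1 : ρ x₁ * ρ t = ρ t * ρ x₁ := by rw [← map_mul, ← map_mul, hc.eq]
      rw [hta, mul_add, add_mul, mul_one, one_mul] at h1
      exact add_left_cancel h1
    obtain ⟨d, hd⟩ := hall (ρ x₁ w₀)
    have hd' : ρ x₁ v = d • v := by
      rw [← hw₀, ← Module.End.mul_apply, hcomm, Module.End.mul_apply, hd, hw₀]
    rw [eigen_eq_one hk₁ hv hd', one_smul] at hd'
    refine LinearMap.ext fun w => ?_
    obtain ⟨e, he⟩ := hall w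
    rw [Module.End.mul_apply, he, map_smul, hd']
  obtain ⟨d, hd⟩ := exists_scalar hV hb (ρ x₁)
  obtain ⟨m, hm⟩ : ∃ m : ℕ, (m : ZMod p) = -d / c := ⟨(-d / c).val, ZMod.natCast_zmod_val _⟩
  set x := x₁ * t ^ m with hx
  have hxP : x ∈ (P₀ : Subgroup G) := mul_mem hx₁P (pow_mem htP m)
  have hx1 : x ≠ 1 := fun h => hx₁t (by
    rw [eq_inv_of_mul_eq_one_left h]
    exact inv_mem (pow_mem (Subgroup.mem_zpowers t) m))
  have hbxb : b * ρ x * b = 0 := by
    rw [hx, map_mul, map_pow, hta, one_add_pow_sq ha, mul_add, mul_one, mul_smul_comm, hx₁a, mul_add, add_mul,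
      hd, mul_smul_comm, smul_mul_assoc, hcb, hm, smul_smul, div_mul_cancel₀ _ hc0, neg_smul, add_neg_cancel]
  have hxM : g⁻¹ * x⁻¹ * g ∈ M := by
    set y := g⁻¹ * x⁻¹ * g with hy
    refine mem_of_conj_mem hM hpt ht1 htM (mem_of_mul_eq_zero hρ hM (u := y * t * y⁻¹) (b := ρ y * a * ρ y⁻¹)
      hta ?_ ha ?_ ?_ htM ht1)
    · rw [map_mul, map_mul, hta, mul_add, mul_one, add_mul, ← map_mul, mul_inv_cancel, map_one]
    · calc _ = ρ y * (a * (ρ y⁻¹ * ρ y) * a) * ρ y⁻¹ := by simp only [mul_assoc]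
        _ = 0 := by rw [← map_mul ρ, inv_mul_cancel, map_one, mul_one, ha, mul_zero, zero_mul]
    · calc ρ y * a * ρ y⁻¹ * a = ρ g⁻¹ * ρ x⁻¹ * (b * ρ x * b) * ρ g := by
            simp only [hy, hb', mul_inv_rev, inv_inv, map_mul, mul_assoc, hgg, mul_one]
        _ = 0 := by rw [hbxb, mul_zero, zero_mul]
  have hxp : IsPGroup p (Subgroup.zpowers x) := hPp.to_le (Subgroup.zpowers_le.2 hxP)
  have h1 : g⁻¹ * x * g⁻¹⁻¹ ∈ M := by simpa [mul_assoc] using M.inv_mem hxM
  exact hg (by simpa using M.inv_mem (mem_of_conj_mem hM hxp hx1 (hle hxP) h1))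

end CfsgLib.FusionRankThree
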