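import Cfsg.Prelude.Def_CaseTheorems
import Cfsg.Agent.Lib.FrattiniEmbed.Basic
import Cfsg.Agent.Lib.PGroup.Basic
import Cfsg.Agent.Lib.PGroup.PowerMap
import Mathlib.FieldTheory.Finite.Basic
import Mathlib.Tactic.LinearCombination

/-!
Small facts used for rank three essential subgroups.
-/

set_option autoImplicit false
set_option linter.unusedSectionVars false

namespace CfsgLib.FusionRankThree

open scoped commutatorElement

variable {p : ℕ} [Fact p.Prime] {G : Type*} [Group G]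

/-- An elementary abelian section has order at most `p ^ 3`. -/
theorem card_section_le (hsr : Cfsg.SectionalPRankLE p 3 G) {K H : Subgroup G} [K.Normal] (hKH : K ≤ H)
    (hc : ∀ a ∈ H, ∀ b ∈ H, ⁅a, b⁆ ∈ K) (hp : ∀ a ∈ H, a ^ p ∈ K) :
    Nat.card H ≤ p ^ 3 * Nat.card K := by
  have hab : IsMulCommutative (⊤ : Subgroup (H ⧸ K.subgroupOf H)) := ⟨⟨fun a b => by
    obtain ⟨a, ha⟩ := QuotientGroup.mk_surjective (a : H ⧸ K.subgroupOf H)
    obtain ⟨b, hb⟩ := QuotientGroup.mk_surjective (b : H ⧸ K.subgroupOf H)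
    refine Subtype.ext ?_
    show (_ : H ⧸ K.subgroupOf H) * _ = _ * _
    rw [← ha, ← hb, ← QuotientGroup.mk_mul, ← QuotientGroup.mk_mul, QuotientGroup.eq, Subgroup.mem_subgroupOf]
    show (((a : G) * b)⁻¹ * (b * a)) ∈ K
    have := hc _ (H.inv_mem b.2) _ (H.inv_mem a.2)
    rwa [commutatorElement_def, inv_inv, inv_inv, ← mul_inv_rev, mul_assoc] at this⟩⟩
  have h1 := hsr H (K.subgroupOf H) ⊤ hab (by
    intro a _
    obtain ⟨a, rfl⟩ := QuotientGroup.mk_surjective a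
    rw [← QuotientGroup.mk_pow, QuotientGroup.eq_one_iff, Subgroup.mem_subgroupOf]
    exact hp a a.2)
  rw [Subgroup.card_top] at h1
  rw [Subgroup.card_eq_card_quotient_mul_card_subgroup (K.subgroupOf H),
    Nat.card_congr (Subgroup.subgroupOfEquivOfLe hKH).toEquiv]
  exact Nat.mul_le_mul_right _ h1

theorem pow_val_eq {a : G} (ha : a ^ p = 1) {m n : ℕ} (h : (m : ZMod p) = (n : ZMod p)) : a ^ m = a ^ n := by
  refine pow_eq_pow_iff_modEq.2 ?_
  exact ((ZMod.natCast_eq_natCast_iff m n p).1 h).of_dvd (orderOf_dvd_of_pow_eq_one ha)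

/-- If `a ^ n = 1` for an element of order dividing `p` and `n` is not divisible by `p`, then `a = 1`. -/
theorem eq_one_of_pow {a : G} (ha : a ^ p = 1) {n : ℕ} (hn : (n : ZMod p) ≠ 0) (h : a ^ n = 1) : a = 1 := by
  obtain ⟨m, hm⟩ : ∃ m : ℕ, (m : ZMod p) = (n : ZMod p)⁻¹ := ⟨_, ZMod.natCast_zmod_val _⟩
  calc a = a ^ (n * m) := by
        conv_lhs => rw [← pow_one a]
        exact pow_val_eq ha (by rw [Nat.cast_one, Nat.cast_mul, hm, mul_inv_cancel₀ hn])
    _ = 1 := by rw [pow_mul, h, one_pow]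

/-- The powers of an element acting through a commuting family of displacements. -/
theorem conj_pow_expand {x e d₀ d₁ d₂ d₃ : G} (he : x * e * x⁻¹ = e * d₀) (h₀ : x * d₀ * x⁻¹ = d₀ * d₁)
    (h₁ : x * d₁ * x⁻¹ = d₁ * d₂) (h₂ : x * d₂ * x⁻¹ = d₂ * d₃) (h₃ : x * d₃ * x⁻¹ = d₃)
    (c01 : Commute d₀ d₁) (c02 : Commute d₀ d₂) (c03 : Commute d₀ d₃) (c12 : Commute d₁ d₂)
    (c13 : Commute d₁ d₃) (c23 : Commute d₂ d₃) (n : ℕ) :
    x ^ n * e * (x ^ n)⁻¹ = e * (d₀ ^ n * d₁ ^ n.choose 2 * d₂ ^ n.choose 3 * d₃ ^ n.choose 4) := by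
  induction n with
  | zero => simp
  | succ n ih =>
    have hstep : x ^ (n + 1) * e * (x ^ (n + 1))⁻¹ = x * (x ^ n * e * (x ^ n)⁻¹) * x⁻¹ := by
      simp [pow_succ', mul_assoc]
    have hconj : ∀ a b : G, x * (a * b) * x⁻¹ = x * a * x⁻¹ * (x * b * x⁻¹) := fun a b => by group
    have hcp : ∀ (a : G) (k : ℕ), x * a ^ k * x⁻¹ = (x * a * x⁻¹) ^ k := fun a k => conj_pow.symm
    rw [hstep, ih, hconj, he, hconj, hconj, hconj, hcp, hcp, hcp, hcp, h₀, h₁, h₂, h₃, c01.mul_pow, c12.mul_pow,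
      c23.mul_pow, mul_assoc e d₀]
    congr 1
    rw [Nat.choose_succ_succ n 1, Nat.choose_one_right, Nat.choose_succ_succ n 2, Nat.choose_succ_succ n 3,
      pow_succ' d₀, pow_add d₁, pow_add d₂, pow_add d₃]
    simp only [mul_assoc]

end CfsgLib.FusionRankThree
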