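import Cfsg.Agent.Lib.FusionRankThree.TransTop

/-!
The case where every conjugation fixes the line of `x` modulo the centre.
-/

set_option autoImplicit false
set_option linter.unusedSectionVars false

namespace CfsgLib.FusionRankThree

open scoped commutatorElement

variable {p : ℕ} [Fact p.Prime]

/-- The automorphisms acting trivially on the factors of a descending chain. -/
def chainStab {G : Type*} [Group G] [Finite G] (M : ℕ → Subgroup G) (hM : Antitone M) :
    Subgroup (MulAut G) :=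
  let S : Submonoid (MulAut G) :=
    { carrier := {α | ∀ i, ∀ w ∈ M i, w⁻¹ * α w ∈ M (i + 1)}
      one_mem' := fun i w _ => by simp
      mul_mem' := fun {α β} hα hβ i w hw => by
        have hb : β w ∈ M i := by simpa using (M i).mul_mem hw (hM (Nat.le_succ i) (hβ i w hw))
        simpa [mul_assoc] using (M (i + 1)).mul_mem (hβ i w hw) (hα i _ hb) }
  { S with
    inv_mem' := fun {α} hα => by
      have : Finite (MulAut G) := Finite.of_injective _ (DFunLike.coe_injective (F := MulAut G))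
      have h := (IsOfFinOrder.powers_eq_zpowers (isOfFinOrder_of_finite α)).symm.subset
        (inv_mem (Subgroup.mem_zpowers α))
      obtain ⟨k, hk⟩ := h
      exact (show α ^ k = α⁻¹ from hk) ▸ S.pow_mem hα k }

theorem mem_chainStab {G : Type*} [Group G] [Finite G] {M : ℕ → Subgroup G} {hM : Antitone M}
    {α : MulAut G} : α ∈ chainStab M hM ↔ ∀ i, ∀ w ∈ M i, w⁻¹ * α w ∈ M (i + 1) := Iff.rfl

theorem isPGroup_chainStab {G : Type*} [Group G] [Finite G] (hG : IsPGroup p G) (M : ℕ → Subgroup G)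
    (hM : Antitone M) (n : ℕ) (h0 : M 0 = ⊤) (hn : M n = ⊥) : IsPGroup p (chainStab M hM) := by
  have : Finite (MulAut G) := Finite.of_injective _ (DFunLike.coe_injective (F := MulAut G))
  refine CfsgLib.Fusion.Stability.isPGroup_of_coprime_eq_one fun a ha => ?_
  rw [← Subgroup.orderOf_coe] at ha
  refine Subtype.ext (MulEquiv.ext fun w => ?_)
  exact CfsgLib.Fusion.Stability.eq_self_of_series hG _ ha M n hn (fun i _ w hw => a.2 i w hw) 0
    (Nat.zero_le n) w (h0 ▸ Subgroup.mem_top w)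

theorem chainStab_normalized {G : Type*} [Group G] [Finite G] {M : ℕ → Subgroup G} {hM : Antitone M}
    {γ α : MulAut G} (hγ : ∀ i, ∀ w ∈ M i, γ w ∈ M i) (hα : α ∈ chainStab M hM) :
    γ * α * γ⁻¹ ∈ chainStab M hM := by
  have : Finite (MulAut G) := Finite.of_injective _ (DFunLike.coe_injective (F := MulAut G))
  obtain ⟨k, hk⟩ := (IsOfFinOrder.powers_eq_zpowers (isOfFinOrder_of_finite γ)).symm.subset
    (inv_mem (Subgroup.mem_zpowers γ))
  have hpow : ∀ n i, ∀ w ∈ M i, (γ ^ n) w ∈ M i := fun n => by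
    induction n with
    | zero => exact fun i w hw => hw
    | succ n ih => exact fun i w hw => by rw [pow_succ, MulAut.mul_apply]; exact ih i _ (hγ i w hw)
  intro i w hw
  have h1 := hγ (i + 1) _ (hα i _ (show (γ⁻¹ : MulAut G) w ∈ M i from hk ▸ hpow k i w hw))
  simpa using h1

theorem val_eq_of_pow {G : Type*} [Group G] {a : G} (ha : a ^ p = 1) (hne : a ≠ 1) {m n : ℕ}
    (h : a ^ m = a ^ n) : (m : ZMod p) = n := by
  have h1 := pow_eq_pow_iff_modEq.1 h
  rw [orderOf_eq_prime ha hne] at h1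
  exact (ZMod.natCast_eq_natCast_iff m n p).2 h1

namespace Frame

variable {N : Type*} [Group N] {t t' : ℕ} {e x l z : N} {T : MulAut N}

theorem hom_ext (h : Frame p t t' e x l z T) {H : Type*} [Group H] {f f' : N →* H} (hx : f x = f' x)
    (he : f e = f' e) (hl : f l = f' l) (hz : f z = f' z) (n : N) : f n = f' n := by
  obtain ⟨i, a, b, c, rfl⟩ := h.gen n
  simp only [map_mul, map_pow, hx, he, hl, hz]

theorem l_mem (h : Frame p t t' e x l z T) : l ∈ Subgroup.center N :=
  (h.mem_center_iff l).2 ⟨1, 0, by simp⟩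

theorem z_mem (h : Frame p t t' e x l z T) : z ∈ Subgroup.center N :=
  (h.mem_center_iff z).2 ⟨0, 1, by simp⟩

theorem unique (h : Frame p t t' e x l z T) {i b c i' b' c' : ℕ}
    (hh : x ^ i * l ^ b * z ^ c = x ^ i' * l ^ b' * z ^ c') :
    (i : ZMod p) = i' ∧ (b : ZMod p) = b' ∧ (c : ZMod p) = c' := by
  obtain ⟨ni, hni⟩ : ∃ n : ℕ, (n : ZMod p) = -(i' : ZMod p) := ⟨_, ZMod.natCast_zmod_val _⟩
  obtain ⟨nb, hnb⟩ : ∃ n : ℕ, (n : ZMod p) = -(b' : ZMod p) := ⟨_, ZMod.natCast_zmod_val _⟩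
  obtain ⟨nc, hnc⟩ : ∃ n : ℕ, (n : ZMod p) = -(c' : ZMod p) := ⟨_, ZMod.natCast_zmod_val _⟩
  have hm : ∀ a b c a' b' c' : ℕ,
      x ^ (a + a') * l ^ (b + b') * z ^ (c + c') = x ^ a * l ^ b * z ^ c * (x ^ a' * l ^ b' * z ^ c') := by
    intro a b c a' b' c'
    have h1 : Commute (l ^ b * z ^ c) (x ^ a') :=
      (h.cxl.symm.pow_pow b a').mul_left (h.cxz.symm.pow_pow c a')
    have h2 : Commute (z ^ c) (l ^ b') := h.clz.symm.pow_pow c b'
    calc x ^ (a + a') * l ^ (b + b') * z ^ (c + c')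
        = x ^ a * (x ^ a' * (l ^ b * ((l ^ b' * z ^ c) * z ^ c'))) := by simp only [pow_add, mul_assoc]
      _ = x ^ a * (x ^ a' * ((l ^ b * z ^ c) * (l ^ b' * z ^ c'))) := by rw [← h2.eq]; simp only [mul_assoc]
      _ = x ^ a * ((x ^ a' * (l ^ b * z ^ c)) * (l ^ b' * z ^ c')) := by simp only [mul_assoc]
      _ = _ := by rw [← h1.eq]; simp only [mul_assoc]
  obtain ⟨e1, -, e2, e3⟩ := h.indep (i + ni) 0 (b + nb) (c + nc) (by
    rw [pow_zero, mul_one, hm, hh, ← hm, pow_val_eq h.xp (m := i' + ni) (n := 0) (by simp [hni]),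
      pow_val_eq h.lp (m := b' + nb) (n := 0) (by simp [hnb]), pow_val_eq h.zp (m := c' + nc) (n := 0) (by simp [hnc]),
      pow_zero, pow_zero, pow_zero, one_mul, one_mul])
  rw [Nat.cast_add, hni, ← sub_eq_add_neg, sub_eq_zero] at e1
  rw [Nat.cast_add, hnb, ← sub_eq_add_neg, sub_eq_zero] at e2
  rw [Nat.cast_add, hnc, ← sub_eq_add_neg, sub_eq_zero] at e3
  exact ⟨e1, e2, e3⟩

theorem center_unique (h : Frame p t t' e x l z T) {b c b' c' : ℕ}
    (hh : l ^ b * z ^ c = l ^ b' * z ^ c') : (b : ZMod p) = b' ∧ (c : ZMod p) = c' :=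
  (h.unique (i := 0) (i' := 0) (by simpa using hh)).2

theorem z_ne_one (h : Frame p t t' e x l z T) : z ≠ 1 := fun hz => by
  have := (h.indep 0 0 0 1 (by rw [hz]; simp)).2.2.2
  simp at this

theorem of_commute_x (h : Frame p t t' e x l z T) {n : N} (hn : Commute n x) :
    ∃ i b c : ℕ, n = x ^ i * l ^ b * z ^ c := by
  obtain ⟨i, a, b, c, rfl⟩ := h.gen n
  refine ⟨i, b, c, ?_⟩
  have h1 : x ^ i * e ^ a * l ^ b * z ^ c * x = x * (x ^ i * e ^ a * l ^ b * z ^ c) := hn.eq
  rw [h.mul_form, ← mul_assoc, ← mul_assoc, ← mul_assoc, ← pow_succ'] at h1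
  have h3 : (z ^ a)⁻¹ = 1 := mul_left_cancel (h1.trans (mul_one _).symm)
  have h4 : (a : ZMod p) = 0 := (h.indep 0 0 0 a (by rw [inv_eq_one.1 h3]; simp)).2.2.2
  rw [pow_val_eq h.ep (m := a) (n := 0) (by simpa using h4), pow_zero, mul_one]

theorem conj_e_pow (h : Frame p t t' e x l z T) (m : ℕ) : e ^ m * x * (e ^ m)⁻¹ = x * (z ^ m)⁻¹ := by
  have h1 : x * e ^ m * x⁻¹ = e ^ m * z ^ m := by rw [← conj_pow, h.xe, h.cez.mul_pow]
  rw [mul_inv_eq_iff_eq_mul] at h1 ⊢
  rw [mul_assoc x, ← ((h.cez.pow_pow m m).inv_right).eq, ← mul_assoc x, h1, mul_assoc, mul_assoc,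
    (h.cxz.pow_right m).inv_right.eq, mul_inv_cancel_left]

end Frame

section

variable {Q : Type*} [Group Q] [Finite Q] {N : Subgroup Q} [N.Normal] {𝒜 : Subgroup (MulAut N)}
variable {t t' : ℕ} {e x l z : N} {T : MulAut N}

/-- Congruence modulo the centre is preserved by automorphisms. -/
theorem mk_center_congr (α : MulAut N) {a b : N}
    (h : QuotientGroup.mk' (Subgroup.center N) a = QuotientGroup.mk' (Subgroup.center N) b) :
    QuotientGroup.mk' (Subgroup.center N) (α a) = QuotientGroup.mk' (Subgroup.center N) (α b) := by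
  refine QuotientGroup.eq.2 ?_
  rw [← map_inv, ← map_mul]
  exact center_invariant α (QuotientGroup.eq.1 h)

theorem ext_apply {B : MulAut Q} {α : MulAut N} (hB : ∀ n : N, B n = α n) (q : Q) (n : N) :
    (MulAut.conjNormal (B q) : MulAut N) (α n) = α ((MulAut.conjNormal q : MulAut N) n) := by
  refine Subtype.ext ?_
  rw [MulAut.conjNormal_apply, ← hB, ← hB, MulAut.conjNormal_apply, map_mul, map_mul, map_inv]

theorem commute_of_fix {q : Q} {n : N} (h : (MulAut.conjNormal q : MulAut N) n = n) : Commute q (n : Q) := by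
  have h1 := congrArg Subtype.val h
  rw [MulAut.conjNormal_apply, mul_inv_eq_iff_eq_mul] at h1
  exact h1

theorem pow_dist (hf : Frame p t t' e x l z T) {k : ℕ} (hk : (t : ZMod p) ^ k ≠ 1)
    (hu : ((t * t' : ℕ) : ZMod p) = 1) : (t' : ZMod p) ^ k ≠ 1 := fun h => by
  refine hk ?_
  have h1 : ((t : ZMod p) * t') ^ k = 1 := by rw [← Nat.cast_mul, hu, one_pow]
  rwa [mul_pow, h, mul_one] at h1

/-- The automorphism `T` extends. -/
theorem exists_ext (hQ : IsPGroup p Q) (hD : TopData p N 𝒜 t t' e x l z T)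
    (hline : ∀ q : Q, x⁻¹ * (MulAut.conjNormal q : MulAut N) x ∈ Subgroup.center N) :
    ∃ B : MulAut Q, ∀ n : N, B n = T n := by
  have hf := hD.frame
  set C := Subgroup.center N with hC
  set D : Subgroup N := Subgroup.zpowers x ⊔ C with hDdef
  set Z : Subgroup N := Subgroup.zpowers z with hZdef
  let M : ℕ → Subgroup N := fun i =>
    if i = 0 then ⊤ else if i = 1 then D else if i = 2 then C else if i = 3 then Z else ⊥
  have hZC : Z ≤ C := Subgroup.zpowers_le.2 hf.z_mem
  have hM : Antitone M := antitone_nat_of_succ_le fun i => by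
    match i with
    | 0 => exact le_top
    | 1 => exact le_sup_right
    | 2 => exact hZC
    | 3 => exact bot_le
    | i + 4 => simp [M]
  have hDn : D.Normal := ⟨fun w hw n => by
    obtain ⟨k, hk⟩ := commutator_mem_zpowers hD n w
    rw [show n * w * n⁻¹ = ⁅n, w⁆ * w by rw [commutatorElement_def, inv_mul_cancel_right], hk]
    exact D.mul_mem (Subgroup.mem_sup_right (C.pow_mem hf.z_mem k)) hw⟩
  have hDmem : ∀ w ∈ D, ∃ (i : ℕ) (c : N), c ∈ C ∧ w = x ^ i * c := fun w hw => by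
    obtain ⟨a, ha, c, hc, rfl⟩ := Subgroup.mem_sup_of_normal_right.1 hw
    obtain ⟨i, rfl⟩ := (IsOfFinOrder.powers_eq_zpowers (isOfFinOrder_of_finite x)).symm.subset ha
    exact ⟨i, c, hc, rfl⟩
  have hxD : x ∈ D := Subgroup.mem_sup_left (Subgroup.mem_zpowers x)
  have hNp : IsPGroup p N := hQ.to_subgroup N
  have hTM : ∀ i, ∀ w ∈ M i, T w ∈ M i := by
    intro i w hw
    rcases i with _ | _ | _ | _ | i
    · exact Subgroup.mem_top _
    ·
      obtain ⟨i, c, hc, rfl⟩ := hDmem w hw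
      obtain ⟨b, c', hx⟩ := hf.tx
      rw [map_mul, map_pow, hx]
      exact D.mul_mem (D.pow_mem (D.mul_mem (D.mul_mem (D.pow_mem hxD _)
        (Subgroup.mem_sup_right (C.pow_mem hf.l_mem b))) (Subgroup.mem_sup_right (C.pow_mem hf.z_mem c'))) i)
        (Subgroup.mem_sup_right (center_invariant T hc))
    · exact center_invariant T hw
    ·
      obtain ⟨k, rfl⟩ := (hw : w ∈ Subgroup.zpowers z)
      show T (z ^ k) ∈ Z
      rw [map_zpow, hf.tz]
      exact Z.zpow_mem (Z.pow_mem (Subgroup.mem_zpowers z) t') k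
    ·
      simp [M] at hw ⊢
      exact hw
  have hle : (MulAut.conjNormal : Q →* MulAut N).range ≤ chainStab M hM := by
    rintro _ ⟨q, rfl⟩ i w hw
    set χ := (MulAut.conjNormal q : MulAut N)
    obtain ⟨hz, k, hl⟩ := conj_disp hQ hD q
    rcases i with _ | _ | _ | _ | i
    ·
      obtain ⟨j, c, hc, he⟩ := disp_line hQ hD hline q
      have hxd : x⁻¹ * χ x ∈ D := Subgroup.mem_sup_right (hline q)
      have := hf.hom_ext (f := (QuotientGroup.mk' D).comp χ.toMonoidHom) (f' := QuotientGroup.mk' D)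
        (by
          show QuotientGroup.mk' D (χ x) = QuotientGroup.mk' D x
          exact (QuotientGroup.eq.2 hxd).symm)
        (by
          show QuotientGroup.mk' D (χ e) = QuotientGroup.mk' D e
          refine (QuotientGroup.eq.2 ?_).symm
          rw [he, mul_assoc, inv_mul_cancel_left]
          exact D.mul_mem (D.pow_mem hxD j) (Subgroup.mem_sup_right hc))
        (by
          show QuotientGroup.mk' D (χ l) = QuotientGroup.mk' D l
          refine (QuotientGroup.eq.2 ?_).symm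
          rw [hl, inv_mul_cancel_left]
          exact Subgroup.mem_sup_right (C.pow_mem hf.z_mem k))
        (by show QuotientGroup.mk' D (χ z) = QuotientGroup.mk' D z; rw [hz]) w
      exact QuotientGroup.eq.1 (Eq.symm this)
    ·
      obtain ⟨i, c, hc, rfl⟩ := hDmem w hw
      show (x ^ i * c)⁻¹ * χ (x ^ i * c) ∈ C
      refine (QuotientGroup.eq_one_iff (N := C) _).1 ?_
      have hx1 : QuotientGroup.mk' C (χ x) = QuotientGroup.mk' C x := (QuotientGroup.eq.2 (hline q)).symm
      show QuotientGroup.mk' C ((x ^ i * c)⁻¹ * χ (x ^ i * c)) = 1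
      simp only [map_mul, map_inv, map_pow, hx1]
      rw [(show QuotientGroup.mk' C c = 1 from (QuotientGroup.eq_one_iff c).2 hc),
        (show QuotientGroup.mk' C (χ c) = 1 from (QuotientGroup.eq_one_iff _).2 (center_invariant χ hc))]
      simp
    ·
      obtain ⟨b, c, rfl⟩ := (hf.mem_center_iff w).1 hw
      show _ ∈ Z
      rw [map_mul, map_pow, map_pow, hz, hl, (hf.clz.pow_right k).mul_pow, mul_assoc (l ^ b),
        ((Commute.refl z).pow_pow k 1).eq.symm.trans rfl |> fun _ => ((((Commute.refl z).pow_left k).pow_left b).pow_right c).eq,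
        ← mul_assoc (l ^ b), inv_mul_cancel_left]
      exact Z.pow_mem (Z.pow_mem (Subgroup.mem_zpowers z) k) b
    ·
      obtain ⟨m, rfl⟩ := (hw : w ∈ Subgroup.zpowers z)
      show _ ∈ (⊥ : Subgroup N)
      rw [Subgroup.mem_bot]
      show (z ^ m)⁻¹ * χ (z ^ m) = 1
      rw [map_zpow, hz, inv_mul_cancel]
    ·
      simp [M] at hw ⊢
      rw [hw, map_one, inv_one, one_mul]
  have hH := hD.sylow (chainStab M hM ⊓ 𝒜) inf_le_right
    ((isPGroup_chainStab hNp M hM 4 rfl rfl).to_le inf_le_left)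
    (le_inf hle (by rintro _ ⟨q, rfl⟩; exact hD.conj_mem q))
  refine hD.ext T hD.mem fun q => ?_
  rw [← hH]
  exact ⟨chainStab_normalized hTM (hle ⟨q, rfl⟩),
    𝒜.mul_mem (𝒜.mul_mem hD.mem (hD.conj_mem q)) (𝒜.inv_mem hD.mem)⟩

/-- Powers of a conjugation on the line of `e`. -/
theorem line_pow (hQ : IsPGroup p Q) (hD : TopData p N 𝒜 t t' e x l z T)
    (hline : ∀ q : Q, x⁻¹ * (MulAut.conjNormal q : MulAut N) x ∈ Subgroup.center N) (q : Q) :
    ∃ j : ℕ, ∀ n : ℕ, QuotientGroup.mk' (Subgroup.center N) ((MulAut.conjNormal (q ^ n) : MulAut N) e) =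
      QuotientGroup.mk' (Subgroup.center N) e * QuotientGroup.mk' (Subgroup.center N) x ^ (n * j) := by
  obtain ⟨j, c, hc, he⟩ := disp_line hQ hD hline q
  refine ⟨j, fun n => ?_⟩
  set ρ := QuotientGroup.mk' (Subgroup.center N) with hρ
  induction n with
  | zero => simp
  | succ n ih =>
    have hx1 : ρ ((MulAut.conjNormal (q ^ n) : MulAut N) x) = ρ x := (QuotientGroup.eq.2 (hline _)).symm
    rw [pow_succ, map_mul, MulAut.mul_apply, he]
    simp only [map_mul ((MulAut.conjNormal (q ^ n) : MulAut N))]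
    rw [map_mul ρ, map_mul ρ, ih, map_pow, map_pow ρ, hx1,
      (show ρ ((MulAut.conjNormal (q ^ n) : MulAut N) c) = 1 from
        (QuotientGroup.eq_one_iff _).2 (center_invariant _ hc)), mul_one, mul_assoc, ← pow_add, Nat.succ_mul]

set_option maxHeartbeats 4000000 in
theorem trans_fixed (hQ : IsPGroup p Q) (hsr : Cfsg.SectionalPRankLE p 3 Q)
    (hD : TopData p N 𝒜 t t' e x l z T)
    (hline : ∀ q : Q, x⁻¹ * (MulAut.conjNormal q : MulAut N) x ∈ Subgroup.center N) {g : Q} (hg : g ∉ N) :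
    False := by
  have hpp : p.Prime := Fact.out
  have hf := hD.frame
  obtain ⟨B, hB⟩ := exists_ext hQ hD hline
  have hu : (t : ZMod p) * t' = 1 := by rw [← Nat.cast_mul, hD.unit]
  have ht2' : (t' : ZMod p) ^ 2 ≠ 1 := pow_dist hf hD.ne2 hD.unit
  have ht3' : (t' : ZMod p) ^ 3 ≠ 1 := pow_dist hf hD.ne3 hD.unit
  have ht5' : (t' : ZMod p) ^ 5 ≠ 1 := pow_dist hf hD.ne5 hD.unit
  have ht0 : (t' : ZMod p) ≠ 0 := fun h => by simp [h] at hu
  set C := Subgroup.center N with hC
  set ρ := QuotientGroup.mk' C with hρ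
  have hρc : ∀ c ∈ C, ρ c = 1 := fun c hc => (QuotientGroup.eq_one_iff c).2 hc
  have hρxp : ρ x ^ p = 1 := by rw [← map_pow, hf.xp, map_one]
  have hρx : ∀ q : Q, ρ ((MulAut.conjNormal q : MulAut N) x) = ρ x := fun q => (QuotientGroup.eq.2 (hline q)).symm
  have hfix : ∀ (q : Q) (n : N), n ∈ C → ρ ((MulAut.conjNormal q : MulAut N) n) = ρ n := fun q n hn => by
    rw [hρc _ (center_invariant _ hn), hρc _ hn]
  obtain ⟨b₀, c₀, hTx⟩ := hf.tx
  have hw₀ : l ^ b₀ * z ^ c₀ ∈ C := (hf.mem_center_iff _).2 ⟨_, _, rfl⟩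
  obtain ⟨μ, hμ⟩ : ∃ μ, μ = t' * t' * t' := ⟨_, rfl⟩
  have hμ' : (μ : ZMod p) = (t' : ZMod p) ^ 3 := by rw [hμ]; push_cast; ring
  -- `B g` is `g ^ μ` modulo `N`
  obtain ⟨j, hj⟩ := line_pow hQ hD hline g
  obtain ⟨j', hj'⟩ := line_pow hQ hD hline (B g)
  have hBe : ρ ((MulAut.conjNormal (B g) : MulAut N) e) = ρ e * ρ x ^ (μ * j) := by
    have h1 : ρ ((MulAut.conjNormal (B g) : MulAut N) e) = ρ e * ρ x ^ j' := by
      have h := hj' 1
      rwa [pow_one, one_mul] at h
    have h2 : ρ ((MulAut.conjNormal (B g) : MulAut N) (T e)) = ρ (T ((MulAut.conjNormal g : MulAut N) e)) :=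
      congrArg ρ (ext_apply hB g e)
    have h3 : ρ ((MulAut.conjNormal g : MulAut N) e) = ρ (e * x ^ j) := by
      have h := hj 1
      rw [pow_one, one_mul] at h
      rw [map_mul, map_pow]; exact h
    rw [mk_center_congr T h3, hf.te, map_pow, map_pow ρ, h1, map_mul T, map_mul ρ, map_pow T, map_pow ρ,
      hf.te, map_pow, hTx, mul_assoc _ (l ^ b₀), map_mul ρ, hρc _ hw₀, mul_one, map_pow] at h2
    have hcomm : Commute (ρ e) (ρ x) := by
      refine (commutatorElement_eq_one_iff_commute.1 ?_).symm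
      rw [← map_commutatorElement, hf.commutator_xe]; exact hρc _ hf.z_mem
    rw [(hcomm.pow_right j').mul_pow, ← pow_mul, ← pow_mul] at h2
    have h4 := mul_left_cancel h2
    have h5 : ρ x ^ (j' * t * t') = ρ x ^ (t' * t' * j * t') := by rw [pow_mul, h4, ← pow_mul]
    rw [h1, pow_val_eq hρxp (m := j') (n := j' * t * t') (by push_cast; rw [mul_assoc, hu, mul_one]), h5,
      pow_val_eq hρxp (m := t' * t' * j * t') (n := μ * j) (by rw [hμ]; push_cast; ring)]
  obtain ⟨n, hn⟩ : ∃ n : N, B g = g ^ μ * n := by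
    refine ⟨⟨(g ^ μ)⁻¹ * B g, hD.triv _ fun w => ?_⟩, by simp⟩
    have h1 : ρ ((MulAut.conjNormal (B g) : MulAut N) w) = ρ ((MulAut.conjNormal (g ^ μ) : MulAut N) w) :=
      hf.hom_ext (f := ρ.comp (MulAut.conjNormal (B g) : MulAut N).toMonoidHom)
        (f' := ρ.comp (MulAut.conjNormal (g ^ μ) : MulAut N).toMonoidHom)
        ((hρx _).trans (hρx _).symm) (hBe.trans (hj μ).symm)
        ((hfix _ _ hf.l_mem).trans (hfix _ _ hf.l_mem).symm)
        ((hfix _ _ hf.z_mem).trans (hfix _ _ hf.z_mem).symm) w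
    have h2 := mk_center_congr (MulAut.conjNormal (g ^ μ) : MulAut N)⁻¹ h1
    rw [MulAut.inv_apply_self] at h2
    refine QuotientGroup.eq.1 ?_
    rw [map_mul, map_inv, MulAut.mul_apply]
    exact h2.symm
  have hBχ : ∀ w, (MulAut.conjNormal (B g) : MulAut N) w =
      (MulAut.conjNormal (g ^ μ) : MulAut N) (n * w * n⁻¹) := fun w => by
    rw [hn, map_mul, MulAut.mul_apply, MulAut.conjNormal_val, MulAut.conj_apply]
  -- `g` centralises `l`
  set χ := (MulAut.conjNormal g : MulAut N) with hχdef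
  obtain ⟨hχz, k, hχl⟩ := conj_disp hQ hD g
  have hpz : ∀ m : ℕ, (MulAut.conjNormal (g ^ m) : MulAut N) z = z := fun m => (conj_disp hQ hD _).1
  have hpl : ∀ m : ℕ, (MulAut.conjNormal (g ^ m) : MulAut N) l = l * z ^ (m * k) := fun m => by
    induction m with
    | zero => simp
    | succ m ih =>
      rw [pow_succ, map_mul, MulAut.mul_apply, hχl, map_mul (MulAut.conjNormal (g ^ m) : MulAut N), map_pow (MulAut.conjNormal (g ^ m) : MulAut N), ih, hpz, mul_assoc, ← pow_add,
        Nat.succ_mul]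
  have hk : (k : ZMod p) = 0 := by
    have h1 := ext_apply hB g l
    rw [hf.tl, hBχ, Subgroup.mem_center_iff.1 hf.l_mem n, mul_inv_cancel_right, hpl, hχl, map_mul, hf.tl,
      map_pow T, hf.tz, ← pow_mul] at h1
    have h2 := val_eq_of_pow hf.zp hf.z_ne_one (mul_left_cancel h1)
    rw [Nat.cast_mul, Nat.cast_mul, hμ'] at h2
    have h3 : (t' : ZMod p) * ((t' : ZMod p) ^ 2 - 1) * k = 0 := by linear_combination h2
    rcases mul_eq_zero.1 h3 with h | h
    · exact absurd ((mul_eq_zero.1 h).resolve_left ht0) (sub_ne_zero.2 ht2')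
    · exact h
  rw [pow_val_eq hf.zp (m := k) (n := 0) (by simpa using hk), pow_zero, mul_one] at hχl
  have hpl' : ∀ m : ℕ, (MulAut.conjNormal (g ^ m) : MulAut N) l = l := fun m => by
    rw [hpl, pow_val_eq hf.zp (m := m * k) (n := 0) (by simp [hk]), pow_zero, mul_one]
  -- modulo `z` it centralises `x`
  obtain ⟨a, c, hac⟩ := (hf.mem_center_iff _).1 (hline g)
  have hχx : χ x = x * (l ^ a * z ^ c) := by rw [← hac, mul_inv_cancel_left]
  have hpx : ∀ m : ℕ, (MulAut.conjNormal (g ^ m) : MulAut N) x = x * (l ^ (m * a) * z ^ (m * c)) := fun m => by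
    induction m with
    | zero => simp
    | succ m ih =>
      rw [pow_succ, map_mul, MulAut.mul_apply, hχx, map_mul (MulAut.conjNormal (g ^ m) : MulAut N), map_mul (MulAut.conjNormal (g ^ m) : MulAut N), map_pow (MulAut.conjNormal (g ^ m) : MulAut N), map_pow (MulAut.conjNormal (g ^ m) : MulAut N), ih, hpl', hpz,
        mul_assoc, ← mul_assoc (l ^ (m * a) * z ^ (m * c)), mul_assoc (l ^ (m * a)),
        (hf.clz.symm.pow_pow (m * c) a).eq, ← mul_assoc (l ^ (m * a)), ← pow_add, mul_assoc (l ^ (m * a + a)),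
        ← pow_add, Nat.succ_mul, Nat.succ_mul]
  obtain ⟨d, hd⟩ := commutator_mem_zpowers hD n x
  have hnx : (n : N) * x * n⁻¹ = x * z ^ d := by
    rw [show n * x * n⁻¹ = ⁅n, x⁆ * x by rw [commutatorElement_def, inv_mul_cancel_right], hd]
    exact (hf.cxz.pow_right d).eq.symm
  have ha : (a : ZMod p) = 0 := by
    have h1 := ext_apply hB g x
    have hcw : ∀ b c : ℕ, Commute x (l ^ b * z ^ c) := fun b c => (hf.cxl.pow_right b).mul_right (hf.cxz.pow_right c)
    have hzl : ∀ b c : ℕ, Commute (z ^ b) (l ^ c) := fun b c => hf.clz.symm.pow_pow b c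
    have e1 : (MulAut.conjNormal (B g) : MulAut N) x = x * (l ^ (μ * a) * z ^ (μ * c + d)) := by
      rw [hBχ, hnx, map_mul (MulAut.conjNormal (g ^ μ) : MulAut N), map_pow (MulAut.conjNormal (g ^ μ) : MulAut N), hpx, hpz, mul_assoc, mul_assoc, ← pow_add]
    have e2 : ∀ b c : ℕ, (MulAut.conjNormal (B g) : MulAut N) (l ^ b * z ^ c) = l ^ b * z ^ c := fun b c => by
      have hc : ∀ w ∈ C, n * w * n⁻¹ = w := fun w hw => by rw [Subgroup.mem_center_iff.1 hw n, mul_inv_cancel_right]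
      rw [hBχ, hc _ ((hf.mem_center_iff _).2 ⟨b, c, rfl⟩), map_mul (MulAut.conjNormal (g ^ μ) : MulAut N), map_pow (MulAut.conjNormal (g ^ μ) : MulAut N), map_pow (MulAut.conjNormal (g ^ μ) : MulAut N), hpl', hpz]
    rw [hTx, mul_assoc _ (l ^ b₀), map_mul, e2, map_pow, e1, (hcw _ _).mul_pow, hχx, map_mul T, map_mul T,
      map_pow T, map_pow T, hTx, hf.tl, hf.tz, mul_assoc (x ^ (t' * t')) (l ^ b₀), mul_assoc, mul_assoc] at h1
    have h2 := mul_left_cancel h1
    rw [((hzl (μ * c + d) (μ * a)).symm).mul_pow, ← pow_mul, ← pow_mul, ← pow_mul,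
      show l ^ (μ * a * (t' * t')) * z ^ ((μ * c + d) * (t' * t')) * (l ^ b₀ * z ^ c₀) =
        l ^ b₀ * z ^ c₀ * (l ^ (μ * a * (t' * t')) * z ^ ((μ * c + d) * (t' * t'))) from
        Subgroup.mem_center_iff.1 hw₀ _] at h2
    have h4 := (hf.center_unique (mul_left_cancel h2)).1
    rw [Nat.cast_mul, Nat.cast_mul, Nat.cast_mul, hμ'] at h4
    have h5 : ((t' : ZMod p) ^ 5 - 1) * a = 0 := by linear_combination h4
    exact (mul_eq_zero.1 h5).resolve_left (sub_ne_zero.2 ht5')
  rw [pow_val_eq hf.lp (m := a) (n := 0) (by simpa using ha), pow_zero, one_mul] at hχx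
  -- the corrected element
  obtain ⟨g', hg'⟩ : ∃ g', g' = g * ((e ^ c : N) : Q) := ⟨_, rfl⟩
  have hg'N : g' ∉ N := fun h => hg (by
    have := N.mul_mem h (N.inv_mem (e ^ c).2)
    rwa [hg', mul_inv_cancel_right] at this)
  have hgapp : ∀ w, (MulAut.conjNormal g' : MulAut N) w = χ (e ^ c * w * (e ^ c)⁻¹) := fun w => by
    rw [hg', map_mul, MulAut.mul_apply, MulAut.conjNormal_val, MulAut.conj_apply]
  have hgx : Commute g' (x : Q) := commute_of_fix (by
    rw [hgapp, hf.conj_e_pow, map_mul, map_inv, map_pow, hχx, hχz, mul_inv_cancel_right])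
  have hgl : Commute g' (l : Q) := commute_of_fix (by
    rw [hgapp, (hf.cel.pow_left c).eq, mul_inv_cancel_right, hχl])
  have hgz : Commute g' (z : Q) := commute_of_fix (by
    rw [hgapp, (hf.cez.pow_left c).eq, mul_inv_cancel_right, hχz])
  have hgform : ∀ i b c : ℕ, Commute g' ((x ^ i * l ^ b * z ^ c : N) : Q) := fun i b c => by
    push_cast
    exact ((hgx.pow_right i).mul_right (hgl.pow_right b)).mul_right (hgz.pow_right c)
  have hgpN : g' ^ p ∈ N := by
    obtain ⟨j₁, hj₁⟩ := line_pow hQ hD hline g'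
    refine hD.triv _ fun w => ?_
    have h1 := hf.hom_ext (f := ρ.comp (MulAut.conjNormal (g' ^ p) : MulAut N).toMonoidHom) (f' := ρ)
      (hρx _) ((hj₁ p).trans (by rw [pow_mul, hρxp, one_pow, mul_one]))
      (hfix _ _ hf.l_mem) (hfix _ _ hf.z_mem) w
    exact QuotientGroup.eq.1 (Eq.symm h1)
  obtain ⟨i, b, c', hw⟩ := hf.of_commute_x (n := (⟨g' ^ p, hgpN⟩ : N)) (Subtype.ext (hgx.pow_left p).eq)
  -- the `p`-th power
  set η := QuotientGroup.mk' N
  have hη : ∀ w : N, η w = 1 := fun w => (QuotientGroup.eq_one_iff _).2 w.2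
  have hn' : (g' ^ μ)⁻¹ * B g' ∈ N := by
    refine (QuotientGroup.eq_one_iff (N := N) _).1 ?_
    show η ((g' ^ μ)⁻¹ * B g') = 1
    rw [hg', map_mul B, hB, hn]
    simp only [map_mul, map_inv, map_pow, hη, mul_one, inv_mul_cancel]
  have hBc : ∀ w : N, Commute g' (w : Q) → Commute (B g') (T w : Q) := fun w hc => by
    rw [← hB]; exact hc.map B
  have hBl : Commute (B g') (l : Q) := by have := hBc l hgl; rwa [hf.tl] at this
  have hBz : Commute (B g') (z : Q) := by
    have h := (hBc z hgz).pow_right t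
    rwa [hf.tz, ← SubmonoidClass.coe_pow, ← pow_mul,
      pow_val_eq hf.zp (m := t' * t) (n := 1) (by rw [Nat.cast_mul, mul_comm, hu, Nat.cast_one]), pow_one] at h
  have hBx : Commute (B g') (x : Q) := by
    have h := hBc x hgx
    rw [hTx, mul_assoc, Subgroup.coe_mul] at h
    have h0 : Commute (B g') ((l ^ b₀ * z ^ c₀ : N) : Q) := by
      push_cast; exact (hBl.pow_right _).mul_right (hBz.pow_right _)
    have h1 := h.mul_right h0.inv_right
    rw [mul_inv_cancel_right] at h1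
    have h2 := h1.pow_right (t * t)
    rwa [← SubmonoidClass.coe_pow, ← pow_mul, pow_val_eq hf.xp (m := t' * t' * (t * t)) (n := 1)
      (by push_cast; linear_combination ((t : ZMod p) * t' + 1) * hu), pow_one] at h2
  obtain ⟨i', b', c'', hw'⟩ := hf.of_commute_x (n := (⟨_, hn'⟩ : N))
    (Subtype.ext ((hgx.pow_left μ).inv_left.mul_left hBx).eq)
  have hn'p : ((g' ^ μ)⁻¹ * B g') ^ p = 1 := by
    have h1 : (x ^ i' * l ^ b' * z ^ c'') ^ p = 1 := by
      rw [(((hf.cxz.pow_pow i' c'').mul_left (hf.clz.pow_pow b' c''))).mul_pow, (hf.cxl.pow_pow i' b').mul_pow,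
        ← pow_mul, ← pow_mul, ← pow_mul, mul_comm i', mul_comm b', mul_comm c'', pow_mul, pow_mul, pow_mul,
        hf.xp, hf.lp, hf.zp]
      simp
    rw [← hw'] at h1
    exact congrArg Subtype.val h1
  have hTw : T (⟨g' ^ p, hgpN⟩ : N) = (⟨g' ^ p, hgpN⟩ : N) ^ μ := by
    refine Subtype.ext ?_
    rw [← hB, SubmonoidClass.coe_pow]
    show B (g' ^ p) = (g' ^ p) ^ μ
    have hcn : Commute (g' ^ μ) ((g' ^ μ)⁻¹ * B g') := by
      have h1 := (hgform i' b' c'').pow_left μ
      rw [← hw'] at h1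
      exact h1
    rw [map_pow, show B g' = g' ^ μ * ((g' ^ μ)⁻¹ * B g') by rw [mul_inv_cancel_left], hcn.mul_pow, hn'p,
      mul_one, pow_right_comm]
  have hgp : g' ^ p = 1 := by
    have hc1 : ∀ a a' b b' : ℕ, Commute (x ^ a * l ^ b) (z ^ a') ∧ Commute (x ^ a) (l ^ b') := fun a a' b b' =>
      ⟨(hf.cxz.pow_pow a a').mul_left (hf.clz.pow_pow b a'), hf.cxl.pow_pow a b'⟩
    rw [hw, map_mul, map_mul, map_pow, map_pow, map_pow, hf.tl, hf.tz, hTx, (hc1 _ _ _ 0).1.mul_pow,
      (hc1 _ 0 0 _).2.mul_pow, (hc1 _ _ _ 0).1.mul_pow, (hc1 _ 0 0 _).2.mul_pow, ← pow_mul, ← pow_mul, ← pow_mul,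
      ← pow_mul, ← pow_mul, ← pow_mul, ← pow_mul] at hTw
    have h0 : x ^ (t' * t' * i) * l ^ (b₀ * i) * z ^ (c₀ * i) * l ^ b * z ^ (t' * c') =
        x ^ (t' * t' * i) * l ^ (b₀ * i + b) * z ^ (c₀ * i + t' * c') := by
      rw [mul_assoc _ (z ^ (c₀ * i)), (hf.clz.symm.pow_pow (c₀ * i) b).eq, pow_add, pow_add]
      simp only [mul_assoc]
    rw [h0] at hTw
    obtain ⟨e1, e2, e3⟩ := hf.unique hTw
    push_cast at e1 e2 e3
    rw [hμ'] at e1 e2 e3
    have hi : (i : ZMod p) = 0 := by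
      have : (t' : ZMod p) ^ 2 * ((t' : ZMod p) - 1) * i = 0 := by linear_combination -e1
      rcases mul_eq_zero.1 this with h | h
      · exact absurd (sub_eq_zero.1 ((mul_eq_zero.1 h).resolve_left (pow_ne_zero _ ht0)))
          (fun h1 => ht2' (by rw [h1, one_pow]))
      · exact h
    have hb : (b : ZMod p) = 0 := by
      have : ((t' : ZMod p) ^ 3 - 1) * b = 0 := by linear_combination -e2 + (b₀ : ZMod p) * hi
      exact (mul_eq_zero.1 this).resolve_left (sub_ne_zero.2 ht3')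
    have hc : (c' : ZMod p) = 0 := by
      have : (t' : ZMod p) * ((t' : ZMod p) ^ 2 - 1) * c' = 0 := by linear_combination -e3 + (c₀ : ZMod p) * hi
      rcases mul_eq_zero.1 this with h | h
      · exact absurd ((mul_eq_zero.1 h).resolve_left ht0) (sub_ne_zero.2 ht2')
      · exact h
    have h1 : (⟨g' ^ p, hgpN⟩ : N) = 1 := by
      rw [hw, pow_val_eq hf.xp (m := i) (n := 0) (by simpa using hi), pow_val_eq hf.lp (m := b) (n := 0) (by simpa using hb),
        pow_val_eq hf.zp (m := c') (n := 0) (by simpa using hc)]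
      simp
    exact congrArg Subtype.val h1
  -- the elementary abelian subgroup
  let G₀ : Set Q := {g', (x : Q), (l : Q), (z : Q)}
  set H := Subgroup.closure G₀
  have hcx : ∀ {a b : N}, Commute a b → Commute (a : Q) (b : Q) := fun h => h.map N.subtype
  have h0 : ∀ a ∈ G₀, ∀ b ∈ G₀, Commute a b := by
    rintro a (rfl | rfl | rfl | rfl) b (rfl | rfl | rfl | rfl) <;>
      first
        | exact Commute.refl _
        | exact hgx | exact hgx.symm | exact hgl | exact hgl.symm | exact hgz | exact hgz.symm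
        | exact hcx hf.cxl | exact (hcx hf.cxl).symm | exact hcx hf.cxz | exact (hcx hf.cxz).symm
        | exact hcx hf.clz | exact (hcx hf.clz).symm
  have h1 : ∀ a ∈ H, ∀ b ∈ G₀, Commute a b := fun a ha b hb =>
    Subgroup.mem_centralizer_singleton_iff.1 ((Subgroup.closure_le _).2
      (fun a ha => Subgroup.mem_centralizer_singleton_iff.2 (h0 a ha b hb).eq) ha)
  have h2 : ∀ a ∈ H, ∀ b ∈ H, Commute a b := fun a ha b hb =>
    (show Commute b a from Subgroup.mem_centralizer_singleton_iff.1 ((Subgroup.closure_le _).2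
      (fun b hb => Subgroup.mem_centralizer_singleton_iff.2 (h1 a ha b hb).symm.eq) hb)).symm
  have hexp : ∀ a ∈ H, a ^ p = 1 := by
    intro a ha
    induction ha using Subgroup.closure_induction with
    | mem y hy =>
      rcases hy with rfl | rfl | rfl | rfl
      · exact hgp
      · exact congrArg Subtype.val hf.xp
      · exact congrArg Subtype.val hf.lp
      · exact congrArg Subtype.val hf.zp
    | one => exact one_pow p
    | mul a b ha hb iha ihb => rw [(h2 a ha b hb).mul_pow, iha, ihb, mul_one]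
    | inv a _ ih => rw [inv_pow, ih, inv_one]
  have hsec := card_section_le hsr (K := (⊥ : Subgroup Q)) (H := H) bot_le
    (fun a ha b hb => Subgroup.mem_bot.2 (commutatorElement_eq_one_iff_commute.2 (h2 a ha b hb)))
    (fun a ha => Subgroup.mem_bot.2 (hexp a ha))
  rw [Subgroup.card_bot, mul_one] at hsec
  have hmem : ∀ a ∈ G₀, a ∈ H := fun a ha => Subgroup.subset_closure ha
  let F : ZMod p × ZMod p × ZMod p × ZMod p → H := fun v =>
    ⟨g' ^ v.1.val * ((x ^ v.2.1.val * l ^ v.2.2.1.val * z ^ v.2.2.2.val : N) : Q), by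
      push_cast
      exact H.mul_mem (H.pow_mem (hmem _ (Or.inl rfl)) _) (H.mul_mem (H.mul_mem
        (H.pow_mem (hmem _ (Or.inr (Or.inl rfl))) _) (H.pow_mem (hmem _ (Or.inr (Or.inr (Or.inl rfl)))) _))
        (H.pow_mem (hmem _ (Or.inr (Or.inr (Or.inr rfl)))) _))⟩
  have hF : Function.Injective F := by
    rintro ⟨a, i, b, c⟩ ⟨a', i', b', c'⟩ h
    have h' := congrArg Subtype.val h
    simp only [F] at h'
    have hη' := congrArg η h'
    simp only [map_mul η, map_pow η, hη, mul_one] at hη'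
    have hne : η g' ≠ 1 := fun hh => hg'N ((QuotientGroup.eq_one_iff _).1 hh)
    have haa := val_eq_of_pow (by rw [← map_pow, hgp, map_one]) hne hη'
    rw [ZMod.natCast_zmod_val, ZMod.natCast_zmod_val] at haa
    subst haa
    obtain ⟨e1, e2, e3⟩ := hf.unique (Subtype.ext (mul_left_cancel h'))
    simp only [ZMod.natCast_zmod_val] at e1 e2 e3
    rw [e1, e2, e3]
  have h14 := Nat.card_le_card_of_injective F hF
  simp [Nat.card_prod] at h14
  have h17 : p ^ 3 < p * (p * (p * p)) := by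
    calc p ^ 3 < p ^ 4 := Nat.pow_lt_pow_right hpp.one_lt (by norm_num)
      _ = _ := by ring
  omega

end

end CfsgLib.FusionRankThree
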