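import Cfsg.Agent.Lib.FusionRankThree.BlockCore

/-!
In the transvection case the Frattini subgroup of the essential subgroup is characteristic in its
normalizer.
-/

set_option autoImplicit false
set_option linter.unusedSectionVars false

namespace CfsgLib.FusionRankThree

open scoped commutatorElement

variable {p : ℕ} [Fact p.Prime] {N : Type*} [Group N] [Finite N]

/-- The structure of `N / Φ(E)` in the transvection case. -/
structure TransLayer (E : Subgroup N) [E.Normal] (p : ℕ) (t t' : ℕ) (e l z x : N) (T : MulAut N) : Prop where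
  char : ∀ δ : MulAut N, ∀ w ∈ (frattini E).map E.subtype, δ w ∈ (frattini E).map E.subtype
  he : e ∈ E
  hl : l ∈ E
  hz : z ∈ E
  hx : x ∉ E
  gen : ∀ w ∈ E, ∃ a b c : ℕ, QuotientGroup.mk' ((frattini E).map E.subtype) w =
      QuotientGroup.mk' ((frattini E).map E.subtype) (e ^ a * l ^ b * z ^ c)
  indep : ∀ a b c : ℕ, e ^ a * l ^ b * z ^ c ∈ (frattini E).map E.subtype →
      (a : ZMod p) = 0 ∧ (b : ZMod p) = 0 ∧ (c : ZMod p) = 0
  exp : ∀ n : N, n ^ p ∈ (frattini E).map E.subtype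
  cel : ⁅e, l⁆ ∈ (frattini E).map E.subtype
  cez : ⁅e, z⁆ ∈ (frattini E).map E.subtype
  clz : ⁅l, z⁆ ∈ (frattini E).map E.subtype
  cxl : ⁅x, l⁆ ∈ (frattini E).map E.subtype
  cxz : ⁅x, z⁆ ∈ (frattini E).map E.subtype
  cxe : ⁅x, e⁆⁻¹ * z ∈ (frattini E).map E.subtype
  Te : (T e)⁻¹ * e ^ t ∈ (frattini E).map E.subtype
  Tl : (T l)⁻¹ * l ∈ (frattini E).map E.subtype
  Tz : (T z)⁻¹ * z ^ t' ∈ (frattini E).map E.subtype
  Tx : ∃ b c : ℕ, (T x)⁻¹ * (x ^ (t' * t') * l ^ b * z ^ c) ∈ (frattini E).map E.subtype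

set_option maxHeartbeats 8000000 in
theorem trans_layer (hN : IsPGroup p N) (hp : 5 ≤ p) (hsr : Cfsg.SectionalPRankLE p 3 N) (E : Subgroup N)
    [E.Normal] (hEi : E.index = p) (hidx : (frattini E).index = p ^ 3) {x₀ : N} (hx₀ : x₀ ∉ E)
    {A : Subgroup (MulAut E)} {B : Subgroup (MulAut N)} (hdata : TransData A p (conjOn E x₀))
    (hext : ∀ τ ∈ A, (∃ k : ℕ, ∀ w, fr ((τ * conjOn E x₀ * τ⁻¹) w) = fr (((conjOn E x₀) ^ k) w)) →
      ∃ T : MulAut N, T ∈ B ∧ ∀ w : E, T w = τ w)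
    {t t' : ℕ} (htt : ((t * t' : ℕ) : ZMod p) = 1) (ht2 : (t : ZMod p) ^ 2 ≠ 1) (ht3 : (t : ZMod p) ^ 3 ≠ 1) :
    ∃ e l z x : N, ∃ T : MulAut N, TransLayer E p t t' e l z x T ∧
      T ∈ B := by
  have hpp : p.Prime := Fact.out
  have hp2 : p ≠ 2 := by omega
  have hEp : IsPGroup p E := hN.to_subgroup E
  obtain ⟨e', l', z', hae', hal', haz', hgen', htor⟩ := hdata
  obtain ⟨τ, hτA, hτe, hτl, hτz, hτc⟩ := htor t t' htt
  obtain ⟨T, hTB, hT⟩ := hext τ hτA ⟨t' * t', hτc⟩
  set Φ : Subgroup N := (frattini E).map E.subtype with hΦdef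
  have hΦE : Φ ≤ E := Subgroup.map_subtype_le _
  set e : N := (e' : N) with he_def
  set l : N := (l' : N) with hl_def
  set z : N := (z' : N) with hz_def
  set π := QuotientGroup.mk' Φ with hπdef
  have hπker : ∀ w, π w = 1 ↔ w ∈ Φ := fun w => QuotientGroup.eq_one_iff w
  have hπeq : ∀ v w, π v = π w ↔ v⁻¹ * w ∈ Φ := fun v w => QuotientGroup.eq
  have hxe0 : π (x₀ * e * x₀⁻¹) = π e * π z := by
    rw [← map_mul]; exact mk_eq_of_fr (v := conjOn E x₀ e') (w := e' * z') hae'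
  have hxl0 : π (x₀ * l * x₀⁻¹) = π l := mk_eq_of_fr (v := conjOn E x₀ l') (w := l') hal'
  have hxz0 : π (x₀ * z * x₀⁻¹) = π z := mk_eq_of_fr (v := conjOn E x₀ z') (w := z') haz'
  have hcommE : ∀ a ∈ E, ∀ b ∈ E, ⁅a, b⁆ ∈ Φ := fun a ha b hb =>
    ⟨⁅(⟨a, ha⟩ : E), ⟨b, hb⟩⁆, CfsgLib.PGroup.commutator_le_frattini hEp
      (Subgroup.commutator_mem_commutator (Subgroup.mem_top _) (Subgroup.mem_top _)), by
        simp [commutatorElement_def]⟩
  have hpowE : ∀ a ∈ E, a ^ p ∈ Φ := fun a ha =>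
    ⟨(⟨a, ha⟩ : E) ^ p, CfsgLib.PGroup.pow_mem_frattini hEp _, by simp⟩
  have hEcomm : ∀ a ∈ E, ∀ b ∈ E, Commute (π a) (π b) := fun a ha b hb => by
    rw [← commutatorElement_eq_one_iff_commute, ← map_commutatorElement, hπker]
    exact hcommE a ha b hb
  have hEpow : ∀ a ∈ E, π a ^ p = 1 := fun a ha => by rw [← map_pow, hπker]; exact hpowE a ha
  have hgen : ∀ w ∈ E, ∃ a b c : ℕ, π w = π e ^ a * π l ^ b * π z ^ c := fun w hw => by
    obtain ⟨a, b, c, h⟩ := hgen' ⟨w, hw⟩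
    refine ⟨a, b, c, ?_⟩
    rw [← map_pow, ← map_pow, ← map_pow, ← map_mul, ← map_mul]
    exact mk_eq_of_fr (v := (⟨w, hw⟩ : E)) (w := e' ^ a * l' ^ b * z' ^ c) h
  have hindep : ∀ a b c : ℕ, π e ^ a * π l ^ b * π z ^ c = 1 →
      (a : ZMod p) = 0 ∧ (b : ZMod p) = 0 ∧ (c : ZMod p) = 0 := by
    let f : ZMod p × ZMod p × ZMod p → E ⧸ frattini E :=
      fun t => fr e' ^ t.1.val * fr l' ^ t.2.1.val * fr z' ^ t.2.2.val
    have hexp : ∀ (w : E) (n : ℕ), fr w ^ (n : ZMod p).val = fr w ^ n := fun w n =>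
      pow_val_eq (p := p) (by
        rw [← QuotientGroup.mk_pow, QuotientGroup.eq_one_iff]; exact CfsgLib.PGroup.pow_mem_frattini hEp w)
        (by rw [ZMod.natCast_zmod_val])
    have hsurj : Function.Surjective f := fun q => by
      obtain ⟨w, rfl⟩ := QuotientGroup.mk_surjective q
      obtain ⟨a, b, c, h⟩ := hgen' w
      exact ⟨((a : ZMod p), (b : ZMod p), (c : ZMod p)), by simp only [f, hexp]; exact h.symm⟩
    have hbij : Function.Bijective f := hsurj.bijective_of_nat_card_le (by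
      rw [← Subgroup.index_eq_card, hidx]; simp [Nat.card_prod]; ring_nf; exact le_rfl)
    intro a b c h
    have h1 : fr (e' ^ a * l' ^ b * z' ^ c) = fr 1 :=
      fr_eq_of_mk (by simpa [e, l, z, hπdef, QuotientGroup.mk'_apply] using h)
    have h2 : f ((a : ZMod p), (b : ZMod p), (c : ZMod p)) = f (0, 0, 0) := by
      simp only [f]
      rw [hexp, hexp, hexp]
      simp only [ZMod.val_zero, pow_zero, mul_one, ← QuotientGroup.mk_pow, ← QuotientGroup.mk_mul]
      exact h1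
    have h3 := hbij.1 h2
    simp only [Prod.mk.injEq] at h3
    exact h3
  have hze : π z ≠ 1 := fun h => by
    have := (hindep 0 0 1 (by rw [h]; simp)).2.2
    simp at this
  have htop : ∀ H : Subgroup N, E ≤ H → ∀ n ∈ H, n ∉ E → H = ⊤ := fun H hEH n hnH hn => by
    have h1 := Subgroup.index_dvd_of_le hEH
    rw [hEi] at h1
    rcases (Nat.dvd_prime hpp).1 h1 with h | h
    · exact Subgroup.index_eq_one.1 h
    · exact absurd ((Subgroup.eq_of_le_of_card_ge hEH (by
        have e1 := E.card_mul_index; have e2 := H.card_mul_index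
        rw [hEi] at e1; rw [h] at e2
        exact (Nat.eq_of_mul_eq_mul_right hpp.pos (e2.trans e1.symm)).le)).symm ▸ hnH) hn
  -- `l` and `z` are central modulo `Φ`
  have hcen : ∀ w ∈ E, π (x₀ * w * x₀⁻¹) = π w → ∀ n, Commute (π n) (π w) := by
    intro w hw h n
    have := htop ((Subgroup.centralizer ({π w} : Set (N ⧸ Φ))).comap π)
      (fun a ha => Subgroup.mem_centralizer_singleton_iff.2 (hEcomm a ha w hw).eq) x₀
      (Subgroup.mem_centralizer_singleton_iff.2 (by
        rw [map_mul, map_mul, map_inv, mul_inv_eq_iff_eq_mul] at h; exact h)) hx₀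
    exact Subgroup.mem_centralizer_singleton_iff.1 (this ▸ Subgroup.mem_top n : n ∈ (Subgroup.centralizer _).comap π)
  have hlc := hcen l l'.2 hxl0
  have hzc := hcen z z'.2 hxz0
  have hΦn : ∀ w ∈ Φ, ∀ n, n * w * n⁻¹ ∈ Φ := fun w hw n => (inferInstance : Φ.Normal).conj_mem w hw n
  -- the automorphism `T` modulo `Φ`
  have hTE : ∀ w ∈ E, T w ∈ E := fun w hw => by rw [hT ⟨w, hw⟩]; exact (τ ⟨w, hw⟩).2
  have hTΦ : ∀ w ∈ Φ, T w ∈ Φ := by
    rintro _ ⟨f, hf, rfl⟩
    exact ⟨τ f, aut_mem_frattini τ hf, (hT f).symm⟩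
  have hTeq : ∀ v w, π v = π w → π (T v) = π (T w) := fun v w h => by
    rw [hπeq] at h ⊢; rw [← map_inv, ← map_mul]; exact hTΦ _ h
  have hTe : π (T e) = π e ^ t := by
    rw [hT e', ← map_pow]; exact mk_eq_of_fr (v := τ e') (w := e' ^ t) hτe
  have hTl : π (T l) = π l := by
    rw [hT l']; exact mk_eq_of_fr (v := τ l') (w := l') hτl
  have hTz : π (T z) = π z ^ t' := by
    rw [hT z', ← map_pow]; exact mk_eq_of_fr (v := τ z') (w := z' ^ t') hτz
  obtain ⟨s, hsdef⟩ : ∃ s, s = t' * t' := ⟨_, rfl⟩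
  rw [← hsdef] at hτc
  have hTx0 : (x₀ ^ s)⁻¹ * T x₀ ∈ E := by
    by_contra hn
    set n := (x₀ ^ s)⁻¹ * T x₀ with hndef
    -- `n` centralises `E` modulo `Φ`
    have hcn : ∀ w ∈ E, π (n * w * n⁻¹) = π w := by
      intro w hw
      have h0 := hτc ⟨w, hw⟩
      rw [← map_pow] at h0
      have h1 := mk_eq_of_fr h0
      have h2 : π (T x₀ * w * (T x₀)⁻¹) = π (x₀ ^ s * w * (x₀ ^ s)⁻¹) := by
        refine Eq.trans (congrArg π ?_) h1
        show T x₀ * w * (T x₀)⁻¹ = ((τ (conjOn E x₀ (τ⁻¹ ⟨w, hw⟩)) : E) : N)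
        rw [← hT, MulAut.conjNormal_apply, map_mul, map_mul, map_inv, hT, MulAut.apply_inv_self]
      have h3 : π (n * w * n⁻¹) = (π (x₀ ^ s))⁻¹ * π (T x₀ * w * (T x₀)⁻¹) * π (x₀ ^ s) := by
        rw [hndef]; simp only [map_mul, map_inv, mul_inv_rev, inv_inv, mul_assoc]
      rw [h3, h2, map_mul, map_mul, map_inv]; group
    have := htop ((Subgroup.centralizer ({π e} : Set (N ⧸ Φ))).comap π)
      (fun a ha => Subgroup.mem_centralizer_singleton_iff.2 (hEcomm a ha e e'.2).eq) n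
      (Subgroup.mem_centralizer_singleton_iff.2 (by
        have h := hcn e e'.2
        rw [map_mul, map_mul, map_inv, mul_inv_eq_iff_eq_mul] at h; exact h)) hn
    have h4 : Commute (π x₀) (π e) :=
      Subgroup.mem_centralizer_singleton_iff.1 (this ▸ Subgroup.mem_top x₀ : x₀ ∈ (Subgroup.centralizer _).comap π)
    refine hze ?_
    rw [map_mul, map_mul, map_inv, h4.eq, mul_inv_cancel_right] at hxe0
    exact mul_left_cancel (hxe0.symm.trans (mul_one _).symm)
  obtain ⟨a₀, b₀, c₀, habc⟩ := hgen _ hTx0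
  have htu : (t : ZMod p) ≠ 0 := by
    intro h; rw [Nat.cast_mul, h, zero_mul] at htt; exact zero_ne_one htt
  have ht' : (t' : ZMod p) = (t : ZMod p)⁻¹ := by
    rw [Nat.cast_mul] at htt; exact eq_inv_of_mul_eq_one_right htt
  have hst : (s : ZMod p) - t ≠ 0 := by
    rw [hsdef, Nat.cast_mul, ht', sub_ne_zero]
    intro h
    refine ht3 ?_
    field_simp at h
    linear_combination -h
  obtain ⟨m, hm⟩ : ∃ m : ℕ, (m : ZMod p) = (a₀ : ZMod p) / ((s : ZMod p) - t) :=
    ⟨_, ZMod.natCast_zmod_val _⟩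
  -- the corrected element
  obtain ⟨x, hxdef⟩ : ∃ x, x = x₀ * e ^ m := ⟨_, rfl⟩
  have hx : x ∉ E := fun h => hx₀ (by
    have := E.mul_mem h (E.inv_mem (E.pow_mem e'.2 m))
    rwa [hxdef, mul_inv_cancel_right] at this)
  have hconjx : ∀ w ∈ E, π (x * w * x⁻¹) = π (x₀ * w * x₀⁻¹) := by
    intro w hw
    have h : Commute (π (e ^ m)) (π w) := hEcomm _ (E.pow_mem e'.2 m) w hw
    rw [hxdef]
    calc π (x₀ * e ^ m * w * (x₀ * e ^ m)⁻¹) = π x₀ * (π (e ^ m) * π w) * (π (e ^ m))⁻¹ * (π x₀)⁻¹ := by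
          simp only [map_mul, map_inv, mul_inv_rev, mul_assoc]
      _ = π x₀ * π w * (π x₀)⁻¹ := by rw [h.eq]; simp only [← mul_assoc, mul_inv_cancel_right]
      _ = _ := by simp only [map_mul, map_inv]
  have hxe : π x * π e * (π x)⁻¹ = π e * π z := by
    rw [← hxe0, ← hconjx e e'.2, map_mul, map_mul, map_inv]
  have hze' : ∀ n, Commute (π z) (π n) := fun n => (hzc n).symm
  have hxel : ∀ (i : ℕ), π x * π e ^ i = π e ^ i * π x * π z ^ i := by
    intro i
    have h1 : π x * π e ^ i * (π x)⁻¹ = π e ^ i * π z ^ i := by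
      rw [← conj_pow, hxe, (hze' e).symm.mul_pow]
    rw [mul_inv_eq_iff_eq_mul] at h1
    rw [h1, mul_assoc, mul_assoc, ((hze' x).pow_left i).eq]
  -- everything in `N / Φ` has class two
  have hclass : ∀ a b : N, ∃ k : ℕ, π ⁅a, b⁆ = π z ^ k := by
    have hcm : ∀ a b : N, (∃ k : ℕ, π ⁅a, b⁆ = π z ^ k) ↔ ⁅π a, π b⁆ ∈ Subgroup.zpowers (π z) := fun a b => by
      rw [← map_commutatorElement]
      exact ⟨fun ⟨k, hk⟩ => hk ▸ Subgroup.pow_mem _ (Subgroup.mem_zpowers _) k, fun h => by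
        obtain ⟨k, hk⟩ := (IsOfFinOrder.powers_eq_zpowers (isOfFinOrder_of_finite (π z))).symm.subset h
        exact ⟨k, hk.symm⟩⟩
    have : (Subgroup.zpowers (π z)).Normal := ⟨fun w hw q => by
      obtain ⟨q, rfl⟩ := QuotientGroup.mk'_surjective Φ q
      obtain ⟨k, rfl⟩ := hw
      show π q * π z ^ k * (π q)⁻¹ ∈ _
      rw [((hzc q).zpow_right k).eq, mul_inv_cancel_right]
      exact ⟨k, rfl⟩⟩
    set Z := Subgroup.zpowers (π z)
    set ρ := (QuotientGroup.mk' Z).comp π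
    have hρ : ∀ a b, ⁅π a, π b⁆ ∈ Z ↔ Commute (ρ a) (ρ b) := fun a b => by
      rw [← commutatorElement_eq_one_iff_commute, ← map_commutatorElement ρ]
      show _ ↔ QuotientGroup.mk' Z (π ⁅a, b⁆) = 1
      rw [map_commutatorElement]
      exact (QuotientGroup.eq_one_iff _).symm
    have hxE : ∀ a ∈ E, Commute (ρ x) (ρ a) := fun a ha => by
      obtain ⟨i, j, k, h⟩ := hgen a ha
      have h1 : Commute (ρ x) (ρ e) := by
        rw [← hρ, commutatorElement_def, hxe, (hze' e).symm.eq, mul_inv_cancel_right]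
        exact Subgroup.mem_zpowers _
      have h2 : ρ a = ρ e ^ i * ρ l ^ j * ρ z ^ k := by
        show QuotientGroup.mk' Z (π a) = _
        rw [h, map_mul, map_mul, map_pow, map_pow, map_pow]; rfl
      rw [h2]
      refine ((h1.pow_right i).mul_right (Commute.pow_right ?_ j)).mul_right (Commute.pow_right ?_ k)
      · exact (hlc x).map (QuotientGroup.mk' Z)
      · exact (hzc x).map (QuotientGroup.mk' Z)
    intro a b
    rw [hcm, hρ]
    have hb : ∀ b ∈ E, ∀ a, Commute (ρ a) (ρ b) := fun b hb a => by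
      have := htop ((Subgroup.centralizer {ρ b}).comap ρ)
        (fun a ha => Subgroup.mem_centralizer_singleton_iff.2 ((hEcomm a ha b hb).map (QuotientGroup.mk' Z)).eq) x
        (Subgroup.mem_centralizer_singleton_iff.2 (hxE b hb).eq) hx
      exact Subgroup.mem_centralizer_singleton_iff.1 (this ▸ Subgroup.mem_top a : a ∈ (Subgroup.centralizer _).comap ρ)
    have := htop ((Subgroup.centralizer {ρ a}).comap ρ)
      (fun c hc => Subgroup.mem_centralizer_singleton_iff.2 (hb c hc a).symm.eq) x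
      (Subgroup.mem_centralizer_singleton_iff.2 (by
        have := htop ((Subgroup.centralizer {ρ x}).comap ρ)
          (fun c hc => Subgroup.mem_centralizer_singleton_iff.2 (hb c hc x).symm.eq) x
          (Subgroup.mem_centralizer_singleton_iff.2 rfl) hx
        exact (show Commute (ρ a) (ρ x) from Subgroup.mem_centralizer_singleton_iff.1
          (this ▸ Subgroup.mem_top a : a ∈ (Subgroup.centralizer _).comap ρ)).symm.eq)) hx
    exact (show Commute (ρ b) (ρ a) from Subgroup.mem_centralizer_singleton_iff.1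
      (this ▸ Subgroup.mem_top b : b ∈ (Subgroup.centralizer _).comap ρ)).symm
  have hpadd : ∀ a b : N, π (a * b) ^ p = π a ^ p * π b ^ p := fun a b => by
    obtain ⟨k, hk⟩ := hclass b a
    rw [map_mul]
    refine mul_pow_class_two hp2 (Subgroup.mem_center_iff.2 fun q => ?_) ?_
    · obtain ⟨q, rfl⟩ := QuotientGroup.mk'_surjective Φ q
      rw [← map_commutatorElement, hk]
      exact ((hzc q).pow_right k).eq
    · rw [← map_commutatorElement, hk, ← pow_mul, mul_comm, pow_mul, hEpow z z'.2, one_pow]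
  -- the image of `x` under `T`
  have hTx : ∃ b c : ℕ, π (T x) = π x ^ s * π l ^ b * π z ^ c := by
    have h1 : π (T x) = π x₀ ^ s * (π e ^ (a₀ + t * m) * π l ^ b₀ * π z ^ c₀) := by
      have h0 : π (T x₀) = π x₀ ^ s * (π e ^ a₀ * π l ^ b₀ * π z ^ c₀) := by
        rw [← habc, map_mul, map_inv, map_pow, mul_inv_cancel_left]
      rw [hxdef, map_mul T, map_mul π, h0, map_pow T, map_pow π, hTe, ← pow_mul, pow_add]
      have hc : Commute (π l ^ b₀ * π z ^ c₀) (π e ^ (t * m)) :=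
        ((hlc e).symm.pow_pow _ _).mul_left ((hzc e).symm.pow_pow _ _)
      calc π x₀ ^ s * (π e ^ a₀ * π l ^ b₀ * π z ^ c₀) * π e ^ (t * m)
          = π x₀ ^ s * (π e ^ a₀ * ((π l ^ b₀ * π z ^ c₀) * π e ^ (t * m))) := by simp only [mul_assoc]
        _ = _ := by rw [hc.eq]; simp only [mul_assoc]
    have hx₀e : π x₀ = π x * (π e ^ m)⁻¹ := by rw [hxdef, map_mul, map_pow, mul_inv_cancel_right]
    have hpow : ∀ n : ℕ, ∃ k : ℕ, π x₀ ^ n = π x ^ n * (π e ^ (n * m))⁻¹ * π z ^ k := by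
      intro n
      induction n with
      | zero => exact ⟨0, by simp⟩
      | succ n ih =>
        obtain ⟨k, hk⟩ := ih
        refine ⟨k + n * m, ?_⟩
        have h2 : π x * π e ^ (n * m) = π e ^ (n * m) * π x * π z ^ (n * m) := hxel _
        have h3 : (π e ^ (n * m))⁻¹ * π x = π x * (π e ^ (n * m))⁻¹ * π z ^ (n * m) := by
          rw [inv_mul_eq_iff_eq_mul]
          calc π x = π x * π e ^ (n * m) * (π e ^ (n * m))⁻¹ := by rw [mul_inv_cancel_right]
            _ = π e ^ (n * m) * π x * (π z ^ (n * m) * (π e ^ (n * m))⁻¹) := by rw [h2, mul_assoc]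
            _ = _ := by
              rw [((hze' e).pow_pow (n * m) (n * m)).inv_right.eq]; simp only [mul_assoc]
        rw [pow_succ, hk, hx₀e]
        calc π x ^ n * (π e ^ (n * m))⁻¹ * π z ^ k * (π x * (π e ^ m)⁻¹)
            = π x ^ n * (π e ^ (n * m))⁻¹ * (π z ^ k * π x) * (π e ^ m)⁻¹ := by simp only [mul_assoc]
          _ = π x ^ n * ((π e ^ (n * m))⁻¹ * π x) * (π z ^ k * (π e ^ m)⁻¹) := by
              rw [((hze' x).pow_left k).eq]; simp only [mul_assoc]
          _ = π x ^ n * π x * (π e ^ (n * m))⁻¹ * ((π z ^ (n * m) * π z ^ k) * (π e ^ m)⁻¹) := by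
              rw [h3]; simp only [mul_assoc]
          _ = π x ^ (n + 1) * ((π e ^ (n * m))⁻¹ * (π e ^ m)⁻¹) * π z ^ (k + n * m) := by
              rw [← pow_add, Nat.add_comm (n * m) k, ((hze' e).pow_pow (k + n * m) m).inv_right.eq, pow_succ]
              simp only [mul_assoc]
          _ = _ := by
              rw [← mul_inv_rev, ← pow_add, show m + n * m = (n + 1) * m by ring]
    obtain ⟨k, hk⟩ := hpow s
    refine ⟨b₀, k + c₀, ?_⟩
    have he0 : (π e ^ (s * m))⁻¹ * π e ^ (a₀ + t * m) = 1 := by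
      rw [inv_mul_eq_one]
      refine pow_val_eq (hEpow e e'.2) ?_
      push_cast
      rw [hm, ← sub_eq_zero]
      field_simp
      ring
    rw [h1, hk]
    calc π x ^ s * (π e ^ (s * m))⁻¹ * π z ^ k * (π e ^ (a₀ + t * m) * π l ^ b₀ * π z ^ c₀)
        = π x ^ s * (π e ^ (s * m))⁻¹ * (π z ^ k * π e ^ (a₀ + t * m)) * π l ^ b₀ * π z ^ c₀ := by
          simp only [mul_assoc]
      _ = π x ^ s * ((π e ^ (s * m))⁻¹ * π e ^ (a₀ + t * m)) * (π z ^ k * π l ^ b₀) * π z ^ c₀ := by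
          rw [((hze' e).pow_pow k _).eq]; simp only [mul_assoc]
      _ = _ := by
          rw [he0, ((hze' l).pow_pow k b₀).eq, mul_one, pow_add]; simp only [mul_assoc]
  -- `x ^ p ∈ Φ`
  have hxp : π x ^ p = 1 := by
    have hxpE : x ^ p ∈ E := by
      have := E.pow_index_mem x
      rwa [hEi] at this
    obtain ⟨i, j, k, h⟩ := hgen _ hxpE
    have hi : (i : ZMod p) = 0 := by
      have h1 : π x * π (x ^ p) * (π x)⁻¹ = π (x ^ p) := by rw [map_pow]; group
      rw [h] at h1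
      have h2 : π x * (π e ^ i * π l ^ j * π z ^ k) * (π x)⁻¹ = π e ^ i * π l ^ j * π z ^ k * π z ^ i := by
        rw [mul_inv_eq_iff_eq_mul]
        calc π x * (π e ^ i * π l ^ j * π z ^ k) = π x * π e ^ i * (π l ^ j * π z ^ k) := by simp only [mul_assoc]
          _ = π e ^ i * π x * (π z ^ i * (π l ^ j * π z ^ k)) := by rw [hxel]; simp only [mul_assoc]
          _ = π e ^ i * π x * (π l ^ j * π z ^ k * π z ^ i) := by
              rw [(((hze' l).pow_pow i j).mul_right ((Commute.refl _).pow_pow i k)).eq]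
          _ = π e ^ i * (π x * (π l ^ j * π z ^ k * π z ^ i)) := by simp only [mul_assoc]
          _ = _ := by
              rw [((((hlc x).pow_right j).mul_right ((hzc x).pow_right k)).mul_right ((hzc x).pow_right i)).eq]
              simp only [mul_assoc]
      rw [h2] at h1
      have h3 : π z ^ i = 1 := mul_left_cancel (h1.trans (mul_one _).symm)
      exact (hindep 0 0 i (by rw [pow_zero, pow_zero, h3]; simp)).2.2
    rw [pow_val_eq (hEpow e e'.2) (m := i) (n := 0) (by simpa using hi), pow_zero, one_mul] at h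
    obtain ⟨b, c, hTx⟩ := hTx
    have h4 : π (T (x ^ p)) = π x ^ (s * p) := by
      have hc1 : Commute (π x ^ s * π l ^ b) (π z ^ c) :=
        (((hze' x).symm.pow_left s).mul_left ((hze' l).symm.pow_left b)).pow_right c
      have hc2 : Commute (π x ^ s) (π l ^ b) := ((hlc x).pow_right b).pow_left s
      rw [map_pow T, map_pow π, hTx, hc1.mul_pow, hc2.mul_pow, ← pow_mul (π x), ← pow_mul (π l), ← pow_mul (π z),
        pow_val_eq (hEpow l l'.2) (m := b * p) (n := 0) (by simp),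
        pow_val_eq (hEpow z z'.2) (m := c * p) (n := 0) (by simp), pow_zero, pow_zero, mul_one, mul_one]
    have h5 : π (T (x ^ p)) = π l ^ j * π z ^ (t' * k) := by
      rw [hTeq (x ^ p) (l ^ j * z ^ k) (by rw [h, map_mul, map_pow π l, map_pow π z]), map_mul T, map_mul π,
        map_pow T, map_pow T, map_pow π, map_pow π, hTl, hTz, ← pow_mul]
    have h6 : π x ^ (s * p) = π l ^ (s * j) * π z ^ (s * k) := by
      rw [mul_comm s p, pow_mul, ← map_pow π x, h, ((hlc z).symm.pow_pow j k).mul_pow, ← pow_mul, ← pow_mul,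
        mul_comm j s, mul_comm k s]
    obtain ⟨j', hj'⟩ : ∃ n : ℕ, (n : ZMod p) = -((s * j : ℕ) : ZMod p) := ⟨_, ZMod.natCast_zmod_val _⟩
    obtain ⟨k', hk'⟩ : ∃ n : ℕ, (n : ZMod p) = -((s * k : ℕ) : ZMod p) := ⟨_, ZMod.natCast_zmod_val _⟩
    obtain ⟨-, e1, e2⟩ := hindep 0 (j + j') (t' * k + k') (by
      rw [pow_zero, one_mul, pow_add, pow_add,
        show π l ^ j * π l ^ j' * (π z ^ (t' * k) * π z ^ k') = π l ^ j * π z ^ (t' * k) * (π l ^ j' * π z ^ k') by
          rw [mul_assoc, ← mul_assoc (π l ^ j'), ((hlc z).symm.pow_pow j' (t' * k)).eq]; simp only [mul_assoc],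
        ← h5, h4, h6, mul_assoc, ← mul_assoc (π z ^ (s * k)), ((hlc z).pow_pow (s * k) j').eq, mul_assoc,
        ← pow_add, ← mul_assoc, ← pow_add, pow_val_eq (hEpow l l'.2) (n := 0) (by simp [hj']),
        pow_val_eq (hEpow z z'.2) (n := 0) (by simp [hk']), pow_zero, pow_zero, one_mul])
    rw [Nat.cast_add, hj', Nat.cast_mul, hsdef, Nat.cast_mul] at e1
    rw [Nat.cast_add, hk', Nat.cast_mul, Nat.cast_mul, hsdef, Nat.cast_mul] at e2
    have hj0 : (j : ZMod p) = 0 := by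
      have : ((1 : ZMod p) - t' * t') * j = 0 := by linear_combination e1
      rcases mul_eq_zero.1 this with h0 | h0
      · refine absurd ?_ ht2
        rw [Nat.cast_mul] at htt
        linear_combination ((t : ZMod p) * t' + 1) * htt + (t : ZMod p) ^ 2 * h0
      · exact h0
    have hk0 : (k : ZMod p) = 0 := by
      have : ((t' : ZMod p) - t' * t') * k = 0 := by linear_combination e2
      rcases mul_eq_zero.1 this with h0 | h0
      · refine absurd ?_ ht2
        rw [Nat.cast_mul] at htt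
        have h1 : (t : ZMod p) = 1 := by
          linear_combination (t : ZMod p) ^ 2 * h0 + (1 - (t : ZMod p) + (t : ZMod p) * t') * htt
        rw [h1, one_pow]
      · exact h0
    rw [← map_pow, h, pow_val_eq (hEpow l l'.2) (m := j) (n := 0) (by simpa using hj0),
      pow_val_eq (hEpow z z'.2) (m := k) (n := 0) (by simpa using hk0), pow_zero, pow_zero, one_mul]
  have hexpQ : ∀ n : N, π n ^ p = 1 := by
    let K : Subgroup N :=
      { carrier := {n | π n ^ p = 1}
        one_mem' := by simp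
        mul_mem' := fun {a b} ha hb => by show π (a * b) ^ p = 1; rw [hpadd, ha, hb, mul_one]
        inv_mem' := fun {a} ha => by show π a⁻¹ ^ p = 1; rw [map_inv, inv_pow, ha, inv_one] }
    intro n
    exact (htop K (fun a ha => hEpow a ha) x hxp hx ▸ Subgroup.mem_top n : n ∈ K)
  -- the Frattini subgroup of `N`
  set M : Subgroup N := (Subgroup.zpowers (π z)).comap π with hMdef
  have hΦM : Φ ≤ M := fun w hw => by
    show π w ∈ Subgroup.zpowers (π z)
    rw [(hπker w).2 hw]; exact one_mem _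
  have hzM : z ∈ M := Subgroup.mem_zpowers (π z)
  have hMmem : ∀ w ∈ M, ∃ (c : ℕ) (f : N), f ∈ Φ ∧ w = z ^ c * f := fun w hw => by
    obtain ⟨c, hc⟩ := (IsOfFinOrder.powers_eq_zpowers (isOfFinOrder_of_finite (π z))).symm.subset hw
    exact ⟨c, (z ^ c)⁻¹ * w, (hπker _).1 (by rw [map_mul, map_inv, map_pow]; rw [← (show π z ^ c = π w from hc), inv_mul_cancel]), by group⟩
  have hcM : ∀ a b : N, ⁅a, b⁆ ∈ M := fun a b => by
    obtain ⟨k, hk⟩ := hclass a b
    show π ⁅a, b⁆ ∈ Subgroup.zpowers (π z)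
    rw [hk]; exact Subgroup.pow_mem _ (Subgroup.mem_zpowers _) k
  have hMn : M.Normal := ⟨fun w hw n => by
    have h := M.mul_mem (hcM n w) hw
    rwa [commutatorElement_def, inv_mul_cancel_right] at h⟩
  have hpM : ∀ n : N, n ^ p ∈ M := fun n => hΦM ((hπker _).1 (by rw [map_pow]; exact hexpQ n))
  have hMfr : M = frattini N := by
    refine le_antisymm (fun w hw => ?_) (CfsgLib.PGroup.frattini_le_of_elementary hcM hpM)
    have hfr : Φ ≤ frattini N := CfsgLib.FrattiniEmbed.frattini_map_le E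
    obtain ⟨c, f, hf, rfl⟩ := hMmem w hw
    have hzF : z ∈ frattini N := by
      have h1 : ⁅e⁻¹, x⁆⁻¹ * z ∈ Φ := (hπker _).1 (by
        rw [map_mul, map_inv, map_commutatorElement, map_inv,
          show ⁅(π e)⁻¹, π x⁆ = (π e)⁻¹ * (π x * π e * (π x)⁻¹) by simp only [commutatorElement_def]; group, hxe,
          inv_mul_cancel_left, inv_mul_cancel])
      have h2 : ⁅e⁻¹, x⁆ ∈ frattini N := CfsgLib.PGroup.commutator_le_frattini hN
        (Subgroup.commutator_mem_commutator (Subgroup.mem_top _) (Subgroup.mem_top _))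
      have := (frattini N).mul_mem h2 (hfr h1)
      rwa [mul_inv_cancel_left] at this
    exact (frattini N).mul_mem ((frattini N).pow_mem hzF c) (hfr hf)
  -- the next layer
  let S₁ : Set N := {w | ∃ n : N, w = n ^ p} ∪ {w | ∃ a ∈ M, ∃ n : N, w = ⁅a, n⁆}
  let M₁ : Subgroup N := Subgroup.normalClosure S₁
  have hM₁Φ : M₁ ≤ Φ := by
    refine Subgroup.normalClosure_le_normal ?_
    rintro w (⟨n, rfl⟩ | ⟨a, ha, n, rfl⟩)
    · exact (hπker _).1 (by rw [map_pow]; exact hexpQ n)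
    · obtain ⟨c, f, hf, rfl⟩ := hMmem a ha
      refine (hπker _).1 ?_
      rw [map_commutatorElement, map_mul, (hπker f).2 hf, mul_one, map_pow, commutatorElement_eq_one_iff_commute]
      exact (hze' n).pow_left c
  have hM₁char : ∀ δ : MulAut N, ∀ w ∈ M₁, δ w ∈ M₁ := by
    intro δ w hw
    refine (Subgroup.normalClosure_le_normal (N := M₁.comap δ.toMonoidHom) ?_) hw
    rintro w (⟨n, rfl⟩ | ⟨a, ha, n, rfl⟩)
    · show δ (n ^ p) ∈ M₁
      rw [map_pow]; exact Subgroup.subset_normalClosure (Or.inl ⟨δ n, rfl⟩)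
    · show δ ⁅a, n⁆ ∈ M₁
      rw [map_commutatorElement]
      refine Subgroup.subset_normalClosure (Or.inr ⟨δ a, ?_, δ n, rfl⟩)
      rw [hMfr] at ha ⊢; exact aut_mem_frattini δ ha
  set ν := QuotientGroup.mk' M₁ with hνdef
  have hν : ∀ w, ν w = 1 ↔ w ∈ M₁ := fun w => QuotientGroup.eq_one_iff w
  have hνc : ∀ a ∈ M, ∀ n, Commute (ν a) (ν n) := fun a ha n => by
    rw [← commutatorElement_eq_one_iff_commute, ← map_commutatorElement, hν]
    exact Subgroup.subset_normalClosure (Or.inr ⟨a, ha, n, rfl⟩)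
  have hνp : ∀ n, ν n ^ p = 1 := fun n => by
    rw [← map_pow, hν]; exact Subgroup.subset_normalClosure (Or.inl ⟨n, rfl⟩)
  have hbil : ∀ a b c : N, ν ⁅a * b, c⁆ = ν ⁅a, c⁆ * ν ⁅b, c⁆ := by
    intro a b c
    have h1 : Commute ⁅ν b, ν c⁆ (ν a) := by rw [← map_commutatorElement]; exact hνc _ (hcM b c) a
    have h2 : Commute ⁅ν b, ν c⁆ ⁅ν a, ν c⁆ := by
      rw [← map_commutatorElement, ← map_commutatorElement]; exact hνc _ (hcM b c) _
    rw [map_commutatorElement, map_commutatorElement, map_commutatorElement, ← h2.eq, map_mul]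
    calc ⁅ν a * ν b, ν c⁆ = ν a * ⁅ν b, ν c⁆ * (ν c * (ν a)⁻¹ * (ν c)⁻¹) := by
          simp only [commutatorElement_def, mul_inv_rev (ν a) (ν b)]; group
      _ = _ := by rw [← h1.eq]; simp only [commutatorElement_def]; group
  have hbilp : ∀ (a c : N) (n : ℕ), ν ⁅a ^ n, c⁆ = ν ⁅a, c⁆ ^ n := by
    intro a c n
    induction n with
    | zero => simp
    | succ n ih => rw [pow_succ, hbil, ih, pow_succ]
  have hbil' : ∀ a b c : N, ν ⁅a, b * c⁆ = ν ⁅a, b⁆ * ν ⁅a, c⁆ := fun a b c => by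
    rw [← commutatorElement_inv, map_inv, hbil, mul_inv_rev, ← map_inv, ← map_inv, commutatorElement_inv,
      commutatorElement_inv]
    exact (hνc _ (hcM a c) _).eq
  have hbilM : ∀ a, ∀ m ∈ M, ∀ c, ν ⁅a * m, c⁆ = ν ⁅a, c⁆ := fun a m hm c => by
    rw [hbil, map_commutatorElement ν m c, commutatorElement_eq_one_iff_commute.2 (hνc m hm c), mul_one]
  have hbilM' : ∀ a b, ∀ m ∈ M, ν ⁅a, b * m⁆ = ν ⁅a, b⁆ := fun a b m hm => by
    rw [hbil', map_commutatorElement ν a m, commutatorElement_eq_one_iff_commute.2 (hνc m hm a).symm, mul_one]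
  set w₀ := ν ⁅e, l⁆ with hw₀
  have hw₀p : w₀ ^ p = 1 := by rw [hw₀]; exact hνp _
  -- `Φ` is generated by `[e, l]` modulo `M₁`
  have hΦw : ∀ f ∈ Φ, ∃ k : ℕ, ν f = w₀ ^ k := by
    let Y : Subgroup N := (Subgroup.zpowers w₀).comap ν
    have hM₁Y : M₁ ≤ Y := fun w hw => by
      refine Subgroup.mem_comap.2 ?_
      rw [(hν w).2 hw]; exact one_mem _
    have hEY : ∀ a ∈ E, ∃ (i j : ℕ) (m : N), m ∈ M ∧ a = e ^ i * l ^ j * m := fun a ha => by
      obtain ⟨i, j, k, h⟩ := hgen a ha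
      refine ⟨i, j, (e ^ i * l ^ j)⁻¹ * a, ?_, by group⟩
      show π ((e ^ i * l ^ j)⁻¹ * a) ∈ Subgroup.zpowers (π z)
      rw [map_mul, map_inv, map_mul, map_pow, map_pow, h, inv_mul_cancel_left]
      exact Subgroup.pow_mem _ (Subgroup.mem_zpowers _) k
    have hcY : ∀ a ∈ E, ∀ b ∈ E, ν ⁅a, b⁆ ∈ Subgroup.zpowers w₀ := by
      have h1 : ∀ a ∈ E, ν ⁅a, e⁆ ∈ Subgroup.zpowers w₀ ∧ ν ⁅a, l⁆ ∈ Subgroup.zpowers w₀ := by
        intro a ha
        obtain ⟨i, j, m, hm, rfl⟩ := hEY a ha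
        refine ⟨?_, ?_⟩
        · rw [hbilM _ m hm, hbil, hbilp, hbilp, commutatorElement_self, map_one, one_pow, one_mul,
            ← commutatorElement_inv, map_inv, ← hw₀]
          exact Subgroup.pow_mem _ (inv_mem (Subgroup.mem_zpowers _)) j
        · rw [hbilM _ m hm, hbil, hbilp, hbilp, commutatorElement_self, map_one, one_pow, mul_one, ← hw₀]
          exact Subgroup.pow_mem _ (Subgroup.mem_zpowers _) i
      intro a ha b hb
      obtain ⟨i, j, m, hm, rfl⟩ := hEY b hb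
      rw [hbilM' _ _ m hm, hbil', ← commutatorElement_inv (e ^ i) a, ← commutatorElement_inv (l ^ j) a, map_inv,
        map_inv, hbilp, hbilp, ← commutatorElement_inv a e, ← commutatorElement_inv a l, map_inv, map_inv]
      exact mul_mem (inv_mem (Subgroup.pow_mem _ (inv_mem (h1 a ha).1) i))
        (inv_mem (Subgroup.pow_mem _ (inv_mem (h1 a ha).2) j))
    intro f hf
    obtain ⟨f', hf', rfl⟩ := hf
    have hn : Y.Normal := ⟨fun w hw n => by
      show ν (n * w * n⁻¹) ∈ Subgroup.zpowers w₀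
      obtain ⟨k, hk⟩ := (hw : ν w ∈ Subgroup.zpowers w₀)
      rw [map_mul, map_mul, map_inv, ← hk, ((hνc _ (hcM e l) n).zpow_left k).symm.eq, mul_inv_cancel_right]
      exact ⟨k, rfl⟩⟩
    have h2 := CfsgLib.PGroup.frattini_le_of_elementary (p := p) (N := Y.subgroupOf E)
      (fun a b => by
        refine Subgroup.mem_subgroupOf.2 (Subgroup.mem_comap.2 ?_)
        simpa [commutatorElement_def] using hcY a a.2 b b.2)
      (fun a => by
        refine Subgroup.mem_subgroupOf.2 (Subgroup.mem_comap.2 ?_)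
        rw [SubmonoidClass.coe_pow, map_pow, hνp]; exact one_mem _) hf'
    obtain ⟨k, hk⟩ := (IsOfFinOrder.powers_eq_zpowers (isOfFinOrder_of_finite w₀)).symm.subset
      (h2 : ν (f' : N) ∈ Subgroup.zpowers w₀)
    exact ⟨k, hk.symm⟩
  -- `[e, l]` vanishes
  have hlxΦ : ⁅x, l⁆ ∈ Φ := (hπker _).1 (by
    rw [map_commutatorElement, commutatorElement_eq_one_iff_commute]; exact hlc x)
  have hfeq : ∀ a b : N, π a = π b → ∃ f ∈ Φ, a = b * f := fun a b h =>
    ⟨b⁻¹ * a, (hπeq b a).1 h.symm, by group⟩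
  obtain ⟨fe, hfe, hTe'⟩ := hfeq (T e) (e ^ t) (by rw [hTe, map_pow])
  obtain ⟨fl, hfl, hTl'⟩ := hfeq (T l) l hTl
  obtain ⟨b₁, c₁, hTx1⟩ := hTx
  obtain ⟨fx, hfx, hTx'⟩ := hfeq (T x) (x ^ s * l ^ b₁ * z ^ c₁) (by
    rw [hTx1, map_mul, map_mul, map_pow, map_pow, map_pow])
  have hTν : ∀ a b, ν a = ν b → ν (T a) = ν (T b) := fun a b h => by
    rw [hνdef, QuotientGroup.mk'_apply, QuotientGroup.mk'_apply, QuotientGroup.eq] at h ⊢
    rw [← map_inv, ← map_mul]; exact hM₁char T _ h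
  have hTw : ν (T ⁅e, l⁆) = w₀ ^ t := by
    rw [map_commutatorElement T, hTe', hTl', hbilM _ fe (hΦM hfe), hbilM' _ _ fl (hΦM hfl), hbilp]
  have hTxl : ν (T ⁅x, l⁆) = ν ⁅x, l⁆ ^ s := by
    rw [map_commutatorElement T, hTx', hTl', hbilM _ fx (hΦM hfx), hbilM' _ _ fl (hΦM hfl), hbilM _ _ (M.pow_mem hzM c₁),
      hbil, hbilp, hbilp, commutatorElement_self, map_one, one_pow, mul_one]
  obtain ⟨γ, hγ⟩ := hΦw _ hlxΦ
  have hw1 : w₀ = 1 := by
    by_contra hw
    have hγ0 : (γ : ZMod p) = 0 := by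
      have h1 : ν (T ⁅x, l⁆) = w₀ ^ (t * γ) := by
        rw [hTν ⁅x, l⁆ (⁅e, l⁆ ^ γ) (by rw [hγ, map_pow]), map_pow T, map_pow ν, hTw, ← pow_mul]
      rw [hTxl, hγ, ← pow_mul] at h1
      obtain ⟨n, hn⟩ : ∃ n : ℕ, (n : ZMod p) = -((t * γ : ℕ) : ZMod p) := ⟨_, ZMod.natCast_zmod_val _⟩
      have h2 : w₀ ^ (γ * s + n) = 1 := by
        rw [pow_add, h1, ← pow_add]
        exact (pow_val_eq hw₀p (n := 0) (by simp [hn])).trans (pow_zero _)
      have h3 : ((γ * s + n : ℕ) : ZMod p) = 0 := by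
        by_contra hne
        exact hw (eq_one_of_pow hw₀p hne h2)
      rw [Nat.cast_add, hn, Nat.cast_mul, Nat.cast_mul] at h3
      have h4 : (γ : ZMod p) * ((s : ZMod p) - t) = 0 := by linear_combination h3
      exact (mul_eq_zero.1 h4).resolve_right hst
    rw [pow_val_eq hw₀p (m := γ) (n := 0) (by simpa using hγ0), pow_zero] at hγ
    -- an elementary abelian section of order `p ^ 4`
    let H : Subgroup N := Subgroup.closure ({x, l} ∪ (M : Set N)) ⊔ M₁
    have hM₁H : M₁ ≤ H := le_sup_right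
    have hHc : ∀ a ∈ H, ∀ b ∈ H, Commute (ν a) (ν b) := by
      let G₀ : Set N := {x, l} ∪ (M : Set N)
      have h0 : ∀ a ∈ G₀, ∀ b ∈ G₀, Commute (ν a) (ν b) := by
        have hxl : Commute (ν x) (ν l) := by
          rw [← commutatorElement_eq_one_iff_commute, ← map_commutatorElement]; exact hγ
        rintro a ((rfl | rfl) | ha) b ((rfl | rfl) | hb) <;>
          first
            | exact Commute.refl _
            | exact hxl
            | exact hxl.symm
            | exact hνc _ ha _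
            | exact (hνc _ hb _).symm
      have h1 : ∀ a ∈ H, ∀ b ∈ G₀, Commute (ν a) (ν b) := by
        intro a ha b hb
        have : H ≤ (Subgroup.centralizer {ν b}).comap ν := sup_le ((Subgroup.closure_le _).2 fun a ha =>
          Subgroup.mem_centralizer_singleton_iff.2 (h0 a ha b hb).eq) fun a ha =>
          Subgroup.mem_centralizer_singleton_iff.2 (by rw [(hν a).2 ha]; simp)
        exact Subgroup.mem_centralizer_singleton_iff.1 (this ha)
      intro a ha b hb
      have : H ≤ (Subgroup.centralizer {ν a}).comap ν := sup_le ((Subgroup.closure_le _).2 fun b hb =>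
        Subgroup.mem_centralizer_singleton_iff.2 (h1 a ha b hb).symm.eq) fun b hb =>
        Subgroup.mem_centralizer_singleton_iff.2 (by rw [(hν b).2 hb]; simp)
      exact (show Commute (ν b) (ν a) from Subgroup.mem_centralizer_singleton_iff.1 (this hb)).symm
    have hsec := card_section_le hsr hM₁H
      (fun a ha b hb => (hν _).1 (by rw [map_commutatorElement]; exact commutatorElement_eq_one_iff_commute.2 (hHc a ha b hb)))
      (fun a _ => Subgroup.subset_normalClosure (Or.inl ⟨a, rfl⟩))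
    have hmem : ∀ a ∈ ({x, l} ∪ (M : Set N) : Set N), a ∈ H := fun a ha =>
      Subgroup.mem_sup_left (Subgroup.subset_closure ha)
    have helM : ⁅e, l⁆ ∈ M := hcM e l
    let F : ZMod p × ZMod p × ZMod p × ZMod p → H.map ν := fun q =>
      ⟨ν (x ^ q.1.val * l ^ q.2.1.val * z ^ q.2.2.1.val * ⁅e, l⁆ ^ q.2.2.2.val), _, H.mul_mem (H.mul_mem
        (H.mul_mem (H.pow_mem (hmem x (Or.inl (Or.inl rfl))) _) (H.pow_mem (hmem l (Or.inl (Or.inr rfl))) _))
        (H.pow_mem (hmem z (Or.inr hzM)) _)) (H.pow_mem (hmem _ (Or.inr helM)) _), rfl⟩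
    have hFinj : Function.Injective F := by
      rintro ⟨a, b, c, d⟩ ⟨a', b', c', d'⟩ h
      have h' := congrArg Subtype.val h
      simp only [F] at h'
      rw [hνdef, QuotientGroup.mk'_apply, QuotientGroup.mk'_apply, QuotientGroup.eq] at h'
      have hin := hM₁Φ h'
      have hzl : ∀ i j k m : ℕ, π (x ^ i * l ^ j * z ^ k * ⁅e, l⁆ ^ m) = π x ^ i * (π l ^ j * π z ^ k) := by
        intro i j k m
        rw [map_mul, map_mul, map_mul, map_pow, map_pow, map_pow, map_pow π ⁅e, l⁆, (hπker _).2 (hcommE e e'.2 l l'.2),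
          one_pow, mul_one, mul_assoc]
      have hpi := (hπeq _ _).2 hin
      rw [hzl, hzl] at hpi
      -- modulo `E`
      have ha : a = a' := by
        set ξ := QuotientGroup.mk' E
        have hξ : ∀ w ∈ E, ξ w = 1 := fun w hw => (QuotientGroup.eq_one_iff w).2 hw
        have h5 : ξ (x ^ a.val * l ^ b.val * z ^ c.val * ⁅e, l⁆ ^ d.val) =
            ξ (x ^ a'.val * l ^ b'.val * z ^ c'.val * ⁅e, l⁆ ^ d'.val) := QuotientGroup.eq.2 (hΦE hin)
        simp only [map_mul, map_pow, hξ l l'.2, hξ z z'.2, hξ ⁅e, l⁆ (hΦE (hcommE e e'.2 l l'.2)), one_pow,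
          mul_one] at h5
        obtain ⟨n, hn⟩ : ∃ n : ℕ, (n : ZMod p) = -a' := ⟨_, ZMod.natCast_zmod_val _⟩
        have hξp : ξ x ^ p = 1 := by
          rw [← map_pow]; exact hξ _ (hΦE ((hπker _).1 (by rw [map_pow]; exact hxp)))
        have h6 : ξ x ^ (a.val + n) = 1 := by
          rw [pow_add, h5, ← pow_add]
          exact (pow_val_eq hξp (n := 0) (by simp [hn])).trans (pow_zero _)
        have h7 : ((a.val + n : ℕ) : ZMod p) = 0 := by
          by_contra hne
          exact hx ((QuotientGroup.eq_one_iff x).1 (eq_one_of_pow hξp hne h6))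
        rwa [Nat.cast_add, ZMod.natCast_zmod_val, hn, ← sub_eq_add_neg, sub_eq_zero] at h7
      subst ha
      have hpi2 := mul_left_cancel hpi
      obtain ⟨nb, hnb⟩ : ∃ n : ℕ, (n : ZMod p) = -b' := ⟨_, ZMod.natCast_zmod_val _⟩
      obtain ⟨nc, hnc⟩ : ∃ n : ℕ, (n : ZMod p) = -c' := ⟨_, ZMod.natCast_zmod_val _⟩
      obtain ⟨-, e1, e2⟩ := hindep 0 (b.val + nb) (c.val + nc) (by
        rw [pow_zero, one_mul, pow_add, pow_add, mul_assoc, ← mul_assoc (π l ^ nb),
          ((hlc z).symm.pow_pow nb c.val).eq, mul_assoc, ← mul_assoc (π l ^ b.val), hpi2, mul_assoc,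
          ← mul_assoc (π z ^ c'.val), ((hlc z).pow_pow c'.val nb).eq, mul_assoc, ← pow_add, ← mul_assoc, ← pow_add,
          pow_val_eq (hEpow l l'.2) (n := 0) (by simp [hnb]), pow_val_eq (hEpow z z'.2) (n := 0) (by simp [hnc]),
          pow_zero, pow_zero, one_mul])
      rw [Nat.cast_add, ZMod.natCast_zmod_val, hnb, ← sub_eq_add_neg, sub_eq_zero] at e1
      rw [Nat.cast_add, ZMod.natCast_zmod_val, hnc, ← sub_eq_add_neg, sub_eq_zero] at e2
      subst e1 e2
      have h10 := congrArg Subtype.val h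
      simp only [F, map_mul] at h10
      have h11 := mul_left_cancel h10
      rw [map_pow, map_pow] at h11
      obtain ⟨nd, hnd⟩ : ∃ n : ℕ, (n : ZMod p) = -d' := ⟨_, ZMod.natCast_zmod_val _⟩
      have h12 : w₀ ^ (d.val + nd) = 1 := by
        rw [pow_add, show w₀ ^ d.val = w₀ ^ d'.val from h11, ← pow_add]
        exact (pow_val_eq hw₀p (n := 0) (by simp [hnd])).trans (pow_zero _)
      have h13 : ((d.val + nd : ℕ) : ZMod p) = 0 := by
        by_contra hne
        exact hw (eq_one_of_pow hw₀p hne h12)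
      rw [Nat.cast_add, ZMod.natCast_zmod_val, hnd, ← sub_eq_add_neg, sub_eq_zero] at h13
      rw [h13]
    have h14 := Nat.card_le_card_of_injective F hFinj
    have h15 : Nat.card H = Nat.card (H.map ν) * Nat.card M₁ := by
      rw [← Subgroup.relIndex_ker, hνdef, QuotientGroup.ker_mk', ← (M₁.subgroupOf H).index_mul_card,
        Nat.card_congr (Subgroup.subgroupOfEquivOfLe hM₁H).toEquiv]
      rfl
    rw [h15] at hsec
    have h16 := Nat.le_of_mul_le_mul_right hsec Nat.card_pos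
    simp [Nat.card_prod] at h14
    have h18 := h14.trans h16
    have h17 : p ^ 3 < p * (p * (p * p)) := by
      calc p ^ 3 < p ^ 4 := Nat.pow_lt_pow_right hpp.one_lt (by norm_num)
        _ = _ := by ring
    omega
  have hΦM₁ : Φ ≤ M₁ := fun f hf => by
    obtain ⟨k, hk⟩ := hΦw f hf
    rw [← hν, hk, hw1, one_pow]
  have hpiΦ : ∀ a b, π a = π b → a⁻¹ * b ∈ Φ := fun a b => (hπeq a b).1
  refine ⟨e, l, z, x, T, ⟨fun δ w hw => hM₁Φ (hM₁char δ w (hΦM₁ hw)), e'.2, l'.2, z'.2, hx, ?_, ?_,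
    fun n => (hπker _).1 (by rw [map_pow]; exact hexpQ n), hcommE e e'.2 l l'.2, hcommE e e'.2 z z'.2,
    hcommE l l'.2 z z'.2, hlxΦ, ?_, ?_, hpiΦ _ _ (by rw [hTe, map_pow]), hpiΦ _ _ hTl,
    hpiΦ _ _ (by rw [hTz, map_pow]), ⟨b₁, c₁, hpiΦ _ _ (by rw [hTx1, hsdef, map_mul, map_mul, map_pow, map_pow, map_pow])⟩⟩,
    hTB⟩
  · intro w hw
    obtain ⟨a, b, c, h⟩ := hgen w hw
    exact ⟨a, b, c, by rw [map_mul, map_mul, map_pow, map_pow, map_pow]; exact h⟩
  · intro a b c h
    refine hindep a b c ?_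
    rw [← map_pow, ← map_pow, ← map_pow, ← map_mul, ← map_mul]
    exact (hπker _).2 h
  · exact (hπker _).1 (by rw [map_commutatorElement, commutatorElement_eq_one_iff_commute]; exact hzc x)
  · exact (hπker _).1 (by
      rw [map_mul, map_inv, map_commutatorElement, commutatorElement_def, hxe, (hze' e).symm.eq,
        mul_inv_cancel_right, inv_mul_cancel])

end CfsgLib.FusionRankThree
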