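import Cfsg.Agent.Lib.FusionRankThree.TransFixed
import Cfsg.Agent.Lib.Fusion.PGroupSeries

/-!
Reduction to the case where the line of `x` is fixed.
-/

set_option autoImplicit false
set_option linter.unusedSectionVars false

namespace CfsgLib.FusionRankThree

open scoped commutatorElement

variable {p : ℕ} [Fact p.Prime]

section

variable {Q : Type*} [Group Q] [Finite Q] {N : Subgroup Q} [N.Normal] {𝒜 : Subgroup (MulAut N)}
variable {t t' : ℕ} {e x l z : N} {T : MulAut N}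

set_option maxHeartbeats 2000000 in
/-- The normal subgroup has no proper extension preserving the situation. -/
theorem trans_top (hQ : IsPGroup p Q) (hsr : Cfsg.SectionalPRankLE p 3 Q) (K : Subgroup N)
    (hf : Frame p t t' e x l z T) (heK : e ∈ K) (hlK : l ∈ K) (hzK : z ∈ K) (hxK : x ∉ K)
    (conj_mem : ∀ q : Q, (MulAut.conjNormal q : MulAut N) ∈ 𝒜)
    (sylow : ∀ H : Subgroup (MulAut N), H ≤ 𝒜 → IsPGroup p H →
      (MulAut.conjNormal : Q →* MulAut N).range ≤ H → H = (MulAut.conjNormal : Q →* MulAut N).range)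
    (ext : ∀ α ∈ 𝒜, (∀ q : Q, α * MulAut.conjNormal q * α⁻¹ ∈ (MulAut.conjNormal : Q →* MulAut N).range) →
      ∃ B : MulAut Q, ∀ n : N, B n = α n)
    (mem : T ∈ 𝒜) (unit : ((t * t' : ℕ) : ZMod p) = 1) (ne2 : (t : ZMod p) ^ 2 ≠ 1)
    (ne3 : (t : ZMod p) ^ 3 ≠ 1) (ne5 : (t : ZMod p) ^ 5 ≠ 1)
    (hEstab : ∀ q : Q, (∀ n ∈ K, (MulAut.conjNormal q : MulAut N) n ∈ K) → q ∈ N) {g : Q} (hg : g ∉ N) :
    False := by
  have hpp : p.Prime := Fact.out
  set C := Subgroup.center N with hC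
  set ρ := QuotientGroup.mk' C with hρ
  have hρc : ∀ c ∈ C, ρ c = 1 := fun c hc => (QuotientGroup.eq_one_iff c).2 hc
  have hCK : C ≤ K := fun c hc => by
    obtain ⟨b, c', rfl⟩ := (hf.mem_center_iff c).1 hc
    exact K.mul_mem (K.pow_mem hlK b) (K.pow_mem hzK c')
  have hρeq : ∀ {a b : N}, ρ a = ρ b ↔ a⁻¹ * b ∈ C := fun {a b} => QuotientGroup.eq
  have triv : ∀ q : Q, (∀ n : N, n⁻¹ * (MulAut.conjNormal q : MulAut N) n ∈ Subgroup.center N) → q ∈ N :=
    fun q hq => hEstab q fun n hn => by simpa using K.mul_mem hn (hCK (hq n))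
  have hD : TopData p N 𝒜 t t' e x l z T := ⟨hf, conj_mem, sylow, ext, mem, unit, ne2, ne3, ne5, triv⟩
  -- the elements fixed modulo the centre
  let Fix : Subgroup N :=
    { carrier := {n | ∀ q : Q, ρ ((MulAut.conjNormal q : MulAut N) n) = ρ n}
      one_mem' := fun q => by rw [map_one]
      mul_mem' := fun {a b} ha hb q => by rw [map_mul (MulAut.conjNormal q : MulAut N), map_mul, map_mul, ha q, hb q]
      inv_mem' := fun {a} ha q => by rw [map_inv (MulAut.conjNormal q : MulAut N), map_inv, map_inv, ha q] }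
  have hFix : ∀ {a b : N}, a ∈ Fix → ρ a = ρ b → b ∈ Fix := fun {a b} ha h q => by
    rw [← h, ← ha q]; exact (mk_center_congr _ h).symm
  have hFx : ∀ {n : N}, n ∈ Fix → ∀ q : Q, n⁻¹ * (MulAut.conjNormal q : MulAut N) n ∈ C := fun hn q =>
    hρeq.1 (hn q).symm
  have hρxp : ρ x ^ p = 1 := by rw [← map_pow, hf.xp, map_one]
  have hρep : ρ e ^ p = 1 := by rw [← map_pow, hf.ep, map_one]
  have hcomm : Commute (ρ x) (ρ e) := by
    rw [← commutatorElement_eq_one_iff_commute, ← map_commutatorElement, hf.commutator_xe]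
    exact hρc _ hf.z_mem
  have hρgen : ∀ n : N, ∃ i a : ℕ, ρ n = ρ x ^ i * ρ e ^ a := fun n => by
    obtain ⟨i, a, b, c, rfl⟩ := hf.gen n
    refine ⟨i, a, ?_⟩
    rw [mul_assoc _ (l ^ b), map_mul, hρc _ ((hf.mem_center_iff _).2 ⟨b, c, rfl⟩), mul_one, map_mul, map_pow, map_pow]
  have hρind : ∀ i a : ℕ, ρ x ^ i * ρ e ^ a = 1 → (i : ZMod p) = 0 ∧ (a : ZMod p) = 0 := fun i a h => by
    have h1 : x ^ i * e ^ a ∈ C := (QuotientGroup.eq_one_iff _).1 (by
      show ρ (x ^ i * e ^ a) = 1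
      rw [map_mul, map_pow, map_pow]; exact h)
    obtain ⟨b, c, hbc⟩ := (hf.mem_center_iff _).1 h1
    obtain ⟨nb, hnb⟩ : ∃ m : ℕ, (m : ZMod p) = -(b : ZMod p) := ⟨_, ZMod.natCast_zmod_val _⟩
    obtain ⟨nc, hnc⟩ : ∃ m : ℕ, (m : ZMod p) = -(c : ZMod p) := ⟨_, ZMod.natCast_zmod_val _⟩
    obtain ⟨e1, e2, -⟩ := hf.indep i a nb nc (by
      rw [hbc, mul_assoc (l ^ b) (z ^ c), (hf.clz.symm.pow_pow c nb).eq, ← mul_assoc (l ^ b), ← pow_add,
        mul_assoc, ← pow_add, pow_val_eq hf.lp (n := 0) (by simp [hnb]),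
        pow_val_eq hf.zp (n := 0) (by simp [hnc]), pow_zero, pow_zero, one_mul])
    exact ⟨e1, e2⟩
  have hNp : IsPGroup p N := hQ.to_subgroup N
  have hCtop : C ≠ ⊤ := fun h => hxK (hCK (h ▸ Subgroup.mem_top x))
  obtain ⟨n₀, hn₀, hfix₀⟩ := CfsgLib.Fusion.exists_fixed_coset hNp
    (A := (MulAut.conjNormal : Q →* MulAut N).range) (by
      rintro ⟨_, q, rfl⟩
      obtain ⟨k, hk⟩ := hQ q
      exact ⟨k, Subtype.ext (by show (MulAut.conjNormal q : MulAut N) ^ p ^ k = 1; rw [← map_pow, hk, map_one])⟩)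
    (Z := C) (fun α _ w hw => center_invariant α hw) hCtop
  have hn₀F : n₀ ∈ Fix := fun q => (hρeq.2 (hfix₀ _ ⟨q, rfl⟩)).symm
  obtain ⟨i, a, hia⟩ := hρgen n₀
  by_cases hi : (i : ZMod p) = 0
  · -- the line of `e` is fixed
    have ha : (a : ZMod p) ≠ 0 := fun ha => hn₀ ((QuotientGroup.eq_one_iff _).1 (by
      show ρ n₀ = 1
      rw [hia, pow_val_eq hρxp (m := i) (n := 0) (by simpa using hi),
        pow_val_eq hρep (m := a) (n := 0) (by simpa using ha)]
      simp))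
    obtain ⟨r, hr⟩ : ∃ r : ℕ, (r : ZMod p) = (a : ZMod p)⁻¹ := ⟨_, ZMod.natCast_zmod_val _⟩
    have heF : e ∈ Fix := hFix (Fix.pow_mem hn₀F r) (by
      rw [map_pow, hia, pow_val_eq hρxp (m := i) (n := 0) (by simpa using hi), pow_zero, one_mul, ← pow_mul,
        pow_val_eq hρep (m := a * r) (n := 1) (by rw [Nat.cast_mul, hr, mul_inv_cancel₀ ha, Nat.cast_one]), pow_one])
    refine hg (hEstab g fun n hn => ?_)
    obtain ⟨i', a', b', c', rfl⟩ := hf.gen n
    have hc : l ^ b' * z ^ c' ∈ C := (hf.mem_center_iff _).2 ⟨_, _, rfl⟩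
    rw [mul_assoc _ (l ^ b')] at hn ⊢
    have hi' : (i' : ZMod p) = 0 := by
      by_contra hne
      obtain ⟨r', hr'⟩ : ∃ r : ℕ, (r : ZMod p) = (i' : ZMod p)⁻¹ := ⟨_, ZMod.natCast_zmod_val _⟩
      have h1 := K.pow_mem ((K.mul_mem_cancel_right (K.pow_mem heK a')).1 ((K.mul_mem_cancel_right (hCK hc)).1 hn)) r'
      rw [← pow_mul, pow_val_eq hf.xp (m := i' * r') (n := 1)
        (by rw [Nat.cast_mul, hr', mul_inv_cancel₀ hne, Nat.cast_one]), pow_one] at h1
      exact hxK h1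
    rw [pow_val_eq hf.xp (m := i') (n := 0) (by simpa using hi'), pow_zero, one_mul, map_mul, map_pow]
    have h2 : (MulAut.conjNormal g : MulAut N) e ∈ K := by simpa using K.mul_mem heK (hCK (hFx heF g))
    exact K.mul_mem (K.pow_mem h2 a') (hCK (center_invariant _ hc))
  obtain ⟨r₀, hr₀⟩ : ∃ r : ℕ, (r : ZMod p) = (i : ZMod p)⁻¹ := ⟨_, ZMod.natCast_zmod_val _⟩
  obtain ⟨j, hjdef⟩ : ∃ j, j = a * r₀ := ⟨_, rfl⟩
  have hxjF : x * e ^ j ∈ Fix := hFix (Fix.pow_mem hn₀F r₀) (by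
    rw [map_pow, hia, (hcomm.pow_pow i a).mul_pow, ← pow_mul, ← pow_mul, ← hjdef, map_mul, map_pow,
      pow_val_eq hρxp (m := i * r₀) (n := 1) (by rw [Nat.cast_mul, hr₀, mul_inv_cancel₀ hi, Nat.cast_one]), pow_one])
  by_cases hj : (j : ZMod p) = 0
  · refine trans_fixed hQ hsr hD (fun q => hFx ?_ q) hg
    rwa [pow_val_eq hf.ep (m := j) (n := 0) (by simpa using hj), pow_zero, mul_one] at hxjF
  -- the basis `x`, `w` of `N` modulo the centre
  set X := ρ x with hX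
  set W := X * ρ e ^ j with hW
  have hXW : Commute X W := (Commute.refl X).mul_right (hcomm.pow_right j)
  have hWp : W ^ p = 1 := by
    rw [hW, (hcomm.pow_right j).mul_pow, hρxp, ← pow_mul, mul_comm, pow_mul, hρep, one_pow, mul_one]
  have hWF : ∀ q : Q, ρ ((MulAut.conjNormal q : MulAut N) (x * e ^ j)) = W := fun q => by
    rw [hxjF q, map_mul, map_pow]
  have hind : ∀ A B : ℕ, X ^ A * W ^ B = 1 → (A : ZMod p) = 0 ∧ (B : ZMod p) = 0 := fun A B h => by
    rw [hW, (hcomm.pow_right j).mul_pow, ← mul_assoc, ← pow_add, ← pow_mul] at h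
    obtain ⟨e1, e2⟩ := hρind _ _ h
    rw [Nat.cast_mul] at e2
    have hB := (mul_eq_zero.1 e2).resolve_left hj
    rw [Nat.cast_add, hB, add_zero] at e1
    exact ⟨e1, hB⟩
  -- conjugation is unipotent
  have hunip : ∀ q : Q, ∃ r : ℕ, ρ ((MulAut.conjNormal q : MulAut N) x) = X * W ^ r := by
    intro q
    obtain ⟨A, B, hAB⟩ : ∃ A B : ℕ, ρ ((MulAut.conjNormal q : MulAut N) x) = X ^ A * W ^ B := by
      obtain ⟨i', a', h⟩ := hρgen ((MulAut.conjNormal q : MulAut N) x)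
      obtain ⟨B, hB⟩ : ∃ B : ℕ, (B : ZMod p) = (a' : ZMod p) / j := ⟨_, ZMod.natCast_zmod_val _⟩
      obtain ⟨A, hA⟩ : ∃ A : ℕ, (A : ZMod p) = (i' : ZMod p) - B := ⟨_, ZMod.natCast_zmod_val _⟩
      refine ⟨A, B, ?_⟩
      rw [h, hW, (hcomm.pow_right j).mul_pow, ← mul_assoc, ← pow_add, ← pow_mul,
        pow_val_eq hρxp (m := A + B) (n := i') (by rw [Nat.cast_add, hA, sub_add_cancel]),
        pow_val_eq hρep (m := j * B) (n := a') (by rw [Nat.cast_mul, hB, mul_div_cancel₀ _ hj])]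
    have hpow : ∀ n : ℕ, ∃ B' : ℕ, ρ ((MulAut.conjNormal (q ^ n) : MulAut N) x) = X ^ (A ^ n) * W ^ B' := by
      intro n
      induction n with
      | zero => exact ⟨0, by simp [hX]⟩
      | succ n ih =>
        obtain ⟨B', hB'⟩ := ih
        refine ⟨B' * A + B, ?_⟩
        have h1 : ρ ((MulAut.conjNormal q : MulAut N) x) = ρ (x ^ A * (x * e ^ j) ^ B) := by
          rw [hAB, hW, hX]; simp only [map_mul, map_pow]
        rw [pow_succ q, map_mul, MulAut.mul_apply, mk_center_congr _ h1,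
          map_mul (MulAut.conjNormal (q ^ n) : MulAut N), map_pow (MulAut.conjNormal (q ^ n) : MulAut N),
          map_pow (MulAut.conjNormal (q ^ n) : MulAut N), map_mul ρ, map_pow ρ, map_pow ρ, hB', hWF,
          (hXW.pow_pow _ _).mul_pow, ← pow_mul, ← pow_mul, mul_assoc, ← pow_add, pow_succ A]
    obtain ⟨k, hk⟩ := hQ q
    obtain ⟨B', hB'⟩ := hpow (p ^ k)
    rw [hk, map_one, MulAut.one_apply] at hB'
    obtain ⟨m, hm⟩ : ∃ m : ℕ, (m : ZMod p) = -1 := ⟨_, ZMod.natCast_zmod_val _⟩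
    have h2 : X ^ (m + A ^ p ^ k) * W ^ B' = 1 := by
      rw [pow_add, mul_assoc, ← hB', hX, ← pow_succ]
      exact (pow_val_eq hρxp (n := 0) (by simp [hm])).trans (pow_zero _)
    have h3 := (hind _ _ h2).1
    rw [Nat.cast_add, hm, Nat.cast_pow, ZMod.pow_card_pow, neg_add_eq_zero] at h3
    exact ⟨B, by rw [hAB, pow_val_eq hρxp (m := A) (n := 1) (by rw [← h3, Nat.cast_one]), pow_one]⟩
  obtain ⟨r, hr⟩ := hunip g
  have hpow : ∀ n : ℕ, ρ ((MulAut.conjNormal (g ^ n) : MulAut N) x) = X * W ^ (n * r) := by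
    intro n
    induction n with
    | zero => simp [hX]
    | succ n ih =>
      have h1 : ρ ((MulAut.conjNormal g : MulAut N) x) = ρ (x * (x * e ^ j) ^ r) := by
        rw [hr, hW, hX]; simp only [map_mul, map_pow]
      rw [pow_succ g, map_mul, MulAut.mul_apply, mk_center_congr _ h1,
        map_mul (MulAut.conjNormal (g ^ n) : MulAut N), map_pow (MulAut.conjNormal (g ^ n) : MulAut N),
        map_mul ρ, map_pow ρ, ih, hWF, mul_assoc, ← pow_add, Nat.succ_mul]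
  have hr0 : (r : ZMod p) ≠ 0 := by
    intro h0
    rw [pow_val_eq hWp (m := r) (n := 0) (by simpa using h0), pow_zero, mul_one] at hr
    obtain ⟨rj, hrj⟩ : ∃ m : ℕ, (m : ZMod p) = (j : ZMod p)⁻¹ := ⟨_, ZMod.natCast_zmod_val _⟩
    set χ := (MulAut.conjNormal g : MulAut N)
    have hej : ρ (χ e) ^ j = ρ e ^ j := by
      have h1 := hWF g
      rw [map_mul χ, map_mul ρ, hr, map_pow χ, map_pow ρ] at h1
      exact mul_left_cancel h1
    have hee : ρ (χ e) = ρ e := by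
      have hp1 : ρ (χ e) ^ p = 1 := by rw [← map_pow, ← map_pow, hf.ep, map_one, map_one]
      have h2 := congrArg (fun w => w ^ rj) hej
      simp only [← pow_mul] at h2
      rw [pow_val_eq hp1 (m := j * rj) (n := 1) (by rw [Nat.cast_mul, hrj, mul_inv_cancel₀ hj, Nat.cast_one]),
        pow_val_eq hρep (m := j * rj) (n := 1) (by rw [Nat.cast_mul, hrj, mul_inv_cancel₀ hj, Nat.cast_one]),
        pow_one, pow_one] at h2
      exact h2
    refine hg (triv g fun n => hρeq.1 (Eq.symm (hf.hom_ext (f := ρ.comp χ.toMonoidHom) (f' := ρ) hr hee ?_ ?_ n)))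
    · exact (hρc _ (center_invariant χ hf.l_mem)).trans (hρc _ hf.l_mem).symm
    · exact (hρc _ (center_invariant χ hf.z_mem)).trans (hρc _ hf.z_mem).symm
  -- move the fixed line to that of `x`
  obtain ⟨b₀, c₀, hTx⟩ := hf.tx
  obtain ⟨s, hs⟩ : ∃ s, s = t' * t' := ⟨_, rfl⟩
  rw [← hs] at hTx
  have hu : (t : ZMod p) * t' = 1 := by rw [← Nat.cast_mul, unit]
  have hts : (t : ZMod p) - s ≠ 0 := fun h => ne3 (by
    rw [hs, Nat.cast_mul] at h
    linear_combination (t : ZMod p) ^ 2 * h + ((t : ZMod p) * t' + 1) * hu)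
  obtain ⟨m, hm⟩ : ∃ m : ℕ, (m : ZMod p) = (s : ZMod p) / ((r : ZMod p) * ((t : ZMod p) - s)) :=
    ⟨_, ZMod.natCast_zmod_val _⟩
  obtain ⟨γ, hγ⟩ : ∃ γ, γ = T * (MulAut.conjNormal (g ^ m) : MulAut N) * T⁻¹ := ⟨_, rfl⟩
  have hγA : γ ∈ 𝒜 := hγ ▸ 𝒜.mul_mem (𝒜.mul_mem mem (conj_mem _)) (𝒜.inv_mem mem)
  have hw₀ : l ^ b₀ * z ^ c₀ ∈ C := (hf.mem_center_iff _).2 ⟨_, _, rfl⟩
  have hγx : ρ (γ x) ^ s = X ^ (s + s * (m * r)) * ρ e ^ (t * j * (m * r)) := by
    have h1 : ρ ((MulAut.conjNormal (g ^ m) : MulAut N) x) = ρ (x * (x * e ^ j) ^ (m * r)) := by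
      rw [hpow, hW, hX]; simp only [map_mul, map_pow]
    have h2 : ρ (γ (T x)) = ρ (T (x * (x * e ^ j) ^ (m * r))) := by
      rw [hγ, MulAut.mul_apply, MulAut.mul_apply, MulAut.inv_apply_self]
      exact mk_center_congr T h1
    have h3 : ρ (T x) = X ^ s := by
      rw [hTx, mul_assoc, map_mul, hρc _ hw₀, mul_one, map_pow]
    rw [show γ (T x) = γ (x ^ s) * γ (l ^ b₀ * z ^ c₀) by rw [← map_mul, ← mul_assoc, ← hTx], map_mul ρ,
      hρc _ (center_invariant γ hw₀), mul_one, map_pow γ, map_pow ρ] at h2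
    rw [h2, map_mul T, map_mul ρ, map_pow T, map_pow ρ, map_mul T, map_mul ρ, map_pow T, map_pow ρ, hf.te, h3,
      map_pow ρ, ← pow_mul, ((hcomm.pow_pow s (t * j)).mul_pow), ← mul_assoc, ← pow_mul, ← pow_add, ← pow_mul]
  obtain ⟨v, hv⟩ : ∃ v : ℕ, (v : ZMod p) = (s : ZMod p) + (s * (m * r) : ℕ) := ⟨_, ZMod.natCast_zmod_val _⟩
  have hγW : ρ (γ x) ^ s = W ^ v := by
    rw [hγx, hW, (hcomm.pow_right j).mul_pow, ← pow_mul, pow_val_eq hρxp (m := v) (n := s + s * (m * r))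
      (by rw [hv, Nat.cast_add]), pow_val_eq hρep (m := j * v) (n := t * j * (m * r)) (by
        push_cast
        rw [hv]
        push_cast
        rw [hm]
        field_simp
        ring)]
  have hγxF : γ x ∈ Fix := by
    refine hFix (Fix.pow_mem hxjF (v * (t * t))) ?_
    have hγp : ρ (γ x) ^ p = 1 := by rw [← map_pow, ← map_pow, hf.xp, map_one, map_one]
    rw [map_pow, map_mul, map_pow, ← hX, ← hW, pow_mul, ← hγW, ← pow_mul, pow_val_eq hγp (m := s * (t * t)) (n := 1)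
      (by rw [hs]; push_cast; linear_combination ((t : ZMod p) * t' + 1) * hu), pow_one]
  exact trans_fixed hQ hsr (hD.map hγA) (fun q => hFx hγxF q) hg

end

end CfsgLib.FusionRankThree
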