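import Cfsg.Agent.Lib.FusionRankThree.TransLayer

/-!
The extension of the normalizer in the transvection case has an elementary abelian section of order `p ^ 4`.
-/

set_option autoImplicit false
set_option linter.unusedSectionVars false

namespace CfsgLib.FusionRankThree

open scoped commutatorElement

variable {p : ℕ} [Fact p.Prime]

/-- The group `p^{1+2} × p` with an automorphism acting as a torus. -/
structure Frame {N : Type*} [Group N] (p t t' : ℕ) (e x l z : N) (T : MulAut N) : Prop where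
  ep : e ^ p = 1
  xp : x ^ p = 1
  lp : l ^ p = 1
  zp : z ^ p = 1
  cel : Commute e l
  cez : Commute e z
  cxl : Commute x l
  cxz : Commute x z
  clz : Commute l z
  xe : x * e * x⁻¹ = e * z
  gen : ∀ n : N, ∃ i a b c : ℕ, n = x ^ i * e ^ a * l ^ b * z ^ c
  indep : ∀ i a b c : ℕ, x ^ i * e ^ a * l ^ b * z ^ c = 1 →
    (i : ZMod p) = 0 ∧ (a : ZMod p) = 0 ∧ (b : ZMod p) = 0 ∧ (c : ZMod p) = 0
  te : T e = e ^ t
  tl : T l = l
  tz : T z = z ^ t'
  tx : ∃ b c : ℕ, T x = x ^ (t' * t') * l ^ b * z ^ c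

namespace Frame

variable {N : Type*} [Group N] {t t' : ℕ} {e x l z : N} {T : MulAut N}

theorem map (h : Frame p t t' e x l z T) (γ : MulAut N) :
    Frame p t t' (γ e) (γ x) (γ l) (γ z) (γ * T * γ⁻¹) where
  ep := by rw [← map_pow, h.ep, map_one]
  xp := by rw [← map_pow, h.xp, map_one]
  lp := by rw [← map_pow, h.lp, map_one]
  zp := by rw [← map_pow, h.zp, map_one]
  cel := h.cel.map γ
  cez := h.cez.map γ
  cxl := h.cxl.map γ
  cxz := h.cxz.map γ
  clz := h.clz.map γ
  xe := by rw [← map_mul, ← map_inv, ← map_mul, h.xe, map_mul]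
  gen n := by
    obtain ⟨i, a, b, c, hn⟩ := h.gen (γ⁻¹ n)
    exact ⟨i, a, b, c, by rw [← MulAut.apply_inv_self _ γ n, hn]; simp only [map_mul, map_pow]⟩
  indep i a b c hh := h.indep i a b c (γ.injective (by rw [map_one]; simpa only [map_mul, map_pow] using hh))
  te := by simp only [MulAut.mul_apply, MulAut.inv_apply_self, h.te, map_pow]
  tl := by simp only [MulAut.mul_apply, MulAut.inv_apply_self, h.tl]
  tz := by simp only [MulAut.mul_apply, MulAut.inv_apply_self, h.tz, map_pow]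
  tx := by
    obtain ⟨b, c, hx⟩ := h.tx
    exact ⟨b, c, by simp only [MulAut.mul_apply, MulAut.inv_apply_self, hx, map_mul, map_pow]⟩

theorem mul_form (h : Frame p t t' e x l z T) (i a b c : ℕ) :
    x ^ i * e ^ a * l ^ b * z ^ c * x = x ^ (i + 1) * e ^ a * l ^ b * z ^ c * (z ^ a)⁻¹ := by
  have h1 : e ^ a * x = x * e ^ a * (z ^ a)⁻¹ := by
    have : x * e ^ a * x⁻¹ = e ^ a * z ^ a := by rw [← conj_pow, h.xe, h.cez.mul_pow]
    rw [mul_inv_eq_iff_eq_mul] at this
    rw [this, mul_assoc, mul_assoc, (h.cxz.pow_right a).inv_right.eq, ← mul_assoc (z ^ a), mul_inv_cancel, one_mul]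
  have h2 : Commute (l ^ b * z ^ c) x := (h.cxl.symm.pow_left b).mul_left (h.cxz.symm.pow_left c)
  calc x ^ i * e ^ a * l ^ b * z ^ c * x = x ^ i * (e ^ a * ((l ^ b * z ^ c) * x)) := by simp only [mul_assoc]
    _ = x ^ i * (e ^ a * x) * (l ^ b * z ^ c) := by rw [h2.eq]; simp only [mul_assoc]
    _ = x ^ (i + 1) * e ^ a * ((z ^ a)⁻¹ * (l ^ b * z ^ c)) := by rw [h1, pow_succ]; simp only [mul_assoc]
    _ = _ := by
      rw [show Commute (z ^ a)⁻¹ (l ^ b * z ^ c) from
        (((h.clz.symm.pow_pow a b).inv_left).mul_right ((Commute.refl z).pow_pow a c).inv_left)]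
      simp only [mul_assoc]

theorem mem_center_iff (h : Frame p t t' e x l z T) (n : N) :
    n ∈ Subgroup.center N ↔ ∃ b c : ℕ, n = l ^ b * z ^ c := by
  constructor
  · intro hn
    obtain ⟨i, a, b, c, rfl⟩ := h.gen n
    have hex : ∀ i : ℕ, x ^ i * e = e * x ^ i * z ^ i := by
      intro i
      induction i with
      | zero => simp
      | succ i ih =>
        have h2 : x * e = e * z * x := mul_inv_eq_iff_eq_mul.1 h.xe
        rw [pow_succ' x, mul_assoc, ih, ← mul_assoc, ← mul_assoc, h2, mul_assoc (e * z), pow_succ' z]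
        simp only [mul_assoc]
        rw [← mul_assoc z x, h.cxz.symm.eq, mul_assoc, ← mul_assoc z (x ^ i), (h.cxz.symm.pow_right i).eq, mul_assoc]
    have hi : (i : ZMod p) = 0 := by
      have h1 := Subgroup.mem_center_iff.1 hn e
      have h2 : x ^ i * e ^ a * l ^ b * z ^ c * e = e * (x ^ i * e ^ a * l ^ b * z ^ c) * z ^ i := by
        have hc1 : Commute (e ^ a * l ^ b * z ^ c) e :=
          (((Commute.refl e).pow_left a).mul_left (h.cel.symm.pow_left b)).mul_left (h.cez.symm.pow_left c)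
        have hc2 : Commute (z ^ i) (e ^ a * l ^ b * z ^ c) :=
          (((h.cez.symm.pow_pow i a)).mul_right (h.clz.symm.pow_pow i b)).mul_right ((Commute.refl z).pow_pow i c)
        calc x ^ i * e ^ a * l ^ b * z ^ c * e = x ^ i * ((e ^ a * l ^ b * z ^ c) * e) := by simp only [mul_assoc]
          _ = (x ^ i * e) * (e ^ a * l ^ b * z ^ c) := by rw [hc1.eq]; simp only [mul_assoc]
          _ = e * x ^ i * (z ^ i * (e ^ a * l ^ b * z ^ c)) := by rw [hex]; simp only [mul_assoc]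
          _ = _ := by rw [hc2.eq]; simp only [mul_assoc]
      rw [← h1] at h2
      have h3 : z ^ i = 1 := mul_left_cancel (h2.symm.trans (mul_one _).symm)
      exact (h.indep 0 0 0 i (by rw [h3]; simp)).2.2.2
    have ha : (a : ZMod p) = 0 := by
      have h1 := Subgroup.mem_center_iff.1 hn x
      rw [h.mul_form, ← mul_assoc, ← mul_assoc, ← mul_assoc, ← pow_succ'] at h1
      have h3 : (z ^ a)⁻¹ = 1 := mul_left_cancel (h1.symm.trans (mul_one _).symm)
      exact (h.indep 0 0 0 a (by rw [inv_eq_one.1 h3]; simp)).2.2.2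
    exact ⟨b, c, by
      rw [pow_val_eq h.xp (m := i) (n := 0) (by simpa using hi), pow_val_eq h.ep (m := a) (n := 0) (by simpa using ha),
        pow_zero, pow_zero, one_mul, one_mul]⟩
  · rintro ⟨b, c, rfl⟩
    refine Subgroup.mem_center_iff.2 fun m => ?_
    obtain ⟨i, a, b', c', rfl⟩ := h.gen m
    exact (((((h.cxl.pow_pow i b).mul_right (h.cxz.pow_pow i c)).mul_left
      ((h.cel.pow_pow a b).mul_right (h.cez.pow_pow a c))).mul_left
      (((Commute.refl l).pow_pow b' b).mul_right (h.clz.pow_pow b' c))).mul_left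
      ((h.clz.symm.pow_pow c' b).mul_right ((Commute.refl z).pow_pow c' c))).eq

theorem commutator_xe (h : Frame p t t' e x l z T) : ⁅x, e⁆ = z := by
  rw [commutatorElement_def, h.xe, h.cez.eq, mul_inv_cancel_right]

end Frame

section

variable {Q : Type*} [Group Q] [Finite Q] {N : Subgroup Q} [N.Normal] {𝒜 : Subgroup (MulAut N)}
variable {t t' : ℕ} {e x l z : N} {T : MulAut N}

/-- The hypotheses shared by the two steps. -/
structure TopData (p : ℕ) (N : Subgroup Q) [N.Normal] (𝒜 : Subgroup (MulAut N)) (t t' : ℕ) (e x l z : N)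
    (T : MulAut N) : Prop where
  frame : Frame p t t' e x l z T
  conj_mem : ∀ q : Q, (MulAut.conjNormal q : MulAut N) ∈ 𝒜
  sylow : ∀ H : Subgroup (MulAut N), H ≤ 𝒜 → IsPGroup p H →
    (MulAut.conjNormal : Q →* MulAut N).range ≤ H → H = (MulAut.conjNormal : Q →* MulAut N).range
  ext : ∀ α ∈ 𝒜, (∀ q : Q, α * MulAut.conjNormal q * α⁻¹ ∈ (MulAut.conjNormal : Q →* MulAut N).range) →
    ∃ B : MulAut Q, ∀ n : N, B n = α n
  mem : T ∈ 𝒜
  unit : ((t * t' : ℕ) : ZMod p) = 1
  ne2 : (t : ZMod p) ^ 2 ≠ 1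
  ne3 : (t : ZMod p) ^ 3 ≠ 1
  ne5 : (t : ZMod p) ^ 5 ≠ 1
  triv : ∀ q : Q, (∀ n : N, n⁻¹ * (MulAut.conjNormal q : MulAut N) n ∈ Subgroup.center N) → q ∈ N

theorem center_invariant (α : MulAut N) {n : N} (hn : n ∈ Subgroup.center N) : α n ∈ Subgroup.center N :=
  Subgroup.mem_center_iff.2 fun m => by
    have := congrArg α (Subgroup.mem_center_iff.1 hn (α⁻¹ m))
    simpa using this

theorem TopData.map (hD : TopData p N 𝒜 t t' e x l z T) {γ : MulAut N} (hγ : γ ∈ 𝒜) :
    TopData p N 𝒜 t t' (γ e) (γ x) (γ l) (γ z) (γ * T * γ⁻¹) where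
  frame := hD.frame.map γ
  conj_mem := hD.conj_mem
  sylow := hD.sylow
  ext := hD.ext
  mem := mul_mem (mul_mem hγ hD.mem) (inv_mem hγ)
  unit := hD.unit
  ne2 := hD.ne2
  ne3 := hD.ne3
  ne5 := hD.ne5
  triv := hD.triv

theorem commutator_mem_zpowers (hD : TopData p N 𝒜 t t' e x l z T) :
    ∀ a b : N, ∃ k : ℕ, ⁅a, b⁆ = z ^ k := by
  have hf := hD.frame
  have hzc : z ∈ Subgroup.center N := (hf.mem_center_iff z).2 ⟨0, 1, by simp⟩
  have : (Subgroup.zpowers z).Normal := ⟨fun w hw n => by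
    obtain ⟨k, rfl⟩ := hw
    show n * z ^ k * n⁻¹ ∈ _
    rw [((show Commute n z from Subgroup.mem_center_iff.1 hzc n).zpow_right k).eq, mul_inv_cancel_right]
    exact ⟨k, rfl⟩⟩
  set ρ := QuotientGroup.mk' (Subgroup.zpowers z)
  have hρ : ∀ {a b : N}, Commute a b → Commute (ρ a) (ρ b) := fun h => h.map ρ
  have hxe : Commute (ρ x) (ρ e) := by
    rw [← commutatorElement_eq_one_iff_commute, ← map_commutatorElement, hf.commutator_xe]
    exact (QuotientGroup.eq_one_iff z).2 (Subgroup.mem_zpowers z)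
  have hz1 : ρ z = 1 := (QuotientGroup.eq_one_iff z).2 (Subgroup.mem_zpowers z)
  intro a b
  have hab : ρ ⁅a, b⁆ = 1 := by
    obtain ⟨i, a', b', c', rfl⟩ := hf.gen a
    obtain ⟨j, a'', b'', c'', rfl⟩ := hf.gen b
    rw [map_commutatorElement, commutatorElement_eq_one_iff_commute]
    simp only [map_mul, map_pow, hz1, one_pow, mul_one]
    exact (((((Commute.refl (ρ x)).pow_pow i j).mul_right (hxe.pow_pow i a'')).mul_right
        ((hρ hf.cxl).pow_pow i b'')).mul_left
      (((hxe.symm.pow_pow a' j).mul_right ((Commute.refl (ρ e)).pow_pow a' a'')).mul_right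
        ((hρ hf.cel).pow_pow a' b''))).mul_left
      ((((hρ hf.cxl).symm.pow_pow b' j).mul_right ((hρ hf.cel).symm.pow_pow b' a'')).mul_right
        ((Commute.refl (ρ l)).pow_pow b' b''))
  obtain ⟨k, hk⟩ := (IsOfFinOrder.powers_eq_zpowers (isOfFinOrder_of_finite z)).symm.subset
    ((QuotientGroup.eq_one_iff _).1 hab)
  exact ⟨k, hk.symm⟩

/-- `z`-line, centre, the line of `x`. -/
theorem aut_z (hD : TopData p N 𝒜 t t' e x l z T) (α : MulAut N) : ∃ k : ℕ, α z = z ^ k := by
  obtain ⟨k, hk⟩ := commutator_mem_zpowers hD (α x) (α e)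
  exact ⟨k, by rw [← hk, ← map_commutatorElement, hD.frame.commutator_xe]⟩

theorem conj_disp (hQ : IsPGroup p Q) (hD : TopData p N 𝒜 t t' e x l z T) (q : Q) :
    (MulAut.conjNormal q : MulAut N) z = z ∧ ∃ k : ℕ, (MulAut.conjNormal q : MulAut N) l = l * z ^ k := by
  have hf := hD.frame
  obtain ⟨j, hj⟩ := hQ q
  set χ := (MulAut.conjNormal q : MulAut N)
  have hχ : χ ^ p ^ j = 1 := by rw [← map_pow, hj, map_one]
  have hcen : Subgroup.center N ≤ Subgroup.normalizer ((Subgroup.zpowers z : Subgroup N) : Set N) := fun c hc =>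
    Subgroup.mem_normalizer_iff.2 fun n => by
      rw [← Subgroup.mem_center_iff.1 hc n, mul_inv_cancel_right]
  have hzne : z ≠ 1 := fun h => by
    have := (hf.indep 0 0 0 1 (by rw [h]; simp)).2.2.2
    simp at this
  have hzcard : Nat.card (Subgroup.zpowers z) = p := by
    rw [Nat.card_zpowers]; exact orderOf_eq_prime hf.zp hzne
  have hχZ : ∀ w ∈ Subgroup.zpowers z, χ w ∈ Subgroup.zpowers z := by
    rintro _ ⟨k, rfl⟩
    obtain ⟨m, hm⟩ := aut_z hD χ
    show χ (z ^ k) ∈ _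
    rw [map_zpow, hm]
    exact Subgroup.zpow_mem _ (Subgroup.pow_mem _ (Subgroup.mem_zpowers z) m) k
  refine ⟨?_, ?_⟩
  · have h1 := CfsgLib.Fusion.EssentialCube.disp_mem_of_pow (M := (⊥ : Subgroup N)) (N := Subgroup.zpowers z) bot_le
      (le_top.trans (Subgroup.normalizer_eq_top_iff.2 inferInstance).ge) (by rw [hzcard, Subgroup.card_bot, mul_one])
      hχ (fun w hw => by simp_all) hχZ z (Subgroup.mem_zpowers z)
    exact (inv_mul_eq_one.1 (Subgroup.mem_bot.1 h1)).symm
  · have hle : Subgroup.zpowers z ≤ Subgroup.center N :=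
      Subgroup.zpowers_le.2 ((hf.mem_center_iff z).2 ⟨0, 1, by simp⟩)
    have hcard : Nat.card (Subgroup.center N) = p * Nat.card (Subgroup.zpowers z) := by
      let F : ZMod p × ZMod p → Subgroup.center N := fun s =>
        ⟨l ^ s.1.val * z ^ s.2.val, (hf.mem_center_iff _).2 ⟨_, _, rfl⟩⟩
      have hF : Function.Bijective F := by
        refine ⟨fun s s' hs => ?_, fun ⟨w, hw⟩ => ?_⟩
        · have h := congrArg Subtype.val hs
          simp only [F] at h
          obtain ⟨n1, hn1⟩ : ∃ n : ℕ, (n : ZMod p) = -s'.1 := ⟨_, ZMod.natCast_zmod_val _⟩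
          obtain ⟨n2, hn2⟩ : ∃ n : ℕ, (n : ZMod p) = -s'.2 := ⟨_, ZMod.natCast_zmod_val _⟩
          obtain ⟨-, -, e1, e2⟩ := hf.indep 0 0 (s.1.val + n1) (s.2.val + n2) (by
            rw [pow_zero, pow_zero, one_mul, one_mul, pow_add, pow_add, mul_assoc, ← mul_assoc (l ^ n1),
              (hf.clz.pow_pow n1 s.2.val).eq, mul_assoc, ← mul_assoc (l ^ s.1.val), h, mul_assoc,
              ← mul_assoc (z ^ s'.2.val), (hf.clz.symm.pow_pow s'.2.val n1).eq, mul_assoc, ← pow_add, ← mul_assoc,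
              ← pow_add, pow_val_eq hf.lp (n := 0) (by simp [hn1]), pow_val_eq hf.zp (n := 0) (by simp [hn2]),
              pow_zero, pow_zero, one_mul])
          rw [Nat.cast_add, ZMod.natCast_zmod_val, hn1, ← sub_eq_add_neg, sub_eq_zero] at e1
          rw [Nat.cast_add, ZMod.natCast_zmod_val, hn2, ← sub_eq_add_neg, sub_eq_zero] at e2
          exact Prod.ext e1 e2
        · obtain ⟨b, c, rfl⟩ := (hf.mem_center_iff w).1 hw
          refine ⟨((b : ZMod p), (c : ZMod p)), Subtype.ext ?_⟩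
          show l ^ (b : ZMod p).val * z ^ (c : ZMod p).val = _
          rw [pow_val_eq hf.lp (m := (b : ZMod p).val) (n := b) (by rw [ZMod.natCast_zmod_val]),
            pow_val_eq hf.zp (m := (c : ZMod p).val) (n := c) (by rw [ZMod.natCast_zmod_val])]
      rw [← Nat.card_congr (Equiv.ofBijective F hF), Nat.card_prod, Nat.card_zmod, hzcard]
    have h1 := CfsgLib.Fusion.EssentialCube.disp_mem_of_pow hle hcen hcard hχ hχZ
      (fun w hw => center_invariant χ hw) l ((hf.mem_center_iff l).2 ⟨1, 0, by simp⟩)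
    obtain ⟨k, hk⟩ := (IsOfFinOrder.powers_eq_zpowers (isOfFinOrder_of_finite z)).symm.subset h1
    exact ⟨k, by rw [show z ^ k = l⁻¹ * χ l from hk, mul_inv_cancel_left]⟩

/-- The line of `x` together with the centre. -/
theorem disp_line (hQ : IsPGroup p Q) (hD : TopData p N 𝒜 t t' e x l z T) (hline : ∀ q : Q,
    x⁻¹ * (MulAut.conjNormal q : MulAut N) x ∈ Subgroup.center N) (q : Q) :
    ∃ j : ℕ, ∃ c ∈ Subgroup.center N, (MulAut.conjNormal q : MulAut N) e = e * x ^ j * c := by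
  have hf := hD.frame
  obtain ⟨k, hk⟩ := hQ q
  set χ := (MulAut.conjNormal q : MulAut N)
  have hχ : χ ^ p ^ k = 1 := by rw [← map_pow, hk, map_one]
  set C := Subgroup.center N
  set ρ := QuotientGroup.mk' C
  set D : Subgroup N := (Subgroup.zpowers (ρ x)).comap ρ with hDdef
  have hρc : ∀ c ∈ C, ρ c = 1 := fun c hc => (QuotientGroup.eq_one_iff c).2 hc
  have hform : ∀ i a b c : ℕ, ρ (x ^ i * e ^ a * l ^ b * z ^ c) = ρ x ^ i * ρ e ^ a := fun i a b c => by
    rw [mul_assoc _ (l ^ b), map_mul, hρc _ ((hf.mem_center_iff _).2 ⟨b, c, rfl⟩), mul_one, map_mul, map_pow, map_pow]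
  have hcomm : Commute (ρ x) (ρ e) := by
    rw [← commutatorElement_eq_one_iff_commute, ← map_commutatorElement, hf.commutator_xe]
    exact hρc _ ((hf.mem_center_iff z).2 ⟨0, 1, by simp⟩)
  have hnorm : (⊤ : Subgroup N) ≤ Subgroup.normalizer (D : Set N) := fun m _ => by
    have hDC : C ≤ D := fun c hc => by
      refine Subgroup.mem_comap.2 ?_
      rw [hρc c hc]; exact one_mem _
    refine Subgroup.mem_normalizer_iff.2 fun n => ?_
    obtain ⟨a, ha⟩ := commutator_mem_zpowers hD m n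
    have h1 : ⁅m, n⁆ ∈ D := by
      rw [ha]; exact hDC (Subgroup.pow_mem _ ((hf.mem_center_iff z).2 ⟨0, 1, by simp⟩) a)
    rw [show m * n * m⁻¹ = ⁅m, n⁆ * n by rw [commutatorElement_def, inv_mul_cancel_right]]
    exact ⟨fun h => D.mul_mem h1 h, fun h => (D.mul_mem_cancel_left h1).1 h⟩
  have hcard : Nat.card (⊤ : Subgroup N) = p * Nat.card D := by
    rw [Subgroup.card_top, ← D.index_mul_card]
    congr 1
    rw [hDdef, Subgroup.index_comap_of_surjective _ (QuotientGroup.mk'_surjective C)]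
    let F : ZMod p → (N ⧸ C) ⧸ Subgroup.zpowers (ρ x) := fun a => QuotientGroup.mk (ρ e ^ a.val)
    have hρp : ρ e ^ p = 1 := by rw [← map_pow, hf.ep, map_one]
    have hF : Function.Bijective F := by
      refine ⟨fun a a' h => ?_, fun w => ?_⟩
      · obtain ⟨i, hi⟩ := (IsOfFinOrder.powers_eq_zpowers (isOfFinOrder_of_finite (ρ x))).symm.subset
          (QuotientGroup.eq.1 h)
        obtain ⟨n, hn⟩ : ∃ n : ℕ, (n : ZMod p) = -a := ⟨_, ZMod.natCast_zmod_val _⟩
        have h2 : ρ x ^ i = ρ e ^ (n + a'.val) := by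
          rw [show ρ x ^ i = (ρ e ^ a.val)⁻¹ * ρ e ^ a'.val from hi, pow_add]
          congr 1
          rw [inv_eq_iff_mul_eq_one, ← pow_add]
          exact (pow_val_eq hρp (n := 0) (by simp [hn])).trans (pow_zero _)
        obtain ⟨m, hm⟩ : ∃ m : ℕ, (m : ZMod p) = -((n + a'.val : ℕ) : ZMod p) := ⟨_, ZMod.natCast_zmod_val _⟩
        have h3 : x ^ i * e ^ m ∈ C := by
          refine (QuotientGroup.eq_one_iff _).1 ?_
          show ρ (x ^ i * e ^ m) = 1
          rw [map_mul, map_pow, map_pow, h2, ← pow_add]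
          exact (pow_val_eq hρp (n := 0) (by simp [hm])).trans (pow_zero _)
        obtain ⟨b, c, hbc⟩ := (hf.mem_center_iff _).1 h3
        obtain ⟨nb, hnb⟩ : ∃ m : ℕ, (m : ZMod p) = -(b : ZMod p) := ⟨_, ZMod.natCast_zmod_val _⟩
        obtain ⟨nc, hnc⟩ : ∃ m : ℕ, (m : ZMod p) = -(c : ZMod p) := ⟨_, ZMod.natCast_zmod_val _⟩
        obtain ⟨-, e1, -⟩ := hf.indep i m nb nc (by
          rw [hbc, mul_assoc (l ^ b) (z ^ c), (hf.clz.symm.pow_pow c nb).eq, ← mul_assoc (l ^ b), ← pow_add,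
            mul_assoc, ← pow_add, pow_val_eq hf.lp (n := 0) (by simp [hnb]),
            pow_val_eq hf.zp (n := 0) (by simp [hnc]), pow_zero, pow_zero, one_mul])
        rw [hm, neg_eq_zero, Nat.cast_add, hn, ZMod.natCast_zmod_val, neg_add_eq_zero] at e1
        exact e1
      · obtain ⟨w, rfl⟩ := QuotientGroup.mk_surjective w
        obtain ⟨n, rfl⟩ := QuotientGroup.mk'_surjective C w
        obtain ⟨i, a, b, c, rfl⟩ := hf.gen n
        refine ⟨(a : ZMod p), QuotientGroup.eq.2 ?_⟩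
        show (ρ e ^ (a : ZMod p).val)⁻¹ * ρ (x ^ i * e ^ a * l ^ b * z ^ c) ∈ _
        rw [hform, pow_val_eq hρp (m := (a : ZMod p).val) (n := a) (by rw [ZMod.natCast_zmod_val]),
          (hcomm.pow_pow i a).eq, inv_mul_cancel_left]
        exact Subgroup.pow_mem _ (Subgroup.mem_zpowers _) i
    exact ((Nat.card_congr (Equiv.ofBijective F hF)).symm.trans (Nat.card_zmod p)).trans rfl
  have hχD : ∀ w ∈ D, χ w ∈ D := by
    intro w hw
    obtain ⟨i, hi⟩ := (IsOfFinOrder.powers_eq_zpowers (isOfFinOrder_of_finite (ρ x))).symm.subset hw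
    have h1 : (x ^ i)⁻¹ * w ∈ C := (QuotientGroup.eq_one_iff _).1 (by
      show ρ ((x ^ i)⁻¹ * w) = 1
      rw [map_mul, map_inv, map_pow, show ρ x ^ i = ρ w from hi, inv_mul_cancel])
    show ρ (χ w) ∈ Subgroup.zpowers (ρ x)
    have hρχx : ρ (χ x) = ρ x := by
      rw [show χ x = x * (x⁻¹ * χ x) by group, map_mul, hρc _ (hline q), mul_one]
    rw [show w = x ^ i * ((x ^ i)⁻¹ * w) by group, map_mul χ, map_mul ρ, hρc _ (center_invariant χ h1), mul_one,
      map_pow χ, map_pow ρ, hρχx]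
    exact Subgroup.pow_mem _ (Subgroup.mem_zpowers _) i
  have h1 := CfsgLib.Fusion.EssentialCube.disp_mem_of_pow le_top hnorm hcard hχ hχD
    (fun w _ => Subgroup.mem_top _) e (Subgroup.mem_top e)
  obtain ⟨j, hj⟩ := (IsOfFinOrder.powers_eq_zpowers (isOfFinOrder_of_finite (ρ x))).symm.subset h1
  refine ⟨j, (e * x ^ j)⁻¹ * χ e, (QuotientGroup.eq_one_iff _).1 ?_, by group⟩
  show ρ ((e * x ^ j)⁻¹ * χ e) = 1
  rw [map_mul, map_inv, map_mul, map_pow, show ρ x ^ j = ρ (e⁻¹ * χ e) from hj, map_mul, map_inv,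
    mul_inv_cancel_left, inv_mul_cancel]

end

end CfsgLib.FusionRankThree
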